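import Groth.Agent.L25.MultType.Cover
import Mathlib.RingTheory.Bialgebra.MonoidAlgebra
import Mathlib.RingTheory.TensorProduct.Basic
import Mathlib.LinearAlgebra.TensorProduct.Basis

/-!
# Base change of diagonalisable Hopf algebras
-/

set_option autoImplicit false

universe u

open TensorProduct

namespace Groth.L25.MultType

variable (R S : Type*) [CommRing R] [CommRing S] [Algebra R S] (M : Type*) [CommGroup M]

/-- The group-like element `1 ⊗ m`. -/
noncomputable def tmulOf : M →* GroupLike S (S ⊗[R] MonoidAlgebra R M) where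
  toFun m := ⟨(1 : S) ⊗ₜ MonoidAlgebra.single m 1, by
    constructor
    · simp
    · rw [TensorProduct.comul_tmul]
      simp [MonoidAlgebra.comul_single]⟩
  map_one' := GroupLike.ext rfl
  map_mul' m m' := GroupLike.ext (by
    simp [Algebra.TensorProduct.tmul_mul_tmul])

/-- The canonical map `S[M] → S ⊗ R[M]`. -/
noncomputable def scalarHom : MonoidAlgebra S M →ₐc[S] S ⊗[R] MonoidAlgebra R M :=
  (MonoidAlgebra.liftGroupLikeBialgHom).comp (MonoidAlgebra.mapDomainBialgHom S (tmulOf R S M))

theorem scalarHom_single (m : M) (s : S) :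
    scalarHom R S M (MonoidAlgebra.single m s) = s ⊗ₜ MonoidAlgebra.single m 1 := by
  simp [scalarHom, tmulOf, TensorProduct.smul_tmul']

theorem scalarHom_bijective : Function.Bijective (scalarHom R S M) := by
  let bR : Module.Basis M R (MonoidAlgebra R M) :=
    Module.Basis.ofRepr (MonoidAlgebra.coeffLinearEquiv R)
  let b := bR.baseChange S
  let bS : Module.Basis M S (MonoidAlgebra S M) :=
    Module.Basis.ofRepr (MonoidAlgebra.coeffLinearEquiv S)
  have : (scalarHom R S M : MonoidAlgebra S M →ₐc[S] _).toLinearMap =
      (bS.equiv b (Equiv.refl M)).toLinearMap := by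
    refine bS.ext fun m => ?_
    rw [LinearEquiv.coe_coe, Module.Basis.equiv_apply, Equiv.refl_apply]
    change scalarHom R S M (bS m) = b m
    rw [Module.Basis.baseChange_apply]
    have h1 : bS m = MonoidAlgebra.single m 1 := by
      simp [bS]
    have h2 : bR m = MonoidAlgebra.single m 1 := by
      simp [bR]
    rw [h1, h2, scalarHom_single]
  have h : (scalarHom R S M : MonoidAlgebra S M → _) = bS.equiv b (Equiv.refl M) :=
    funext fun x => LinearMap.congr_fun this x
  rw [h]
  exact LinearEquiv.bijective _

/-- `S[M] ≃ S ⊗ R[M]` as bialgebras. -/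
noncomputable def scalarBialg : MonoidAlgebra S M ≃ₐc[S] S ⊗[R] MonoidAlgebra R M :=
  BialgEquiv.ofBijective (scalarHom R S M) (scalarHom_bijective R S M)

/-- Base change of a bialgebra equivalence. -/
noncomputable def baseChangeEquiv {A B : Type*} [CommRing A] [CommRing B] [Bialgebra R A]
    [Bialgebra R B] (e : A ≃ₐc[R] B) : S ⊗[R] A ≃ₐc[S] S ⊗[R] B :=
  BialgEquiv.ofBijective (Bialgebra.TensorProduct.map (BialgHom.id S S) (e : A →ₐc[R] B))
    (Function.bijective_iff_has_inverse.2
      ⟨Bialgebra.TensorProduct.map (BialgHom.id S S) (e.symm : B →ₐc[R] A),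
      fun z => by
        induction z using TensorProduct.induction_on with
        | zero => simp
        | tmul s a => simp
        | add x y hx hy => simp only [map_add, hx, hy],
      fun z => by
        induction z using TensorProduct.induction_on with
        | zero => simp
        | tmul s a => simp
        | add x y hx hy => simp only [map_add, hx, hy]⟩)

theorem isDiag_baseChange {R S : Type u} [CommRing R] [CommRing S] [Algebra R S] {A : Type u}
    [CommRing A] [HopfAlgebra R A] (h : SGA3b.IsDiag R A) : SGA3b.IsDiag S (S ⊗[R] A) := by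
  obtain ⟨M, _, ⟨e⟩⟩ := h
  exact ⟨M, inferInstance, ⟨(baseChangeEquiv R S e).trans (scalarBialg R S M).symm⟩⟩

/-- Further base change of a splitting. -/
theorem isDiag_of_tower {R R' T : Type u} [CommRing R] [CommRing R'] [CommRing T] [Algebra R R']
    [Algebra R T] [Algebra R' T] [IsScalarTower R R' T] {A : Type u} [CommRing A] [HopfAlgebra R A]
    (h : SGA3b.IsDiag R' (R' ⊗[R] A)) : SGA3b.IsDiag T (T ⊗[R] A) :=
  isDiag_of_bialgEquiv (cancelBialg R R' T A) (isDiag_baseChange (S := T) h)

/-- Over a local ring the splitting can be chosen local and faithfully flat. -/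
theorem exists_local_split {R : Type u} [CommRing R] [IsLocalRing R] {A : Type u} [CommRing A]
    [HopfAlgebra R A] (hA : SGA3b.IsMultType R A) :
    ∃ (R' : Type u) (_ : CommRing R') (_ : Algebra R R'), IsLocalRing R' ∧
      IsLocalHom (algebraMap R R') ∧ Module.FaithfullyFlat R R' ∧
        SGA3b.IsDiag R' (R' ⊗[R] A) := by
  obtain ⟨s, hs, hsplit⟩ := exists_split hA
  obtain ⟨f, hf, hfu⟩ : ∃ f ∈ s, IsUnit f := by
    by_contra hcon
    push Not at hcon
    have h : Ideal.span s ≤ IsLocalRing.maximalIdeal R :=
      Ideal.span_le.2 fun f hf => hcon f hf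
    rw [hs, top_le_iff] at h
    exact (IsLocalRing.maximalIdeal.isMaximal R).ne_top h
  obtain ⟨R', _, _, _, _, hff, hd⟩ := hsplit f hf
  have hbij : Function.Bijective (algebraMap R (Localization.Away f)) :=
    (IsLocalization.atUnits R (Submonoid.powers f) (S := Localization.Away f) (by
      rintro x ⟨n, rfl⟩
      exact hfu.pow n)).bijective
  haveI : Module.FaithfullyFlat R (Localization.Away f) :=
    Module.FaithfullyFlat.of_linearEquiv R R
      (LinearEquiv.ofBijective (Algebra.linearMap R (Localization.Away f)) hbij).symm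
  haveI : Module.FaithfullyFlat R R' := Module.FaithfullyFlat.trans R (Localization.Away f) R'
  obtain ⟨q, hq, hlies⟩ := Ideal.exists_isPrime_liesOver_of_faithfullyFlat (B := R')
    (IsLocalRing.maximalIdeal R)
  let R'' := Localization.AtPrime q
  haveI : Module.Flat R R'' := Module.Flat.trans R R' R''
  haveI : IsLocalHom (algebraMap R R'') := by
    constructor
    intro r hr
    by_contra hn
    have h1 : algebraMap R R' r ∈ q := by
      have : r ∈ q.under R := hlies.over ▸ hn
      exact this
    rw [IsScalarTower.algebraMap_apply R R' R'',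
      IsLocalization.AtPrime.isUnit_to_map_iff R'' q] at hr
    exact hr h1
  exact ⟨R'', inferInstance, inferInstance, inferInstance, inferInstance,
    Module.FaithfullyFlat.of_flat_of_isLocalHom, isDiag_of_tower (T := R'') hd⟩

/-- Multiplicative type is stable under base change. -/
theorem isMultType_baseChange {R T : Type u} [CommRing R] [CommRing T] [Algebra R T] {A : Type u}
    [CommRing A] [HopfAlgebra R A] (hA : SGA3b.IsMultType R A) :
    SGA3b.IsMultType T (T ⊗[R] A) := by
  obtain ⟨s, hs, hsplit⟩ := exists_split hA
  refine ⟨algebraMap R T '' s, ?_, ?_⟩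
  · rw [← Ideal.map_span, hs, Ideal.map_top]
  rintro _ ⟨f, hf, rfl⟩
  obtain ⟨R', _, _, _, _, hff, hd⟩ := hsplit f hf
  let Tg := Localization.Away (algebraMap R T f)
  let ρ : Localization.Away f →+* Tg := IsLocalization.Away.lift f
    (g := (algebraMap T Tg).comp (algebraMap R T))
    (IsLocalization.Away.algebraMap_isUnit (S := Tg) (algebraMap R T f))
  letI : Algebra (Localization.Away f) Tg := ρ.toAlgebra
  haveI : IsScalarTower R (Localization.Away f) Tg := IsScalarTower.of_algebraMap_eq fun r => by
    change algebraMap R Tg r = ρ (algebraMap R (Localization.Away f) r)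
    rw [IsScalarTower.algebraMap_apply R T Tg]
    exact (IsLocalization.Away.lift_eq f
      (g := (algebraMap T Tg).comp (algebraMap R T)) (IsLocalization.Away.algebraMap_isUnit (S := Tg) (algebraMap R T f)) r).symm
  let T' := Tg ⊗[Localization.Away f] R'
  letI : Algebra R' T' := Algebra.TensorProduct.rightAlgebra
  haveI : IsScalarTower R R' T' := IsScalarTower.of_algebraMap_eq fun r => by
    change (algebraMap R Tg r) ⊗ₜ[Localization.Away f] (1 : R') = (1 : Tg) ⊗ₜ algebraMap R R' r
    rw [IsScalarTower.algebraMap_apply R (Localization.Away f) Tg,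
      IsScalarTower.algebraMap_apply R (Localization.Away f) R']
    generalize algebraMap R (Localization.Away f) r = a
    rw [← _root_.mul_one (algebraMap (Localization.Away f) Tg a), ← Algebra.smul_def,
      TensorProduct.smul_tmul, Algebra.smul_def, _root_.mul_one]
  refine ⟨T', inferInstance, inferInstance, inferInstance, ?_⟩
  have h1 : SGA3b.IsDiag T' (T' ⊗[R] A) := isDiag_of_tower (T := T') hd
  exact isDiag_of_bialgEquiv ((baseChangeEquiv Tg T' (cancelBialg R T Tg A)).trans
    (cancelBialg R Tg T' A)).symm h1

end Groth.L25.MultType
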