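import Groth.Agent.L25.MultType.Rigid
import Groth.Agent.L25.MultType.Diag
import Mathlib.RingTheory.Idempotents
import Mathlib.RingTheory.Flat.Basic
import Mathlib.RingTheory.Flat.FaithfullyFlat.Basic
import Mathlib.RingTheory.Flat.Equalizer

/-!
# Nilpotent deformations of diagonalisable groups are diagonalisable

A flat Hopf algebra which is a group algebra modulo a nilpotent ideal is a group algebra: the
coordinate idempotents of the convolution algebra lift, and the images of the corresponding
translation projections are free of rank one, generated by group-like elements.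
-/

set_option autoImplicit false

universe u

open TensorProduct WithConv

namespace Groth.L25.MultType

variable {R : Type u} [CommRing R] {C : Type u} [CommRing C] [HopfAlgebra R C] {I : Ideal R}

/-- A submodule generated by one element modulo a nilpotent ideal. -/
theorem le_of_le_sup_smul {V : Type u} [AddCommGroup V] [Module R V] (hI : IsNilpotent I)
    {P N : Submodule R V} (h : P ≤ N ⊔ I • P) : P ≤ N := by
  obtain ⟨n, hn⟩ := hI
  have : ∀ k, P ≤ N ⊔ I ^ k • P := by
    intro k
    induction k with
    | zero => rw [pow_zero, Ideal.one_eq_top, Submodule.top_smul]; exact le_sup_right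
    | succ k ih =>
      refine ih.trans (sup_le le_sup_left ?_)
      refine (Submodule.smul_mono le_rfl h).trans ?_
      rw [Submodule.smul_sup, ← Submodule.mul_smul, ← pow_succ]
      exact sup_le (le_sup_of_le_left Submodule.smul_le_right) le_sup_right
  refine (this n).trans (sup_le le_rfl ?_)
  rw [hn, Ideal.zero_eq_bot, Submodule.bot_smul]
  exact bot_le

/-- Left translation by a functional. -/
noncomputable def transL (f : C →ₗ[R] R) : C →ₗ[R] C :=
  (TensorProduct.lid R C).toLinearMap ∘ₗ f.rTensor C ∘ₗ Coalgebra.comul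

theorem transL_apply (f : C →ₗ[R] R) (c : C) :
    transL f c = TensorProduct.lid R C (f.rTensor C (Coalgebra.comul c)) := rfl

theorem comul_transL (f : C →ₗ[R] R) (c : C) :
    Coalgebra.comul (R := R) (transL f c) = (transL f).rTensor C (Coalgebra.comul c) := by
  have h1 : ∀ w : C ⊗[R] C, Coalgebra.comul (R := R) (TensorProduct.lid R C (f.rTensor C w)) =
      TensorProduct.lid R (C ⊗[R] C)
        (f.rTensor (C ⊗[R] C) ((Coalgebra.comul (R := R)).lTensor C w)) := by
    intro w
    induction w using TensorProduct.induction_on with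
    | zero => simp
    | tmul p q => simp
    | add p q hp hq => simp only [map_add, hp, hq]
  have h2 : ∀ z : C ⊗[R] C ⊗[R] C,
      ((TensorProduct.lid R C).toLinearMap ∘ₗ f.rTensor C).rTensor C z =
        TensorProduct.lid R (C ⊗[R] C)
          (f.rTensor (C ⊗[R] C) (TensorProduct.assoc R C C C z)) := by
    intro z
    induction z using TensorProduct.induction_on with
    | zero => simp
    | tmul p q =>
      induction p using TensorProduct.induction_on with
      | zero => simp
      | tmul a b => simp [TensorProduct.smul_tmul']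
      | add a b ha hb => simp only [TensorProduct.add_tmul, map_add, ha, hb]
    | add p q hp hq => simp only [map_add, hp, hq]
  rw [transL_apply, h1, ← Coalgebra.coassoc_apply, ← h2]
  simp only [transL, ← LinearMap.rTensor_comp_apply, LinearMap.comp_assoc]

theorem apply_transL (f g : C →ₗ[R] R) (c : C) :
    f (transL g c) = (toConv g * toConv f).ofConv c := by
  simp only [transL_apply, LinearMap.convMul_def, LinearMap.comp_apply, WithConv.ofConv_toConv]
  generalize Coalgebra.comul (R := R) c = w
  induction w using TensorProduct.induction_on with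
  | zero => simp
  | tmul p q => simp
  | add p q hp hq => simp only [map_add, hp, hq]

theorem transL_transL (f g : C →ₗ[R] R) (c : C) :
    transL f (transL g c) = transL ((toConv g * toConv f).ofConv) c := by
  rw [transL_apply f, comul_transL, transL_apply, ← LinearMap.rTensor_comp_apply]
  rw [show f ∘ₗ transL g = (toConv g * toConv f).ofConv from LinearMap.ext (apply_transL f g),
    ← transL_apply]

theorem transL_groupLike (f : C →ₗ[R] R) {x : C} (hx : IsGroupLikeElem R x) :
    transL f x = f x • x := by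
  rw [transL_apply, hx.comul_eq_tmul_self]
  simp

variable (I) in
/-- Reduction of functionals. -/
noncomputable def redF (f : C →ₗ[R] R) : (R ⧸ I) ⊗[R] C →ₗ[R ⧸ I] R ⧸ I :=
  (AlgebraTensorModule.rid R (R ⧸ I) (R ⧸ I)).toLinearMap ∘ₗ f.baseChange (R ⧸ I)

theorem redF_tmul (f : C →ₗ[R] R) (r : R ⧸ I) (c : C) : redF I f (r ⊗ₜ c) = f c • r := by
  simp [redF]

variable (I) in
/-- Reduction of the convolution algebra. -/
noncomputable def red :
    WithConv (C →ₗ[R] R) →+* WithConv ((R ⧸ I) ⊗[R] C →ₗ[R ⧸ I] R ⧸ I) where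
  toFun f := toConv (redF I f.ofConv)
  map_one' := by
    refine WithConv.ext (LinearMap.ext fun z => ?_)
    induction z using TensorProduct.induction_on with
    | zero => simp
    | tmul r c => simp [redF_tmul, LinearMap.convOne_def, TensorProduct.counit_tmul]
    | add p q hp hq => simp only [map_add, hp, hq]
  map_zero' := by
    refine WithConv.ext (LinearMap.ext fun z => ?_)
    induction z using TensorProduct.induction_on with
    | zero => simp
    | tmul r c => simp [redF_tmul]
    | add p q hp hq => simp only [map_add, hp, hq]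
  map_add' f g := by
    refine WithConv.ext (LinearMap.ext fun z => ?_)
    induction z using TensorProduct.induction_on with
    | zero => simp
    | tmul r c => simp [redF_tmul, add_smul]
    | add p q hp hq => simp only [map_add, hp, hq]
  map_mul' f g := by
    refine WithConv.ext (LinearMap.ext fun z => ?_)
    induction z using TensorProduct.induction_on with
    | zero => simp
    | tmul r c =>
      simp only [WithConv.ofConv_toConv, redF_tmul, LinearMap.convMul_def, LinearMap.comp_apply,
        TensorProduct.comul_tmul]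
      generalize Coalgebra.comul (R := R) c = w
      induction w using TensorProduct.induction_on with
      | zero => simp
      | tmul p q =>
        simp [redF_tmul, Algebra.smul_def, mul_comm, mul_left_comm]
      | add p q hp hq => simp only [TensorProduct.tmul_add, map_add, add_smul, hp, hq]
    | add p q hp hq => simp only [map_add, hp, hq]

theorem red_apply_tmul (f : WithConv (C →ₗ[R] R)) (r : R ⧸ I) (c : C) :
    (red I f).ofConv (r ⊗ₜ c) = f.ofConv c • r := redF_tmul ..

theorem isNilpotent_of_mem_ker_red (hI : IsNilpotent I) {f : WithConv (C →ₗ[R] R)}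
    (hf : f ∈ RingHom.ker (red I)) : IsNilpotent f := by
  refine isNilpotent_of_mem hI fun c => ?_
  have := LinearMap.congr_fun (congrArg WithConv.ofConv (RingHom.mem_ker.1 hf)) ((1 : R ⧸ I) ⊗ₜ c)
  rw [red_apply_tmul, Algebra.smul_def, mul_one] at this
  exact Ideal.Quotient.eq_zero_iff_mem.1 this

section flat

theorem mem_smul_ker_of_flat {F V : Type u} [AddCommGroup F] [Module R F] [AddCommGroup V]
    [Module R V] [Module.Flat R V] (L : F →ₗ[R] V) (hs : Function.Surjective L) {z : F}
    (hz : z ∈ LinearMap.ker L) (h1 : (1 : R ⧸ I) ⊗ₜ[R] z = 0) : z ∈ I • LinearMap.ker L := by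
  have hinj : Function.Injective ((LinearMap.ker L).subtype.lTensor (R ⧸ I)) :=
    LinearMap.lTensor_injective_of_exact_of_flat (M := ↥(LinearMap.ker L)) L hs
      (LinearMap.ker L).subtype (Submodule.subtype_injective _)
      (LinearMap.exact_subtype_ker_map L) (R ⧸ I)
  have h3 : ((1 : R ⧸ I) ⊗ₜ[R] (⟨z, hz⟩ : LinearMap.ker L)) = 0 :=
    (injective_iff_map_eq_zero _).1 hinj _ (by rw [LinearMap.lTensor_tmul, Submodule.subtype_apply, h1])
  have h4 := congrArg (TensorProduct.quotTensorEquivQuotSMul ↥(LinearMap.ker L) I) h3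
  rw [map_zero, TensorProduct.quotTensorEquivQuotSMul_mk_one_tmul,
    Submodule.Quotient.mk_eq_zero] at h4
  have h5 := Submodule.mem_map_of_mem (f := (LinearMap.ker L).subtype) h4
  rwa [Submodule.map_smul'', Submodule.map_subtype_top] at h5

variable [Module.Flat R C]

/-- A flat module free modulo a nilpotent ideal is free. -/
theorem exists_basis (hI : IsNilpotent I) {ι : Type u}
    (b₀ : Module.Basis ι (R ⧸ I) ((R ⧸ I) ⊗[R] C)) :
    ∃ b : Module.Basis ι R C, ∀ i, (1 : R ⧸ I) ⊗ₜ[R] b i = b₀ i := by
  classical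
  have hsurj : ∀ z : (R ⧸ I) ⊗[R] C, ∃ c : C, (1 : R ⧸ I) ⊗ₜ[R] c = z :=
    TensorProduct.mk_surjective R C (R ⧸ I) Ideal.Quotient.mk_surjective
  choose v hv using fun i => hsurj (b₀ i)
  let L := Finsupp.linearCombination R v
  have hL : ∀ z, (1 : R ⧸ I) ⊗ₜ[R] L z =
      Finsupp.linearCombination (R ⧸ I) b₀ (z.mapRange (algebraMap R (R ⧸ I)) (map_zero _)) := by
    intro z
    induction z using Finsupp.induction_linear with
    | zero => simp
    | add p q hp hq =>
      rw [map_add, TensorProduct.tmul_add, hp, hq, Finsupp.mapRange_add (by simp), map_add]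
    | single i r =>
      simp only [L, Finsupp.linearCombination_single, Finsupp.mapRange_single,
        TensorProduct.tmul_smul, hv, algebraMap_smul]
  have hsL : Function.Surjective L := by
    rw [← LinearMap.range_eq_top, eq_top_iff]
    refine le_of_le_sup_smul hI fun c _ => ?_
    let w := b₀.repr ((1 : R ⧸ I) ⊗ₜ[R] c)
    obtain ⟨z, hz⟩ := Finsupp.mapRange_surjective (algebraMap R (R ⧸ I)) (map_zero _)
      Ideal.Quotient.mk_surjective w
    refine Submodule.mem_sup.2 ⟨L z, ⟨z, rfl⟩, c - L z, ?_, add_sub_cancel _ _⟩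
    refine mem_smul_top_of_one_tmul_eq_zero ?_
    rw [TensorProduct.tmul_sub, hL, hz, Module.Basis.linearCombination_repr, sub_self]
  have hiL : Function.Injective L := by
    rw [← LinearMap.ker_eq_bot, eq_bot_iff]
    refine le_of_le_sup_smul hI fun z hz => Submodule.mem_sup_right ?_
    have h0 : z.mapRange (algebraMap R (R ⧸ I)) (map_zero _) = 0 := by
      have := hL z
      rw [LinearMap.mem_ker.1 hz, TensorProduct.tmul_zero] at this
      exact b₀.linearIndependent (this.symm.trans (map_zero _).symm)
    have h1 : (1 : R ⧸ I) ⊗ₜ[R] z = 0 := by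
      refine (TensorProduct.finsuppScalarRight R R (R ⧸ I) ι).injective ?_
      ext i
      rw [TensorProduct.finsuppScalarRight_apply_tmul_apply, map_zero, Finsupp.zero_apply,
        Algebra.smul_def, mul_one]
      exact DFunLike.congr_fun h0 i
    have h5 := mem_smul_ker_of_flat L hsL hz h1
    exact h5
  refine ⟨Module.Basis.ofRepr (LinearEquiv.ofBijective L ⟨hiL, hsL⟩).symm, fun i => ?_⟩
  simp [L, hv]

/-- Idempotent functionals lift. -/
theorem exists_lift_idem (hI : IsNilpotent I) {ι : Type u}
    (b₀ : Module.Basis ι (R ⧸ I) ((R ⧸ I) ⊗[R] C))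
    (d : WithConv ((R ⧸ I) ⊗[R] C →ₗ[R ⧸ I] R ⧸ I)) (hd : IsIdempotentElem d) :
    ∃ f : WithConv (C →ₗ[R] R), IsIdempotentElem f ∧
      ∀ c, algebraMap R (R ⧸ I) (f.ofConv c) = d.ofConv ((1 : R ⧸ I) ⊗ₜ c) := by
  obtain ⟨b, hb⟩ := exists_basis hI b₀
  choose r hr using fun i => Ideal.Quotient.mk_surjective (I := I) (d.ofConv ((1 : R ⧸ I) ⊗ₜ b i))
  have key : ∀ c, algebraMap R (R ⧸ I) ((b.constr ℕ r) c) = d.ofConv ((1 : R ⧸ I) ⊗ₜ c) := by
    intro c
    have h1 : (Algebra.linearMap R (R ⧸ I)) ∘ₗ b.constr ℕ r =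
        (d.ofConv.restrictScalars R) ∘ₗ (TensorProduct.mk R (R ⧸ I) C 1) :=
      b.ext fun i => by simpa using hr i
    exact LinearMap.congr_fun h1 c
  have hrange : d ∈ (red I).range := by
    refine ⟨toConv (b.constr ℕ r), WithConv.ext (LinearMap.ext fun z => ?_)⟩
    induction z using TensorProduct.induction_on with
    | zero => simp
    | add p q hp hq => simp only [map_add, hp, hq]
    | tmul s c =>
      rw [red_apply_tmul, Algebra.smul_def, WithConv.ofConv_toConv, key,
        show s ⊗ₜ[R] c = s • ((1 : R ⧸ I) ⊗ₜ[R] c) by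
          rw [TensorProduct.smul_tmul', smul_eq_mul, mul_one],
        map_smul, smul_eq_mul, mul_comm]
  obtain ⟨f, hf, hfd⟩ := exists_isIdempotentElem_eq_of_ker_isNilpotent (red (C := C) I)
    (fun x hx => isNilpotent_of_mem_ker_red hI hx) d hrange hd
  refine ⟨f, hf, fun c => ?_⟩
  have h := LinearMap.congr_fun (congrArg WithConv.ofConv hfd) ((1 : R ⧸ I) ⊗ₜ c)
  rw [red_apply_tmul, Algebra.smul_def, mul_one] at h
  exact h

variable {M : Type u} [CommGroup M]
  (e : (R ⧸ I) ⊗[R] C ≃ₐc[R ⧸ I] MonoidAlgebra (R ⧸ I) M)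

/-- The coalgebra map underlying a trivialisation. -/
noncomputable def toCoalg : (R ⧸ I) ⊗[R] C →ₗc[R ⧸ I] MonoidAlgebra (R ⧸ I) M :=
  (e : (R ⧸ I) ⊗[R] C →ₐc[R ⧸ I] MonoidAlgebra (R ⧸ I) M)

omit [Module.Flat R C] in
theorem toCoalg_apply (z : (R ⧸ I) ⊗[R] C) : toCoalg e z = e z := rfl

/-- The coordinate idempotent functionals lift. -/
theorem exists_lift_cf (hI : IsNilpotent I) (m : M) :
    ∃ f : WithConv (C →ₗ[R] R), IsIdempotentElem f ∧
      ∀ c, algebraMap R (R ⧸ I) (f.ofConv c) = (e ((1 : R ⧸ I) ⊗ₜ c)).coeff m := by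
  obtain ⟨f, hf, hfd⟩ := exists_lift_idem hI
    (Module.Basis.ofRepr (e.toLinearEquiv.trans (MonoidAlgebra.coeffLinearEquiv (R ⧸ I))))
    (cf m (toCoalg e).toLinearMap) (isIdempotentElem_cf (toCoalg e) m)
  exact ⟨f, hf, fun c => by rw [hfd, cf_apply, ← toCoalg_apply]; rfl⟩

omit [Module.Flat R C] in
/-- The translation projection reduces to the coordinate projection. -/
theorem one_tmul_transL {f : C →ₗ[R] R} {m : M}
    (hf : ∀ c, algebraMap R (R ⧸ I) (f c) = (e ((1 : R ⧸ I) ⊗ₜ c)).coeff m) (c : C) :
    e ((1 : R ⧸ I) ⊗ₜ transL f c) =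
      MonoidAlgebra.single m ((e ((1 : R ⧸ I) ⊗ₜ c)).coeff m) := by
  let Λ : MonoidAlgebra (R ⧸ I) M ⊗[R ⧸ I] MonoidAlgebra (R ⧸ I) M →ₗ[R ⧸ I]
      MonoidAlgebra (R ⧸ I) M :=
    (TensorProduct.lid (R ⧸ I) (MonoidAlgebra (R ⧸ I) M)).toLinearMap ∘ₗ
      (coefL m).rTensor (MonoidAlgebra (R ⧸ I) M)
  have h1 : ∀ y : MonoidAlgebra (R ⧸ I) M,
      Λ (Coalgebra.comul y) = MonoidAlgebra.single m (y.coeff m) := by
    intro y
    induction y using MonoidAlgebra.induction_linear with
    | zero => simp
    | add p q hp hq => rw [map_add, map_add, hp, hq, MonoidAlgebra.coeff_add, Finsupp.add_apply,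
        MonoidAlgebra.single_add]
    | single a r =>
      classical
      rw [MonoidAlgebra.comul_single, CommSemiring.comul_apply, TensorProduct.map_tmul]
      simp only [Λ, LinearMap.comp_apply, LinearMap.rTensor_tmul, LinearEquiv.coe_coe,
        TensorProduct.lid_tmul, MonoidAlgebra.lsingle_apply, coefL_single,
        MonoidAlgebra.coeff_single, Finsupp.single_apply]
      split_ifs with h
      · subst h; simp [MonoidAlgebra.smul_single']
      · simp
  let el := toCoalg e
  have h2 := CoalgHomClass.map_comp_comul_apply el ((1 : R ⧸ I) ⊗ₜ[R] c)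
  change _ = MonoidAlgebra.single m ((el ((1 : R ⧸ I) ⊗ₜ[R] c)).coeff m)
  rw [← h1, ← h2, transL_apply, TensorProduct.comul_tmul, CommSemiring.comul_apply]
  generalize Coalgebra.comul (R := R) c = w
  induction w using TensorProduct.induction_on with
  | zero => simp
  | tmul p q =>
    simp only [LinearMap.rTensor_tmul, TensorProduct.lid_tmul, TensorProduct.tmul_smul,
      AlgebraTensorModule.tensorTensorTensorComm_tmul, TensorProduct.map_tmul, Λ,
      LinearMap.comp_apply, LinearEquiv.coe_coe]
    rw [← algebraMap_smul (R ⧸ I) (f p), map_smul, hf]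
    rfl
  | add p q hp hq => simp only [map_add, TensorProduct.tmul_add, hp, hq]

/-- The group-like lift of a character. -/
theorem existsUnique_groupLike (hI : IsNilpotent I) (m : M) :
    ∃! x : C, IsGroupLikeElem R x ∧ e ((1 : R ⧸ I) ⊗ₜ x) = MonoidAlgebra.single m 1 := by
  obtain ⟨f, hfi, hf⟩ := exists_lift_cf e hI m
  set g := f.ofConv
  have hidem : ∀ c, transL g (transL g c) = transL g c := by
    intro c
    rw [transL_transL]
    change transL (f * f).ofConv c = _
    rw [hfi.eq]
  obtain ⟨b, hb⟩ := TensorProduct.mk_surjective R C (R ⧸ I) Ideal.Quotient.mk_surjective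
    (e.symm (MonoidAlgebra.single m 1))
  change (1 : R ⧸ I) ⊗ₜ[R] b = _ at hb
  let y := transL g b
  have hy : e ((1 : R ⧸ I) ⊗ₜ y) = MonoidAlgebra.single m 1 := by
    rw [one_tmul_transL e hf, hb]
    simp
  have hspan : ∀ c, ∃ a : R, a • y = transL g c := by
    intro c
    refine Submodule.mem_span_singleton.1 (le_of_le_sup_smul hI (P := LinearMap.range (transL g))
      (N := Submodule.span R {y}) ?_ ⟨c, rfl⟩)
    rintro _ ⟨d, rfl⟩
    obtain ⟨r, hr⟩ := Ideal.Quotient.mk_surjective (I := I) ((e ((1 : R ⧸ I) ⊗ₜ d)).coeff m)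
    have hmem : transL g d - r • y ∈ I • (⊤ : Submodule R C) := by
      refine mem_smul_top_of_one_tmul_eq_zero (e.injective ?_)
      change e _ = e _
      rw [TensorProduct.tmul_sub, TensorProduct.tmul_smul, map_sub, map_zero, one_tmul_transL e hf,
        ← algebraMap_smul (R ⧸ I) r, map_smul, hy, MonoidAlgebra.smul_single', mul_one,
        Ideal.Quotient.algebraMap_eq, hr, sub_self]
    refine Submodule.mem_sup.2 ⟨r • y, Submodule.smul_mem _ _ (Submodule.mem_span_singleton_self y),
      transL g d - r • y, ?_, add_sub_cancel _ _⟩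
    have : transL g (transL g d - r • y) = transL g d - r • y := by
      rw [map_sub, map_smul, hidem, hidem]
    rw [← this, LinearMap.range_eq_map, ← Submodule.map_smul'']
    exact Submodule.mem_map_of_mem hmem
  have hc1 : algebraMap R (R ⧸ I) (Coalgebra.counit (R := R) y) = 1 := by
    have h1 := congrArg (Coalgebra.counit (R := R ⧸ I)) hy
    rw [CoalgHomClass.counit_comp_apply, MonoidAlgebra.counit_single,
      CommSemiring.counit_apply, TensorProduct.counit_tmul, CommSemiring.counit_apply,
      Algebra.smul_def, mul_one] at h1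
    exact h1
  have hcounit : IsUnit (Coalgebra.counit (R := R) y) := by
    have hmem : Coalgebra.counit (R := R) y - 1 ∈ I :=
      Ideal.Quotient.eq.1 (hc1.trans (map_one _).symm)
    obtain ⟨n, hn⟩ := hI
    have h3 : IsNilpotent (Coalgebra.counit (R := R) y - 1) :=
      ⟨n, by simpa [hn] using Ideal.pow_mem_pow hmem n⟩
    have h4 := h3.isUnit_add_one
    rwa [sub_add_cancel] at h4
  obtain ⟨u, hu⟩ := hcounit
  obtain ⟨z, hz⟩ : ∃ z, Coalgebra.comul (R := R) y = y ⊗ₜ z := by
    rw [comul_transL]
    generalize Coalgebra.comul (R := R) b = w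
    induction w using TensorProduct.induction_on with
    | zero => exact ⟨0, by simp⟩
    | tmul p q =>
      obtain ⟨a, ha⟩ := hspan p
      exact ⟨a • q, by rw [LinearMap.rTensor_tmul, ← ha, TensorProduct.smul_tmul]⟩
    | add p q hp hq =>
      obtain ⟨z₁, h₁⟩ := hp
      obtain ⟨z₂, h₂⟩ := hq
      exact ⟨z₁ + z₂, by rw [map_add, h₁, h₂, TensorProduct.tmul_add]⟩
  have hyz : y = (u : R) • z := by
    have := congrArg (TensorProduct.lid R C) (Coalgebra.rTensor_counit_comul (R := R) y)
    rw [hz, LinearMap.rTensor_tmul, TensorProduct.lid_tmul, TensorProduct.lid_tmul, one_smul, ← hu]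
      at this
    exact this.symm
  let x := (↑u⁻¹ : R) • y
  have hzx : z = x := by
    change z = (↑u⁻¹ : R) • y
    rw [hyz, smul_smul, Units.inv_mul, one_smul]
  have hx : IsGroupLikeElem R x := by
    refine ⟨by rw [map_smul, ← hu, smul_eq_mul, Units.inv_mul], ?_⟩
    rw [map_smul, hz, hzx, TensorProduct.smul_tmul']
  have hu1 : algebraMap R (R ⧸ I) (u : R) = 1 := by rw [hu]; exact hc1
  have hxe : e ((1 : R ⧸ I) ⊗ₜ x) = MonoidAlgebra.single m 1 := by
    rw [TensorProduct.tmul_smul, ← algebraMap_smul (R ⧸ I), map_smul, hy,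
      MonoidAlgebra.smul_single', mul_one]
    congr 1
    have h1 := congrArg (algebraMap R (R ⧸ I)) u.inv_mul
    rwa [map_mul, hu1, mul_one, map_one] at h1
  refine ⟨x, ⟨hx, hxe⟩, fun x' hx' => ?_⟩
  obtain ⟨hx', hxe'⟩ := hx'
  have h1 : IsIdempotentElem (g x') := by
    have := LinearMap.congr_fun (congrArg WithConv.ofConv hfi.eq) x'
    rw [show (f * f).ofConv x' = g (transL g x') from (apply_transL g g x').symm,
      transL_groupLike g hx', map_smul, smul_eq_mul] at this
    exact this
  have h2 : algebraMap R (R ⧸ I) (g x') = 1 := by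
    rw [hf, hxe', MonoidAlgebra.coeff_single, Finsupp.single_eq_same]
  have h3 : g x' = 1 := by
    refine eq_of_isNilpotent_sub_of_isIdempotentElem h1 IsIdempotentElem.one ?_
    obtain ⟨n, hn⟩ := hI
    have hmem : g x' - 1 ∈ I := Ideal.Quotient.eq.1 (h2.trans (map_one _).symm)
    exact ⟨n, by simpa [hn] using Ideal.pow_mem_pow hmem n⟩
  obtain ⟨a, ha⟩ := hspan x'
  rw [transL_groupLike g hx', h3, one_smul] at ha
  have h4 := congrArg (Coalgebra.counit (R := R)) ha
  rw [map_smul, hx'.counit_eq_one, ← hu, smul_eq_mul] at h4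
  rw [← ha, show x = _ from rfl]
  congr 1
  rw [← mul_one a, ← u.mul_inv, ← mul_assoc, h4, one_mul]

include e in
/-- Nilpotent deformations of `D(M)` are isomorphic to `D(M)`. -/
theorem exists_bialgEquiv (hI : IsNilpotent I) :
    ∃ E : MonoidAlgebra R M ≃ₐc[R] C,
      ∀ m, e ((1 : R ⧸ I) ⊗ₜ E (MonoidAlgebra.single m 1)) = MonoidAlgebra.single m 1 := by
  choose x hx huniq using existsUnique_groupLike e hI
  let χ : M →* GroupLike R C :=
    { toFun := fun m => ⟨x m, (hx m).1⟩
      map_one' := GroupLike.ext (huniq 1 1 ⟨IsGroupLikeElem.one, by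
        rw [← Algebra.TensorProduct.one_def, map_one]; rfl⟩).symm
      map_mul' := fun a b => GroupLike.ext (huniq (a * b) (x a * x b) ⟨(hx a).1.mul (hx b).1, by
        rw [← mul_one (1 : R ⧸ I), ← Algebra.TensorProduct.tmul_mul_tmul, map_mul, (hx a).2,
          (hx b).2, MonoidAlgebra.single_mul_single, mul_one]⟩).symm }
  let Φ : MonoidAlgebra R M →ₐc[R] C :=
    (MonoidAlgebra.liftGroupLikeBialgHom).comp (MonoidAlgebra.mapDomainBialgHom R χ)
  have hΦ : ∀ m r, Φ (MonoidAlgebra.single m r) = r • x m := fun m r => by simp [Φ, χ]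
  obtain ⟨b, hb⟩ := exists_basis hI
    (Module.Basis.ofRepr (e.toLinearEquiv.trans (MonoidAlgebra.coeffLinearEquiv (R ⧸ I))))
  let bM : Module.Basis M R (MonoidAlgebra R M) :=
    Module.Basis.ofRepr (MonoidAlgebra.coeffLinearEquiv R)
  have hmod : ∀ i, x i - b i ∈ I • (⊤ : Submodule R C) := by
    intro i
    refine mem_smul_top_of_one_tmul_eq_zero (e.injective ?_)
    change e _ = e _
    rw [TensorProduct.tmul_sub, map_sub, (hx i).2, hb, map_zero, sub_eq_zero]
    refine (e.apply_symm_apply _).symm.trans (congrArg e ?_)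
    simp
    rfl
  have hmatrix : ∀ z : MonoidAlgebra R M,
      Φ z - bM.equiv b (Equiv.refl M) z ∈ I • (⊤ : Submodule R C) := by
    intro z
    induction z using MonoidAlgebra.induction_linear with
    | zero => simp
    | add p q hp hq => rw [map_add, map_add, add_sub_add_comm]; exact add_mem hp hq
    | single m r =>
      have : MonoidAlgebra.single m r = r • bM m := by simp [bM, MonoidAlgebra.smul_single']
      rw [hΦ, this, map_smul, Module.Basis.equiv_apply, Equiv.refl_apply, ← smul_sub]
      exact Submodule.smul_mem _ _ (hmod m)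
  let T : C →ₗ[R] C := (Φ : MonoidAlgebra R M →ₐc[R] C).toLinearMap ∘ₗ
    (bM.equiv b (Equiv.refl M)).symm.toLinearMap
  have hT : ∀ c, T c - c ∈ I • (⊤ : Submodule R C) := fun c => by
    have h := hmatrix ((bM.equiv b (Equiv.refl M)).symm c)
    rw [LinearEquiv.apply_symm_apply] at h
    exact h
  have hTnil : IsNilpotent (T - 1) := by
    obtain ⟨n, hn⟩ := hI
    have : ∀ k c, ((T - 1) ^ k) c ∈ I ^ k • (⊤ : Submodule R C) := by
      intro k
      induction k with
      | zero => intro c; rw [pow_zero, pow_zero, Ideal.one_eq_top, Submodule.top_smul]; trivial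
      | succ k ih =>
        intro c
        rw [pow_succ' (T - 1), Module.End.mul_apply, pow_succ' I, Submodule.mul_smul]
        refine Submodule.smul_induction_on (ih c) (fun r hr d _ => ?_) (fun p q hp hq => ?_)
        · rw [map_smul, ← Submodule.mul_smul, mul_comm I (I ^ k), Submodule.mul_smul]
          exact Submodule.smul_mem_smul hr (hT d)
        · rw [map_add]; exact add_mem hp hq
    exact ⟨n, LinearMap.ext fun c => by simpa [hn] using this n c⟩
  have hTbij : Function.Bijective T := by
    have := hTnil.isUnit_one_add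
    rw [add_sub_cancel] at this
    exact (Module.End.isUnit_iff T).1 this
  refine ⟨BialgEquiv.ofBijective Φ ?_, fun m => ?_⟩
  · have : (Φ : MonoidAlgebra R M → C) = T ∘ bM.equiv b (Equiv.refl M) := by
      funext z
      exact (congrArg Φ ((bM.equiv b (Equiv.refl M)).symm_apply_apply z)).symm
    rw [this]
    exact hTbij.comp (LinearEquiv.bijective _)
  · change e ((1 : R ⧸ I) ⊗ₜ Φ _) = _
    rw [hΦ, one_smul, (hx m).2]

end flat

/-- A flat Hopf algebra diagonalisable modulo a nilpotent ideal is diagonalisable. -/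
theorem isDiag_of_nilpotent [Module.Flat R C] (hI : IsNilpotent I)
    (h : SGA3b.IsDiag (R ⧸ I) ((R ⧸ I) ⊗[R] C)) : SGA3b.IsDiag R C := by
  obtain ⟨M, _, ⟨e⟩⟩ := h
  obtain ⟨E, -⟩ := exists_bialgEquiv e hI
  exact ⟨M, inferInstance, ⟨E.symm⟩⟩

end Groth.L25.MultType
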