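import Groth.Agent.L25.MultType.Glue
import Groth.Agent.L25.MultType.Deform
import Mathlib.RingTheory.HopfAlgebra.Quotient
import Mathlib.RingTheory.HopfAlgebra.MonoidAlgebra
import Mathlib.RingTheory.Finiteness.Nakayama
import Mathlib.GroupTheory.QuotientGroup.Defs

/-!
# Homomorphisms into diagonalisable Hopf algebras, and kernels
-/

set_option autoImplicit false

universe u

open TensorProduct WithConv

namespace Groth.L25.MultType

open Groth.L25.Char

section Coef

variable {R : Type u} [CommRing R] {C : Type u} [CommRing C] [HopfAlgebra R C] {M : Type u}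
  [CommGroup M] (φ : C →ₐc[R] MonoidAlgebra R M)

/-- The ideal of the `r` with `r · m` in the image. -/
noncomputable def coefI (m : M) : Ideal R where
  carrier := {r | MonoidAlgebra.single m r ∈ Set.range φ}
  zero_mem' := ⟨0, by simp⟩
  add_mem' := by
    rintro a b ⟨x, hx⟩ ⟨y, hy⟩
    exact ⟨x + y, by rw [map_add, hx, hy, MonoidAlgebra.single_add]⟩
  smul_mem' := by
    rintro r a ⟨x, hx⟩
    exact ⟨r • x, by rw [map_smul, hx, MonoidAlgebra.smul_single]⟩

theorem mem_coefI {m : M} {r : R} :
    r ∈ coefI φ m ↔ ∃ x, φ x = MonoidAlgebra.single m r := Iff.rfl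

theorem coeff_mem_coefI (c : C) (m : M) : (φ c).coeff m ∈ coefI φ m := by
  classical
  refine ⟨transL (coefL m ∘ₗ φ.toLinearMap) c, ?_⟩
  have h1 : ∀ x : MonoidAlgebra R M, TensorProduct.lid R (MonoidAlgebra R M)
      ((coefL m).rTensor (MonoidAlgebra R M) (Coalgebra.comul (R := R) x)) =
        MonoidAlgebra.single m (coefL m x) := by
    intro x
    induction x using MonoidAlgebra.induction_linear with
    | zero => simp
    | add p q hp hq => simp only [map_add, hp, hq, MonoidAlgebra.single_add]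
    | single a r =>
      rw [MonoidAlgebra.comul_single]
      simp only [CommSemiring.comul_apply, TensorProduct.map_tmul, LinearMap.rTensor_tmul,
        TensorProduct.lid_tmul, MonoidAlgebra.lsingle_apply, coefL_single]
      split_ifs with h
      · subst h; simp
      · simp
  have h2 : ∀ z : C ⊗[R] C,
      φ (TensorProduct.lid R C ((coefL m ∘ₗ φ.toLinearMap).rTensor C z)) =
        TensorProduct.lid R (MonoidAlgebra R M) ((coefL m).rTensor (MonoidAlgebra R M)
          (TensorProduct.map φ.toLinearMap φ.toLinearMap z)) := by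
    intro z
    induction z using TensorProduct.induction_on with
    | zero => simp
    | tmul p q => simp; rfl
    | add p q hp hq => simp only [map_add, hp, hq]
  rw [transL_apply, h2]
  exact (congrArg (fun z => TensorProduct.lid R (MonoidAlgebra R M) ((coefL m).rTensor _ z))
    (CoalgHomClass.map_comp_comul_apply φ c)).trans (h1 (φ c))

theorem surjective_of_coefI (h : ∀ m, coefI φ m = ⊤) : Function.Surjective φ := by
  intro x
  induction x using MonoidAlgebra.induction_linear with
  | zero => exact ⟨0, map_zero φ⟩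
  | add p q hp hq =>
    obtain ⟨a, ha⟩ := hp
    obtain ⟨b, hb⟩ := hq
    exact ⟨a + b, by rw [map_add, ha, hb]⟩
  | single a r => exact (mem_coefI φ).1 (h a ▸ Submodule.mem_top)

theorem one_mem_coefI : (1 : R) ∈ coefI φ 1 := ⟨1, by rw [map_one]; rfl⟩

theorem mul_mem_coefI {a b : M} {r s : R} (ha : r ∈ coefI φ a) (hb : s ∈ coefI φ b) :
    r * s ∈ coefI φ (a * b) := by
  obtain ⟨x, hx⟩ := ha
  obtain ⟨y, hy⟩ := hb
  exact ⟨x * y, by rw [map_mul, hx, hy, MonoidAlgebra.single_mul_single]⟩

theorem map_antipode (c : C) :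
    φ (HopfAlgebra.antipode R c) = HopfAlgebra.antipode R (φ c) := by
  have h : toConv ((HopfAlgebra.antipodeAlgHom R (MonoidAlgebra R M)).comp φ.toAlgHom) =
      (toConv φ.toAlgHom)⁻¹ := by
    refine eq_inv_of_mul_eq_one_left ?_
    have h1 := AlgHom.convMul_comp_bialgHom_distrib
      (toConv (HopfAlgebra.antipodeAlgHom R (MonoidAlgebra R M)))
      (toConv (AlgHom.id R (MonoidAlgebra R M))) φ
    rw [AlgHom.antipode_id_cancel] at h1
    refine WithConv.ext (AlgHom.ext fun x => ?_)
    have h2 := DFunLike.congr_fun h1 x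
    simp only [AlgHom.convOne_apply, AlgHom.comp_apply, WithConv.ofConv_toConv,
      AlgHom.id_comp] at h2 ⊢
    rw [← h2]
    simp [AlgHom.convOne_def]
  exact (DFunLike.congr_fun (congrArg WithConv.ofConv h) c).symm

theorem inv_mem_coefI {a : M} {r : R} (ha : r ∈ coefI φ a) : r ∈ coefI φ a⁻¹ := by
  obtain ⟨x, hx⟩ := ha
  exact ⟨HopfAlgebra.antipode R x, by
    rw [map_antipode, hx, MonoidAlgebra.antipode_single]; rfl⟩

theorem coefI_le_sq (m : M) : coefI φ m ≤ coefI φ m * coefI φ m := by
  intro r hr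
  obtain ⟨x, hx⟩ := hr
  have h : ∀ c, (cf m (φ : C →ₐc[R] MonoidAlgebra R M).toCoalgHom.toLinearMap).ofConv c ∈
      coefI φ m ^ 1 := fun c => by
    rw [pow_one, cf_apply]; exact coeff_mem_coefI φ c m
  have h2 := cf_mem_pow h h x
  rw [(isIdempotentElem_cf φ.toCoalgHom m).eq, cf_apply, pow_two] at h2
  have h3 : (φ.toCoalgHom.toLinearMap x).coeff m = r := by
    change (φ x).coeff m = r
    rw [hx, MonoidAlgebra.coeff_single, Finsupp.single_eq_same]
  rwa [h3] at h2

/-- The subgroup of the characters in the image at a prime. -/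
noncomputable def atPrime (p : Ideal R) [p.IsPrime] : Subgroup M where
  carrier := {m | ¬ coefI φ m ≤ p}
  one_mem' h := ‹p.IsPrime›.ne_top ((Ideal.eq_top_iff_one p).2 (h (one_mem_coefI φ)))
  mul_mem' {a b} ha hb h := by
    obtain ⟨r, hr, hr'⟩ := SetLike.not_le_iff_exists.1 ha
    obtain ⟨s, hs, hs'⟩ := SetLike.not_le_iff_exists.1 hb
    exact (‹p.IsPrime›.mem_or_mem (h (mul_mem_coefI φ hr hs))).elim hr' hs'
  inv_mem' {a} ha h := ha fun r hr => h (inv_mem_coefI φ hr)

theorem mem_atPrime {p : Ideal R} [p.IsPrime] {m : M} :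
    m ∈ atPrime φ p ↔ ¬ coefI φ m ≤ p := Iff.rfl

theorem coeff_mem_of_generators {N : Submonoid M} {K : Ideal R} {s : Set C}
    (hs : Algebra.adjoin R s = ⊤) (h : ∀ x ∈ s, ∀ m ∉ N, (φ x).coeff m ∈ K) (c : C) {m : M}
    (hm : m ∉ N) : (φ c).coeff m ∈ K := by
  classical
  have hc : c ∈ Algebra.adjoin R s := by rw [hs]; exact Algebra.mem_top
  induction hc using Algebra.adjoin_induction generalizing m with
  | mem x hx => exact h x hx m hm
  | algebraMap r =>
    rw [AlgHomClass.commutes, MonoidAlgebra.coe_algebraMap, Function.comp_apply,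
      Algebra.algebraMap_self_apply, MonoidAlgebra.coeff_single, Finsupp.single_apply, if_neg]
    · exact zero_mem K
    · rintro rfl; exact hm N.one_mem
  | add x y _ _ hx hy =>
    rw [map_add, MonoidAlgebra.coeff_add, Finsupp.add_apply]
    exact add_mem (hx hm) (hy hm)
  | mul x y _ _ hx hy =>
    rw [map_mul, MonoidAlgebra.mul_def]
    simp only [MonoidAlgebra.coeff_finsuppSum, Finsupp.sum_apply, MonoidAlgebra.coeff_single,
      Finsupp.single_apply]
    refine sum_mem fun a _ => sum_mem fun b _ => ?_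
    dsimp only
    split_ifs with hab
    · by_cases ha : a ∈ N
      · exact K.mul_mem_left _ (hy fun hb => hm (hab ▸ N.mul_mem ha hb))
      · exact K.mul_mem_right _ (hx ha)
    · exact zero_mem K

/-- Near every prime the image is the group algebra of a fixed subgroup. -/
theorem exists_pattern [Algebra.FiniteType R C] (q : Ideal R) [q.IsPrime] :
    ∃ h ∉ q, ∃ H : Subgroup M, (∀ m ∈ H, ∃ n : ℕ, h ^ n ∈ coefI φ m) ∧
      ∀ m ∉ H, ∀ r ∈ coefI φ m, h * r = 0 := by
  classical
  obtain ⟨s, hs⟩ := Algebra.FiniteType.out (R := R) (A := C)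
  let F : Finset M := s.biUnion fun x => (φ x).coeff.support
  let Fq : Finset M := F.filter fun m => m ∈ atPrime φ q
  let N : Submonoid M := Submonoid.closure (Fq : Set M)
  let G : Finset R := ((s ×ˢ F).filter fun p => p.2 ∉ N).image fun p => (φ p.1).coeff p.2
  let K : Ideal R := Ideal.span (G : Set R)
  have hgen : ∀ x ∈ (s : Set C), ∀ m ∉ N, (φ x).coeff m ∈ K := fun x hx m hm => by
    by_cases h0 : (φ x).coeff m = 0
    · rw [h0]; exact zero_mem K
    · exact Ideal.subset_span (Finset.mem_image.2 ⟨(x, m), Finset.mem_filter.2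
        ⟨Finset.mem_product.2 ⟨hx, Finset.mem_biUnion.2 ⟨x, hx, Finsupp.mem_support_iff.2 h0⟩⟩,
          hm⟩, rfl⟩)
  have hle : ∀ m ∉ N, coefI φ m ≤ K := by
    rintro m hm r ⟨x, hx⟩
    have := coeff_mem_of_generators φ hs hgen x hm
    rwa [hx, MonoidAlgebra.coeff_single, Finsupp.single_eq_same] at this
  have hKsq : K ≤ K * K := Ideal.span_le.2 fun y hy => by
    obtain ⟨⟨x, m⟩, hxm, rfl⟩ := Finset.mem_image.1 hy
    have hm := (Finset.mem_filter.1 hxm).2
    exact Ideal.mul_mono (hle m hm) (hle m hm) (coefI_le_sq φ m (coeff_mem_coefI φ x m))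
  have hKq : K ≤ q := Ideal.span_le.2 fun y hy => by
    obtain ⟨⟨x, m⟩, hxm, rfl⟩ := Finset.mem_image.1 hy
    obtain ⟨h1, hm⟩ := Finset.mem_filter.1 hxm
    refine not_not.1 fun hcon => hm (Submonoid.subset_closure (Finset.mem_filter.2
      ⟨(Finset.mem_product.1 h1).2, ?_⟩))
    exact fun hle' => hcon (hle' (coeff_mem_coefI φ x m))
  obtain ⟨g, hg1, hg0⟩ := Submodule.exists_sub_one_mem_and_smul_eq_zero_of_fg_of_le_smul K K
    (Submodule.fg_span G.finite_toSet) (by rw [smul_eq_mul]; exact hKsq)
  have hgq : g ∉ q := fun h => ‹q.IsPrime›.ne_top ((Ideal.eq_top_iff_one q).2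
    (by simpa using sub_mem h (hKq hg1)))
  choose r hr hrq using fun f : Fq => SetLike.not_le_iff_exists.1
    ((mem_atPrime φ).1 (Finset.mem_filter.1 f.2).2)
  refine ⟨g * ∏ f, r f, fun h => ?_, atPrime φ q, fun m hm => ?_, fun m hm x hx => ?_⟩
  · rcases ‹q.IsPrime›.mem_or_mem h with h | h
    · exact hgq h
    · obtain ⟨f, -, hf⟩ := (‹q.IsPrime›.prod_mem_iff).1 h
      exact hrq f hf
  · have hmN : m ∈ N := not_not.1 fun hcon => hm ((hle m hcon).trans hKq)
    clear hm
    induction hmN using Submonoid.closure_induction with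
    | mem f hf =>
      refine ⟨1, ?_⟩
      rw [pow_one, ← Finset.mul_prod_erase Finset.univ r (Finset.mem_univ ⟨f, hf⟩)]
      exact Ideal.mul_mem_left _ _ (Ideal.mul_mem_right _ _ (hr ⟨f, hf⟩))
    | one => exact ⟨0, by rw [pow_zero]; exact one_mem_coefI φ⟩
    | mul a b _ _ ha hb =>
      obtain ⟨i, hi⟩ := ha
      obtain ⟨j, hj⟩ := hb
      exact ⟨i + j, by rw [pow_add]; exact mul_mem_coefI φ hi hj⟩
  · have hmN : m ∉ N := fun hcon => hm ((Submonoid.closure_le
      (S := (atPrime φ q).toSubmonoid)).2 (fun f hf => (Finset.mem_filter.1 hf).2) hcon)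
    rw [mul_right_comm, show g * x = 0 from hg0 x (hle m hmN hx), zero_mul]

end Coef

section Kernel

variable {R : Type u} [CommRing R] {A : Type u} [CommRing A] [HopfAlgebra R A]
  {C : Type u} [CommRing C] [HopfAlgebra R C]

/-- A homomorphism read in a splitting. -/
noncomputable def readHom {T : Type u} [CommRing T] [Algebra R T] {M : Type u} [CommGroup M]
    (e : T ⊗[R] A ≃ₐc[T] MonoidAlgebra T M) (φ : C →ₐc[R] A) :
    T ⊗[R] C →ₐc[T] MonoidAlgebra T M :=
  (e : T ⊗[R] A →ₐc[T] MonoidAlgebra T M).comp (Bialgebra.TensorProduct.map (BialgHom.id T T) φ)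

theorem readHom_tmul {T : Type u} [CommRing T] [Algebra R T] {M : Type u} [CommGroup M]
    (e : T ⊗[R] A ≃ₐc[T] MonoidAlgebra T M) (φ : C →ₐc[R] A) (t : T) (c : C) :
    readHom e φ (t ⊗ₜ c) = e (t ⊗ₜ φ c) := rfl

/-- The kernel of a homomorphism whose image is the group algebra of a subgroup is diagonalisable. -/
theorem isDiag_quot {T : Type u} [CommRing T] [Algebra R T] {M : Type u} [CommGroup M]
    (e : T ⊗[R] A ≃ₐc[T] MonoidAlgebra T M) (φ : C →ₐc[R] A) (H : Subgroup M)
    (h1 : ∀ m ∈ H, MonoidAlgebra.single m 1 ∈ Set.range (readHom e φ))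
    (h0 : ∀ m ∉ H, ∀ c, (readHom e φ ((1 : T) ⊗ₜ c)).coeff m = 0)
    (J : Ideal A) [J.IsHopfIdeal R]
    (hJ : J = Ideal.map φ (RingHom.ker (Bialgebra.counitAlgHom R C))) :
    SGA3b.IsDiag T (T ⊗[R] (A ⧸ J)) := by
  classical
  let π : A →ₐc[R] A ⧸ J := Bialgebra.Quotient.mkBialgHom J
  let P : T ⊗[R] A →ₐc[T] T ⊗[R] (A ⧸ J) := Bialgebra.TensorProduct.map (BialgHom.id T T) π
  have hPφ : ∀ c, P ((1 : T) ⊗ₜ φ c) =
      algebraMap T _ (algebraMap R T (Coalgebra.counit (R := R) c)) := by
    intro c
    change (1 : T) ⊗ₜ[R] π (φ c) = _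
    have : π (φ c) = algebraMap R (A ⧸ J) (Coalgebra.counit (R := R) c) := by
      rw [← sub_eq_zero, ← AlgHomClass.commutes π, ← AlgHomClass.commutes φ, ← map_sub, ← map_sub]
      refine Ideal.Quotient.eq_zero_iff_mem.2 (hJ ▸ Ideal.mem_map_of_mem _ ?_)
      rw [RingHom.mem_ker, map_sub, AlgHom.commutes, sub_eq_zero]
      exact (Algebra.algebraMap_self_apply _).symm
    rw [this, ← IsScalarTower.algebraMap_apply R T]
    exact AlgHom.commutes (Algebra.TensorProduct.includeRight : A ⧸ J →ₐ[R] T ⊗[R] (A ⧸ J)) _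
  let g : M → GroupLike T (T ⊗[R] (A ⧸ J)) := fun m =>
    ⟨P (e.symm (MonoidAlgebra.single m 1)),
      ((MonoidAlgebra.isGroupLikeElem_single_one m).map e.symm).map P⟩
  let g' : M →* GroupLike T (T ⊗[R] (A ⧸ J)) :=
    { toFun := g
      map_one' := GroupLike.ext (by
        change P (e.symm (MonoidAlgebra.single 1 1)) = 1
        rw [← MonoidAlgebra.one_def, map_one, map_one])
      map_mul' := fun a b => GroupLike.ext (by
        change P (e.symm (MonoidAlgebra.single (a * b) 1)) =
          P (e.symm (MonoidAlgebra.single a 1)) * P (e.symm (MonoidAlgebra.single b 1))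
        rw [← map_mul, ← map_mul, MonoidAlgebra.single_mul_single, _root_.mul_one]) }
  have hH : H ≤ g'.ker := fun m hm => by
    obtain ⟨z, hz⟩ := h1 m hm
    refine GroupLike.ext ?_
    change P (e.symm (MonoidAlgebra.single m 1)) = 1
    have key : ∀ z : T ⊗[R] C, P (e.symm (readHom e φ z)) =
        algebraMap T _ (Coalgebra.counit (R := T) z) := by
      intro z
      induction z using TensorProduct.induction_on with
      | zero => simp
      | add p q hp hq => simp only [map_add, hp, hq]
      | tmul t c =>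
        rw [show t ⊗ₜ[R] c = t • ((1 : T) ⊗ₜ[R] c) by
          rw [TensorProduct.smul_tmul', smul_eq_mul, _root_.mul_one]]
        rw [map_smul, map_smul, map_smul, readHom_tmul, BialgEquiv.symm_apply_apply, hPφ,
          map_smul, TensorProduct.counit_tmul]
        simp [Algebra.smul_def, TensorProduct.smul_tmul']
    rw [← hz, key, ← CoalgHomClass.counit_comp_apply (readHom e φ), hz]
    simp [Algebra.TensorProduct.one_def]
  let g'' : M ⧸ H →* GroupLike T (T ⊗[R] (A ⧸ J)) := QuotientGroup.lift H g' hH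
  let θ : MonoidAlgebra T (M ⧸ H) →ₐc[T] T ⊗[R] (A ⧸ J) :=
    (MonoidAlgebra.liftGroupLikeBialgHom).comp (MonoidAlgebra.mapDomainBialgHom T g'')
  have hθ : ∀ x : MonoidAlgebra T M,
      θ (MonoidAlgebra.mapDomainBialgHom T (QuotientGroup.mk' H) x) = P (e.symm x) := by
    intro x
    induction x using MonoidAlgebra.induction_linear with
    | zero => simp
    | add p q hp hq => simp only [map_add, hp, hq]
    | single m r =>
      rw [show MonoidAlgebra.single m r = r • MonoidAlgebra.single m (1 : T) by simp]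
      simp only [map_smul]
      congr 1
      simp [θ, g'', g', g]
  -- the retraction
  let q : A →ₐ[R] MonoidAlgebra T (M ⧸ H) :=
    (((MonoidAlgebra.mapDomainBialgHom T (QuotientGroup.mk' H)).toAlgHom.comp
      (e : T ⊗[R] A →ₐc[T] MonoidAlgebra T M).toAlgHom).restrictScalars R).comp
        Algebra.TensorProduct.includeRight
  have hq : ∀ a ∈ J, q a = 0 := by
    suffices J ≤ RingHom.ker q from this
    rw [hJ, Ideal.map_le_iff_le_comap]
    intro c hc
    change MonoidAlgebra.mapDomainBialgHom T (QuotientGroup.mk' H)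
      (readHom e φ ((1 : T) ⊗ₜ c)) = 0
    set y := readHom e φ ((1 : T) ⊗ₜ c) with hy
    have hy0 : Coalgebra.counit (R := T) y = 0 := by
      rw [hy, CoalgHomClass.counit_comp_apply, TensorProduct.counit_tmul,
        show Coalgebra.counit (R := R) c = 0 from hc]
      simp
    have : ∀ x : MonoidAlgebra T M, (∀ m ∉ H, x.coeff m = 0) →
        MonoidAlgebra.mapDomainBialgHom T (QuotientGroup.mk' H) x =
          MonoidAlgebra.single 1 (Coalgebra.counit (R := T) x) := by
      intro x hx
      rw [← MonoidAlgebra.sum_coeff_single x]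
      simp only [map_finsuppSum, MonoidAlgebra.mapDomainBialgHom_single,
        MonoidAlgebra.counit_single, CommSemiring.counit_apply]
      rw [← MonoidAlgebra.singleAddHom_apply, map_finsuppSum]
      refine Finsupp.sum_congr fun m hm => ?_
      rw [Finsupp.mem_support_iff] at hm
      rw [show QuotientGroup.mk' H m = 1 from
        (QuotientGroup.eq_one_iff m).2 (not_not.1 fun hcon => hm (hx m hcon))]
      rfl
    rw [this y fun m hm => h0 m hm c, hy0, MonoidAlgebra.single_zero]
  let ρ : T ⊗[R] (A ⧸ J) →ₐ[T] MonoidAlgebra T (M ⧸ H) :=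
    Algebra.TensorProduct.lift (Algebra.ofId T _) (Ideal.Quotient.liftₐ J q hq)
      fun _ _ => Commute.all _ _
  have hρP : ∀ y : T ⊗[R] A,
      ρ (P y) = MonoidAlgebra.mapDomainBialgHom T (QuotientGroup.mk' H) (e y) := by
    intro y
    induction y using TensorProduct.induction_on with
    | zero => simp
    | add p q hp hq => simp only [map_add, hp, hq]
    | tmul t a =>
      rw [show t ⊗ₜ[R] a = t • ((1 : T) ⊗ₜ[R] a) by
          rw [TensorProduct.smul_tmul', smul_eq_mul, _root_.mul_one]]
      simp only [map_smul]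
      congr 1
      change ρ ((1 : T) ⊗ₜ Ideal.Quotient.mk J a) = _
      rw [Algebra.TensorProduct.lift_tmul, map_one, _root_.one_mul]
      rfl
  refine ⟨M ⧸ H, inferInstance, ⟨(BialgEquiv.ofBijective θ ⟨?_, ?_⟩).symm⟩⟩
  · have hsurj : Function.Surjective
        (MonoidAlgebra.mapDomainBialgHom T (QuotientGroup.mk' H)) := fun x => by
      induction x using MonoidAlgebra.induction_linear with
      | zero => exact ⟨0, map_zero _⟩
      | add p q hp hq =>
        obtain ⟨a, ha⟩ := hp
        obtain ⟨b, hb⟩ := hq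
        exact ⟨a + b, by rw [map_add, ha, hb]⟩
      | single n r =>
        obtain ⟨m, rfl⟩ := QuotientGroup.mk'_surjective H n
        exact ⟨MonoidAlgebra.single m r, by simp⟩
    intro x y hxy
    obtain ⟨x', rfl⟩ := hsurj x
    obtain ⟨y', rfl⟩ := hsurj y
    rw [hθ, hθ] at hxy
    have h2 := congrArg ρ hxy
    rwa [hρP, hρP, BialgEquiv.apply_symm_apply, BialgEquiv.apply_symm_apply] at h2
  · intro z
    induction z using TensorProduct.induction_on with
    | zero => exact ⟨0, map_zero θ⟩
    | add p q hp hq =>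
      obtain ⟨a, ha⟩ := hp
      obtain ⟨b, hb⟩ := hq
      exact ⟨a + b, by rw [map_add, ha, hb]⟩
    | tmul t b =>
      obtain ⟨a, rfl⟩ := Ideal.Quotient.mk_surjective b
      refine ⟨MonoidAlgebra.mapDomainBialgHom T (QuotientGroup.mk' H) (e (t ⊗ₜ a)), ?_⟩
      rw [hθ, BialgEquiv.symm_apply_apply]
      rfl

/-- The kernel of a homomorphism from a group of multiplicative type to an affine group of finite
type is of multiplicative type. -/
theorem isMultType_kernel (hA : SGA3b.IsMultType R A) [Algebra.FiniteType R C] (φ : C →ₐc[R] A)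
    (J : Ideal A) [J.IsHopfIdeal R]
    (hJ : J = Ideal.map φ (RingHom.ker (Bialgebra.counitAlgHom R C))) :
    SGA3b.IsMultType R (A ⧸ J) := by
  classical
  obtain ⟨ι, _, S, _, _, hff, hd⟩ := exists_split_family hA
  choose M hM he using hd
  have e : ∀ i, S i ⊗[R] A ≃ₐc[S i] MonoidAlgebra (S i) (M i) := fun i => (he i).some
  haveI := hff
  choose h hh H h1 h0 using fun (i : ι) (q : PrimeSpectrum (S i)) =>
    exists_pattern (readHom (e i) φ) q.asIdeal
  have hspan : ∀ i, Ideal.span (Set.range (h i)) = ⊤ := fun i => by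
    by_contra hcon
    obtain ⟨p, hp, hle⟩ := Ideal.exists_le_maximal _ hcon
    exact hh i ⟨p, hp.isPrime⟩ (hle (Ideal.subset_span ⟨_, rfl⟩))
  choose t hts ht using fun i => (Ideal.span_eq_top_iff_finite _).1 (hspan i)
  let U : (Σ i, t i) → Type u := fun j => Localization.Away (j.2 : S j.1)
  haveI : ∀ i, Module.Flat R (S i) := fun i => Module.Flat.of_retract
    (LinearMap.single R S i) (LinearMap.proj i) (LinearMap.ext fun x => Pi.single_eq_same i x)
  haveI : ∀ j, Module.Flat R (U j) := fun j => Module.Flat.trans R (S j.1) (U j)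
  haveI : Module.Flat R (∀ j, U j) :=
    Module.Flat.of_linearEquiv (DFinsupp.linearEquivFunOnFintype (R := R) (M := U)).symm
  haveI : Module.FaithfullyFlat R (∀ j, U j) := by
    refine Module.FaithfullyFlat.of_comap_surjective fun p => ?_
    obtain ⟨w, hw⟩ := PrimeSpectrum.comap_surjective_of_faithfullyFlat (A := R) (B := ∀ i, S i) p
    obtain ⟨i, hi⟩ : ∃ i, (Pi.single i 1 : ∀ i, S i) ∉ w.asIdeal := by
      by_contra hcon
      push Not at hcon
      refine w.isPrime.ne_top (Ideal.eq_top_iff_one _ |>.2 ?_)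
      rw [← Finset.univ_sum_single (1 : ∀ i, S i)]
      exact sum_mem fun i _ => hcon i
    obtain ⟨v, hv⟩ : w ∈ Set.range (PrimeSpectrum.comap (Pi.evalRingHom S i)) := by
      rw [range_comap_of_surjective _ _ (Function.surjective_eval i)]
      intro x hx
      refine (w.isPrime.mem_or_mem ?_).resolve_left hi
      have : (Pi.single i 1 : ∀ i, S i) * x = 0 := by
        funext j
        rcases eq_or_ne j i with rfl | hj
        · simpa using hx
        · simp [Pi.single_eq_of_ne hj]
      rw [this]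
      exact zero_mem _
    obtain ⟨f, hf⟩ : ∃ f : t i, (f : S i) ∉ v.asIdeal := by
      by_contra hcon
      push Not at hcon
      exact v.isPrime.ne_top (top_le_iff.1 (ht i ▸ Ideal.span_le.2 fun x hx => hcon ⟨x, hx⟩))
    obtain ⟨v', hv'⟩ : v ∈ Set.range
        (PrimeSpectrum.comap (algebraMap (S i) (Localization.Away (f : S i)))) := by
      rw [PrimeSpectrum.localization_away_comap_range (Localization.Away (f : S i)) (f : S i)]
      exact hf
    refine ⟨PrimeSpectrum.comap (Pi.evalRingHom U ⟨i, f⟩) v', ?_⟩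
    rw [← hw, ← hv, ← hv', ← PrimeSpectrum.comap_comp_apply, ← PrimeSpectrum.comap_comp_apply,
      ← PrimeSpectrum.comap_comp_apply]
    congr 1
  refine isMultType_of_family (S := U) inferInstance fun ⟨i, f⟩ => ?_
  obtain ⟨q, hq⟩ := hts i f.2
  let ψ := readHom (e i) φ
  let T := Localization.Away (f : S i)
  have hunit : IsUnit (algebraMap (S i) T (h i q)) := by
    rw [hq]; exact IsLocalization.Away.algebraMap_isUnit _
  let eT := (splitEquiv (e i) T).symm
  have hnat : ∀ z : S i ⊗[R] C,
      readHom eT φ (mapT R C (IsScalarTower.toAlgHom R (S i) T) z) =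
        MonoidAlgebra.mapRingHom (M i) (algebraMap (S i) T) (ψ z) := by
    intro z
    have h2 := splitEquiv_natural (e i) (T := S i) (T' := T)
      (IsScalarTower.toAlgHom R (S i) T) (fun _ => rfl) (ψ z)
    suffices h4 : Bialgebra.TensorProduct.map (BialgHom.id T T) φ
        (mapT R C (IsScalarTower.toAlgHom R (S i) T) z) =
          mapT R A (IsScalarTower.toAlgHom R (S i) T) (splitEquiv (e i) (S i) (ψ z)) from
      (congrArg eT (h4.trans h2)).trans ((splitEquiv (e i) T).symm_apply_apply _)
    clear h2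
    induction z using TensorProduct.induction_on with
    | zero => simp
    | add p q hp hq => simp only [map_add, hp, hq]
    | tmul s c =>
      have h3 : ∀ x, splitEquiv (e i) (S i) x = (e i).symm x := by
        intro x
        induction x using MonoidAlgebra.induction_linear with
        | zero => simp
        | add p q hp hq => simp only [map_add, hp, hq]
        | single m r =>
          rw [show MonoidAlgebra.single m r = r • MonoidAlgebra.single m (1 : S i) by simp,
            map_smul, map_smul, splitEquiv_single]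
          congr 1
          rw [splitElem, show IsScalarTower.toAlgHom R (S i) (S i) = AlgHom.id R (S i) from rfl]
          simp [mapT]
      rw [h3, show ψ (s ⊗ₜ c) = e i (s ⊗ₜ φ c) from rfl, BialgEquiv.symm_apply_apply]
      rfl
  refine isDiag_quot eT φ (H i q) (fun m hm => ?_) (fun m hm c => ?_) J hJ
  · obtain ⟨n, x, hx⟩ := h1 i q m hm
    refine ⟨((hunit.pow n).unit⁻¹ : Tˣ).1 • mapT R C (IsScalarTower.toAlgHom R (S i) T) x, ?_⟩
    rw [map_smul, hnat, hx, MonoidAlgebra.mapRingHom_single, MonoidAlgebra.smul_single, map_pow,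
      smul_eq_mul, IsUnit.val_inv_mul]
  · have h2 := hnat ((1 : S i) ⊗ₜ c)
    rw [show mapT R C (IsScalarTower.toAlgHom R (S i) T) ((1 : S i) ⊗ₜ c) = (1 : T) ⊗ₜ c by
      simp [mapT]] at h2
    rw [h2]
    change algebraMap (S i) T ((ψ ((1 : S i) ⊗ₜ c)).coeff m) = 0
    have h3 := congrArg (algebraMap (S i) T)
      (h0 i q m hm _ (coeff_mem_coefI ψ ((1 : S i) ⊗ₜ[R] c) m))
    rw [map_zero, map_mul] at h3
    exact hunit.mul_right_eq_zero.1 h3

/-- A monomorphism from a group of multiplicative type is a closed immersion. -/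
theorem surjective_of_mono (hA : SGA3b.IsMultType R A) (φ : C →ₐc[R] A)
    (hmono : ∀ (T : Type u) [CommRing T] [Algebra R T],
      Function.Injective (fun x : A →ₐ[R] T => x.comp (φ : C →ₐ[R] A))) :
    Function.Surjective φ := by
  refine surjective_of_split hA (φ : C →ₐc[R] A).toLinearMap fun S _ _ hd => ?_
  obtain ⟨M, _, ⟨e⟩⟩ := hd
  suffices hψ : Function.Surjective (readHom e φ) by
    intro y
    obtain ⟨z, hz⟩ := hψ (e y)
    have key : ∀ z, readHom e φ z = e ((φ : C →ₐc[R] A).toLinearMap.lTensor S z) := by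
      intro z
      induction z using TensorProduct.induction_on with
      | zero => simp
      | add p q hp hq => simp only [map_add, hp, hq]
      | tmul t c => rfl
    exact ⟨z, e.injective ((key z).symm.trans hz)⟩
  refine surjective_of_coefI _ fun m => ?_
  by_contra hcon
  obtain ⟨p, hp, hle⟩ := Ideal.exists_le_maximal _ hcon
  haveI := hp.isPrime
  let H := atPrime (readHom e φ) p
  let T := MonoidAlgebra (S ⧸ p) (M ⧸ H)
  let v : MonoidAlgebra S M →ₐ[S] T := MonoidAlgebra.lift S T M
    ((MonoidAlgebra.of (S ⧸ p) (M ⧸ H)).comp (QuotientGroup.mk' H))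
  let v₁ : MonoidAlgebra S M →ₐ[S] T := MonoidAlgebra.lift S T M 1
  let x : A →ₐ[R] T := ((v.comp (e : S ⊗[R] A →ₐc[S] MonoidAlgebra S M).toAlgHom).restrictScalars R).comp
    Algebra.TensorProduct.includeRight
  let x₁ : A →ₐ[R] T := ((v₁.comp (e : S ⊗[R] A →ₐc[S] MonoidAlgebra S M).toAlgHom).restrictScalars R).comp
    Algebra.TensorProduct.includeRight
  have hx : x = x₁ := hmono T (AlgHom.ext fun c => by
    change v (readHom e φ ((1 : S) ⊗ₜ c)) = v₁ (readHom e φ ((1 : S) ⊗ₜ c))
    set y := readHom e φ ((1 : S) ⊗ₜ c)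
    simp only [v, v₁, MonoidAlgebra.lift_apply]
    refine Finsupp.sum_congr fun a _ => ?_
    by_cases ha : a ∈ H
    · rw [MonoidHom.one_apply]
      simp [(QuotientGroup.eq_one_iff a).2 ha]
      rw [← MonoidAlgebra.one_def]
    · have hp0 : Ideal.Quotient.mk p (y.coeff a) = 0 :=
        Ideal.Quotient.eq_zero_iff_mem.2
          ((not_not.1 ha : coefI (readHom e φ) a ≤ p) (coeff_mem_coefI _ _ a))
      have hz : algebraMap S T (y.coeff a) = 0 := by
        rw [IsScalarTower.algebraMap_apply S (S ⧸ p) T, Ideal.Quotient.algebraMap_eq, hp0, map_zero]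
      rw [Algebra.smul_def, Algebra.smul_def, hz, zero_mul, zero_mul])
  have hv : v = v₁ := by
    have : v.comp (e : S ⊗[R] A →ₐc[S] MonoidAlgebra S M).toAlgHom =
        v₁.comp (e : S ⊗[R] A →ₐc[S] MonoidAlgebra S M).toAlgHom :=
      Algebra.TensorProduct.ext (Subsingleton.elim _ _) hx
    refine AlgHom.ext fun z => ?_
    have h2 := DFunLike.congr_fun this (e.symm z)
    simpa using h2
  have h2 := DFunLike.congr_fun hv (MonoidAlgebra.single m 1)
  simp only [v, v₁, MonoidAlgebra.lift_single, one_smul, MonoidHom.one_apply] at h2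
  haveI : Nontrivial (S ⧸ p) := Ideal.Quotient.nontrivial_iff.2 hp.ne_top
  have h3 : QuotientGroup.mk' H m = 1 :=
    MonoidAlgebra.single_left_injective (R := S ⧸ p) one_ne_zero
      (h2.trans MonoidAlgebra.one_def)
  exact (QuotientGroup.eq_one_iff m).1 h3 hle

end Kernel

end Groth.L25.MultType
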