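import Groth.Agent.L25.MultType.NilBase
import Mathlib.RingTheory.Flat.FaithfullyFlat.Basic
import Mathlib.RingTheory.Localization.Away.Basic

/-!
# Relations between the notions of multiplicative type
-/

set_option autoImplicit false

universe u

open TensorProduct

namespace Groth.L25.MultType

variable {R : Type u} [CommRing R] {A : Type u} [CommRing A] [HopfAlgebra R A]

/-- A ff splitting of the whole base gives multiplicative type. -/
theorem isMultType_of_split {R' : Type u} [CommRing R'] [Algebra R R']
    [Module.FaithfullyFlat R R'] (h : SGA3b.IsDiag R' (R' ⊗[R] A)) : SGA3b.IsMultType R A := by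
  refine ⟨{1}, Ideal.span_singleton_one, ?_⟩
  intro f _
  let S := Localization.Away f ⊗[R] R'
  letI : Algebra R' S := Algebra.TensorProduct.rightAlgebra
  haveI : IsScalarTower R R' S := IsScalarTower.of_algebraMap_eq fun r => by
    change algebraMap R (Localization.Away f) r ⊗ₜ[R] (1 : R') = _
    exact Algebra.TensorProduct.tmul_one_eq_one_tmul r
  exact ⟨S, inferInstance, inferInstance, inferInstance,
    isDiag_of_bialgEquiv (cancelBialg R (Localization.Away f) S A).symm (isDiag_of_tower (T := S) h)⟩

theorem isMultType_of_isIsotrivial (h : SGA3b.IsIsotrivial R A) : SGA3b.IsMultType R A := by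
  obtain ⟨R', _, _, _, _, _, hd⟩ := h
  exact isMultType_of_split hd

variable (I : Ideal R)

/-- The localisation of a quotient, as an algebra over the localisation. -/
noncomputable abbrev locQuotAlgebra (f : R) :
    Algebra (Localization.Away f) (Localization.Away (Ideal.Quotient.mk I f)) :=
  (IsLocalization.Away.lift f
    (g := algebraMap R (Localization.Away (Ideal.Quotient.mk I f)))
    (by
      rw [IsScalarTower.algebraMap_apply R (R ⧸ I) (Localization.Away (Ideal.Quotient.mk I f))]
      exact IsLocalization.Away.algebraMap_isUnit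
        (S := Localization.Away (Ideal.Quotient.mk I f)) (Ideal.Quotient.mk I f))).toAlgebra

theorem locQuot_tower (f : R) :
    letI := locQuotAlgebra I f
    IsScalarTower R (Localization.Away f) (Localization.Away (Ideal.Quotient.mk I f)) := by
  letI := locQuotAlgebra I f
  exact IsScalarTower.of_algebraMap_eq fun r =>
    (IsLocalization.Away.lift_eq f _ r).symm

theorem locQuot_surjective_and_ker (f : R) :
    letI := locQuotAlgebra I f
    Function.Surjective (algebraMap (Localization.Away f) (Localization.Away (Ideal.Quotient.mk I f))) ∧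
      RingHom.ker (algebraMap (Localization.Away f) (Localization.Away (Ideal.Quotient.mk I f))) ≤
        I.map (algebraMap R (Localization.Away f)) := by
  letI := locQuotAlgebra I f
  haveI := locQuot_tower I f
  set B := Localization.Away (Ideal.Quotient.mk I f)
  set P := Localization.Away f
  have hmap : ∀ r : R, algebraMap P B (algebraMap R P r) =
      algebraMap (R ⧸ I) B (Ideal.Quotient.mk I r) := fun r => by
    rw [← IsScalarTower.algebraMap_apply R P B, IsScalarTower.algebraMap_apply R (R ⧸ I) B]
    rfl
  obtain ⟨u, hu⟩ := IsLocalization.Away.algebraMap_isUnit (S := P) f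
  constructor
  · intro b
    obtain ⟨n, a, ha⟩ := IsLocalization.Away.surj (S := B) (Ideal.Quotient.mk I f) b
    obtain ⟨a, rfl⟩ := Ideal.Quotient.mk_surjective a
    refine ⟨algebraMap R P a * (↑u⁻¹ : P) ^ n, ?_⟩
    rw [map_mul, hmap, ← ha, ← hmap f, mul_assoc, ← map_pow, ← map_mul, ← mul_pow, ← hu,
      Units.mul_inv, one_pow, map_one, mul_one]
  · intro x hx
    obtain ⟨n, a, ha⟩ := IsLocalization.Away.surj (S := P) f x
    have h0 : algebraMap (R ⧸ I) B (Ideal.Quotient.mk I a) = 0 := by
      rw [← hmap, ← ha, map_mul, RingHom.mem_ker.1 hx, zero_mul]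
    obtain ⟨⟨_, k, rfl⟩, hk⟩ :=
      (IsLocalization.map_eq_zero_iff (Submonoid.powers (Ideal.Quotient.mk I f)) B _).1 h0
    have hmem : f ^ k * a ∈ I := Ideal.Quotient.eq_zero_iff_mem.1 (by
      simpa using hk)
    have hx' : x = algebraMap R P (f ^ k * a) * (↑u⁻¹ : P) ^ (k + n) := by
      rw [map_mul, ← ha, map_pow, ← hu, pow_add]
      have h1 : (u : P) ^ n * (↑u⁻¹ : P) ^ n = 1 := by rw [← mul_pow, Units.mul_inv, one_pow]
      have h2 : (u : P) ^ k * (↑u⁻¹ : P) ^ k = 1 := by rw [← mul_pow, Units.mul_inv, one_pow]
      calc x = x * ((u : P) ^ n * (↑u⁻¹ : P) ^ n) * ((u : P) ^ k * (↑u⁻¹ : P) ^ k) := by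
            rw [h1, h2, mul_one, mul_one]
        _ = _ := by ring
    rw [hx']
    exact Ideal.mul_mem_right _ _ (Ideal.mem_map_of_mem _ hmem)

end Groth.L25.MultType
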