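import Groth.Agent.L25.Char.LocalKill
import Mathlib.RingTheory.HopfAlgebra.Quotient
import Mathlib.RingTheory.Ideal.IdempotentFG
import Mathlib.RingTheory.Nakayama

/-!
# Subgroups of groups of multiplicative type with trivial closed fibre
-/

set_option autoImplicit false

universe u

open TensorProduct

namespace Groth.L25.MultType

variable {R A B : Type u} [CommRing R] [CommRing A] [HopfAlgebra R A] [CommRing B] [HopfAlgebra R B]

/-- The ideal of the kernel of a homomorphism is a Hopf ideal. -/
theorem isHopfIdeal_map_ker (φ : A →ₐc[R] B) (J : Ideal B)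
    (hJ : J = (RingHom.ker (Bialgebra.counitAlgHom R A)).map (φ : A →ₐ[R] B)) :
    J.IsHopfIdeal R := by
  have hgen : ∀ k : A, Coalgebra.counit (R := R) k = 0 → φ k ∈ J := fun k hk =>
    hJ ▸ Ideal.mem_map_of_mem _ hk
  have hπ : ∀ a : A, Ideal.Quotient.mk J (φ a) =
      algebraMap R (B ⧸ J) (Coalgebra.counit (R := R) a) := fun a => by
    rw [IsScalarTower.algebraMap_apply R B (B ⧸ J), Ideal.Quotient.algebraMap_eq,
      Ideal.Quotient.eq, ← AlgHom.commutes (φ : A →ₐ[R] B)]
    change φ a - φ (algebraMap R A (Coalgebra.counit a)) ∈ J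
    rw [← map_sub]
    exact hgen _ (by simp)
  refine { toIsCoideal := ⟨?_, ?_⟩, antipode_mem := ?_ }
  · intro x hx
    change x ∈ J at hx
    rw [hJ, Ideal.map] at hx
    refine Submodule.span_induction (fun y hy => ?_) (map_zero _)
      (fun y z _ _ hy hz => by rw [map_add, hy, hz, add_zero])
      (fun a y _ hy => by rw [smul_eq_mul, Bialgebra.counit_mul, hy, mul_zero]) hx
    obtain ⟨k, hk, rfl⟩ := hy
    exact (CoalgHomClass.counit_comp_apply φ k).trans hk
  · intro x hx
    let f : B →ₐ[R] (B ⧸ J) ⊗[R] (B ⧸ J) :=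
      (Algebra.TensorProduct.map (Ideal.Quotient.mkₐ R J) (Ideal.Quotient.mkₐ R J)).comp
        (Bialgebra.comulAlgHom R B)
    have hf : J ≤ RingHom.ker f := by
      refine hJ.trans_le (Ideal.map_le_iff_le_comap.2 fun k hk => ?_)
      rw [Ideal.mem_comap, RingHom.mem_ker]
      have key : ∀ w : A ⊗[R] A, Algebra.TensorProduct.map (Ideal.Quotient.mkₐ R J)
          (Ideal.Quotient.mkₐ R J) (TensorProduct.map (φ : A →ₐ[R] B).toLinearMap
            (φ : A →ₐ[R] B).toLinearMap w) =
          algebraMap R ((B ⧸ J) ⊗[R] (B ⧸ J)) (Coalgebra.counit (R := R)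
            (TensorProduct.lid R A ((Coalgebra.counit (R := R)).rTensor A w))) := by
        intro w
        induction w using TensorProduct.induction_on with
        | zero => simp
        | add p q hp hq => simp only [map_add, hp, hq]
        | tmul p q =>
          simp only [TensorProduct.map_tmul, Algebra.TensorProduct.map_tmul,
            LinearMap.rTensor_tmul, TensorProduct.lid_tmul, map_smul, smul_eq_mul]
          change Ideal.Quotient.mk J (φ p) ⊗ₜ[R] Ideal.Quotient.mk J (φ q) = _
          rw [hπ, hπ, Algebra.algebraMap_eq_smul_one (A := B ⧸ J),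
            Algebra.algebraMap_eq_smul_one (A := B ⧸ J), TensorProduct.smul_tmul_smul,
            Algebra.algebraMap_eq_smul_one]
          rfl
      change Algebra.TensorProduct.map (Ideal.Quotient.mkₐ R J) (Ideal.Quotient.mkₐ R J)
        (Coalgebra.comul (R := R) (φ k)) = 0
      rw [← CoalgHomClass.map_comp_comul_apply φ k]
      refine (key _).trans ?_
      rw [Coalgebra.rTensor_counit_comul, TensorProduct.lid_tmul, one_smul,
        show Coalgebra.counit (R := R) k = 0 from hk, map_zero]
    have h1 : f x = 0 := hf hx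
    have hbr : ∀ w : B ⊗[R] B, TensorProduct.map (J.restrictScalars R).mkQ
        (J.restrictScalars R).mkQ w =
        Algebra.TensorProduct.map (Ideal.Quotient.mkₐ R J) (Ideal.Quotient.mkₐ R J) w := by
      intro w
      induction w using TensorProduct.induction_on with
      | zero => exact (map_zero (TensorProduct.map (J.restrictScalars R).mkQ
          (J.restrictScalars R).mkQ)).trans (map_zero _).symm
      | add p q hp hq => exact (map_add _ p q).trans ((congrArg₂ (· + ·) hp hq).trans (map_add _ p q).symm)
      | tmul p q => rfl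
    exact (hbr _).trans h1
  · intro x hx
    have hf : J ≤ J.comap (HopfAlgebra.antipodeAlgHom R B) := by
      conv_lhs => rw [hJ]
      rw [Ideal.map_le_iff_le_comap]
      intro k hk
      rw [Ideal.mem_comap, Ideal.mem_comap]
      change HopfAlgebra.antipode R (φ k) ∈ J
      rw [← Groth.L25.Char.bialgHom_antipode]
      exact hgen _ (by rw [HopfAlgebra.counit_antipode]; exact hk)
    exact hf hx

/-- The torsion subgroups of a group of multiplicative type and finite type are finite. -/
theorem finite_torsion (hA : SGA3b.IsMultType R A) [Algebra.FiniteType R A] {n : ℕ} (hn : 0 < n) :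
    Module.Finite R (A ⧸ SGA3b.torsionIdeal R A n) := by
  haveI := isCocomm hA
  let φ : A →ₐc[R] A := (WithConv.toConv (BialgHom.id R A) ^ n).ofConv
  have hφ : (φ : A →ₐ[R] A) = SGA3b.powConv R A n :=
    congrArg WithConv.ofConv (BialgHom.toAlgHom_convPow (WithConv.toConv (BialgHom.id R A)) n)
  haveI := isHopfIdeal_map_ker φ (SGA3b.torsionIdeal R A n) (by rw [SGA3b.torsionIdeal, hφ])
  exact (isMultType_torsion hA hn _ rfl).2

/-- A Hopf algebra with augmentation ideal `K` such that `K ≤ 𝔪 + K²` has `K` generated by an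
idempotent in `𝔪`. -/
theorem exists_idem_counit [IsLocalRing R] [Algebra.FinitePresentation R B]
    (hs : RingHom.ker (Bialgebra.counitAlgHom R B) ≤
      (IsLocalRing.maximalIdeal R).map (algebraMap R B)) :
    ∃ e : B, IsIdempotentElem e ∧ RingHom.ker (Bialgebra.counitAlgHom R B) = Ideal.span {e} ∧
      e ∈ (IsLocalRing.maximalIdeal R).map (algebraMap R B) := by
  let K := RingHom.ker (Bialgebra.counitAlgHom R B)
  have hKfg : K.FG := Algebra.FinitePresentation.ker_fG_of_surjective (Bialgebra.counitAlgHom R B)
    fun r => ⟨algebraMap R B r, by simp⟩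
  let V : Submodule R K.Cotangent := ⊤
  have hV : V.FG := by
    obtain ⟨t, ht⟩ := hKfg
    classical
    refine ⟨t.attach.image fun x => K.toCotangent ⟨x.1, ht ▸ Ideal.subset_span x.2⟩, ?_⟩
    rw [eq_top_iff]
    rintro z -
    obtain ⟨⟨z, hz⟩, rfl⟩ := K.toCotangent_surjective z
    have hz' : z ∈ Ideal.span (t : Set B) := ht.symm ▸ hz
    refine Submodule.span_induction
      (p := fun y _ => ∀ h : y ∈ K, K.toCotangent ⟨y, h⟩ ∈ Submodule.span R _)
      (fun y hy h => Submodule.subset_span (Finset.mem_image.2 ⟨⟨y, hy⟩, Finset.mem_attach _ _, rfl⟩))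
      (fun h => by rw [show (⟨0, h⟩ : K) = 0 from rfl, map_zero]; exact zero_mem _)
      (fun y y' hy hy' ihy ihy' h => ?_) (fun a y hy ih h => ?_) hz' hz
    · have hyK : y ∈ K := ht ▸ hy
      have hyK' : y' ∈ K := ht ▸ hy'
      rw [show (⟨y + y', h⟩ : K) = ⟨y, hyK⟩ + ⟨y', hyK'⟩ from rfl, map_add]
      exact add_mem (ihy _) (ihy' _)
    · have hyK : y ∈ K := ht ▸ hy
      have h2 : K.toCotangent ⟨a • y, h⟩ = Coalgebra.counit (R := R) a • K.toCotangent ⟨y, hyK⟩ := by
        rw [← LinearMap.map_smul_of_tower, Ideal.toCotangent_eq, pow_two]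
        have : a • y - Coalgebra.counit (R := R) a • y =
            (a - algebraMap R B (Coalgebra.counit a)) * y := by
          rw [sub_mul, smul_eq_mul, Algebra.smul_def]
        change a • y - Coalgebra.counit (R := R) a • y ∈ _
        rw [this]
        exact Ideal.mul_mem_mul (by simp [K, RingHom.mem_ker]) hyK
      rw [h2]
      exact Submodule.smul_mem _ _ (ih hyK)
  have hVm : V ≤ IsLocalRing.maximalIdeal R • V := by
    rintro z -
    obtain ⟨⟨z, hz⟩, rfl⟩ := K.toCotangent_surjective z
    have hz' : z ∈ IsLocalRing.maximalIdeal R • (⊤ : Submodule R B) := by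
      rw [Ideal.smul_top_eq_map]; exact hs hz
    let p : B →ₗ[R] B :=
      LinearMap.id - (Algebra.linearMap R B) ∘ₗ (Bialgebra.counitAlgHom R B).toLinearMap
    have hp : ∀ b, p b ∈ K := fun b => by
      change Bialgebra.counitAlgHom R B
        (b - algebraMap R B (Bialgebra.counitAlgHom R B b)) = 0
      rw [map_sub, AlgHom.commutes]
      exact sub_self _
    let q : B →ₗ[R] K.Cotangent :=
      (K.toCotangent.restrictScalars R) ∘ₗ (LinearMap.codRestrict (K.restrictScalars R) p hp)
    have h1 : q z ∈ IsLocalRing.maximalIdeal R • (⊤ : Submodule R K.Cotangent) :=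
      Submodule.smul_top_le_comap_smul_top _ q hz'
    have h2 : q z = K.toCotangent ⟨z, hz⟩ := by
      change K.toCotangent ⟨p z, hp z⟩ = _
      congr 1
      refine Subtype.ext ?_
      change z - algebraMap R B (Bialgebra.counitAlgHom R B z) = z
      rw [show Bialgebra.counitAlgHom R B z = 0 from hz, map_zero, sub_zero]
    rwa [h2] at h1
  have hbot : V = ⊥ := Submodule.eq_bot_of_le_smul_of_le_jacobson_bot _ V hV hVm
    (IsLocalRing.maximalIdeal_le_jacobson _)
  have hsq : IsIdempotentElem K := by
    refine le_antisymm Ideal.mul_le_right fun z hz => ?_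
    rw [← pow_two, ← K.toCotangent_eq_zero ⟨z, hz⟩]
    exact (Submodule.mem_bot R).1 (hbot ▸ (Submodule.mem_top : K.toCotangent ⟨z, hz⟩ ∈ V))
  obtain ⟨e, he, hKe⟩ := (Ideal.isIdempotentElem_iff_of_fg K hKfg).1 hsq
  exact ⟨e, he, hKe, hs (hKe ▸ Ideal.subset_span rfl : e ∈ K)⟩

/-- A group all of whose torsion subgroups are finite and whose closed fibre is trivial is
trivial. -/
theorem ker_counit_eq_bot [IsLocalRing R] [Algebra.FinitePresentation R B] [Coalgebra.IsCocomm R B]
    (hfin : ∀ n : ℕ, 0 < n → Module.Finite R (B ⧸ SGA3b.torsionIdeal R B n))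
    (hs : RingHom.ker (Bialgebra.counitAlgHom R B) ≤
      (IsLocalRing.maximalIdeal R).map (algebraMap R B)) :
    RingHom.ker (Bialgebra.counitAlgHom R B) = ⊥ := by
  obtain ⟨e, he, hK, hmem⟩ := exists_idem_counit hs
  let ι : R ⊗[R] B ≃ₐ[R] B := Algebra.TensorProduct.lid R B
  let e' : R ⊗[R] B := (1 : R) ⊗ₜ e
  let φ : R ⊗[R] B →ₐc[R] R := Bialgebra.counitBialgHom R (R ⊗[R] B)
  have hkey : ∀ z : R ⊗[R] B, Coalgebra.counit (R := R) z = Coalgebra.counit (R := R) (ι z) := by
    intro z
    induction z using TensorProduct.induction_on with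
    | zero => simp
    | add p q hp hq => simp only [map_add, hp, hq]
    | tmul r b => simp [ι, TensorProduct.counit_tmul, mul_comm]
  have hker : RingHom.ker (φ : R ⊗[R] B →ₐ[R] R) = Ideal.span {e'} := by
    refine le_antisymm (fun z hz => ?_) ((Ideal.span_singleton_le_iff_mem _).2 ?_)
    · have h1 : ι z ∈ RingHom.ker (Bialgebra.counitAlgHom R B) := by
        rw [RingHom.mem_ker]; exact (hkey z).symm.trans hz
      rw [hK] at h1
      obtain ⟨b, hb⟩ := Ideal.mem_span_singleton'.1 h1
      refine Ideal.mem_span_singleton'.2 ⟨ι.symm b, ι.injective ?_⟩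
      rw [map_mul, AlgEquiv.apply_symm_apply, ← hb]
      simp [ι, e']
    · have : e ∈ RingHom.ker (Bialgebra.counitAlgHom R B) := by
        rw [hK]; exact Ideal.subset_span rfl
      change Coalgebra.counit (R := R) e' = 0
      rw [hkey]
      simp only [ι, e', Algebra.TensorProduct.lid_tmul, one_smul]
      exact this
  have hA : SGA3b.IsIsotrivial R R := by
    refine ⟨R, inferInstance, inferInstance, inferInstance, inferInstance, inferInstance,
      ULift.{u} (Multiplicative (Fin 0 → ℤ)), inferInstance, ⟨?_⟩⟩
    exact (BialgEquiv.ofBijective (Bialgebra.counitBialgHom R (R ⊗[R] R))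
      (by
        have : (Coalgebra.counit (R := R) : R ⊗[R] R → R) = Algebra.TensorProduct.lid R R := by
          funext z
          induction z using TensorProduct.induction_on with
          | zero => simp
          | add p q hp hq => simp only [map_add, hp, hq]
          | tmul p q => simp [TensorProduct.counit_tmul, mul_comm]
        change Function.Bijective (Coalgebra.counit (R := R) : R ⊗[R] R → R)
        rw [this]
        exact (Algebra.TensorProduct.lid R R).bijective)).trans
      (BialgEquiv.ofBijective (Bialgebra.counitBialgHom R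
        (MonoidAlgebra R (ULift.{u} (Multiplicative (Fin 0 → ℤ))))) (by
        refine Function.bijective_iff_has_inverse.2 ⟨algebraMap R _, fun x => ?_, fun r => ?_⟩
        · induction x using MonoidAlgebra.induction_linear with
          | zero => simp
          | add p q hp hq => simp only [map_add, hp, hq]
          | single m r => simp [Subsingleton.elim m 1]
        · simp)).symm
  have hmem' : e' ∈ (IsLocalRing.maximalIdeal R).map (algebraMap R (R ⊗[R] B)) := by
    have hle : (IsLocalRing.maximalIdeal R).map (algebraMap R B) ≤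
        ((IsLocalRing.maximalIdeal R).map (algebraMap R (R ⊗[R] B))).comap ι.symm.toAlgHom :=
      Ideal.map_le_iff_le_comap.2 fun r hr => by
        rw [Ideal.mem_comap, Ideal.mem_comap, AlgHom.commutes]
        exact Ideal.mem_map_of_mem _ hr
    have h1 := hle hmem
    rw [Ideal.mem_comap] at h1
    exact h1
  have h0 : e' = 0 := Groth.L25.Char.clopen_eq_zero_of_torsion hfin hA φ
    (fun r => ⟨algebraMap R _ r, by simp [φ]⟩) (he.map (Algebra.TensorProduct.includeRight
      (R := R) (A := R) (B := B))) hker hmem'
  have h1 := congrArg ι h0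
  simp only [ι, e', Algebra.TensorProduct.lid_tmul, one_smul, map_zero] at h1
  rw [hK, h1, Ideal.span_singleton_eq_bot.2 rfl]

end Groth.L25.MultType
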