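import Groth.Agent.L25.MultType.Image
import Mathlib.RingTheory.Coalgebra.GroupLike
import Mathlib.RingTheory.HopfAlgebra.GroupLike
import Mathlib.Topology.Connected.Clopen

/-!
# Closed subgroups of diagonalisable groups and of groups of multiplicative type
-/

set_option autoImplicit false

universe u

open TensorProduct WithConv

namespace Groth.L25.MultType

open Groth.L25.Char

/-- A quotient of a group algebra in which the distinct images of the characters are linearly
independent is a group algebra. -/
theorem isDiag_of_surjective {R : Type u} [CommRing R] {M : Type u} [CommGroup M] {B : Type u}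
    [CommRing B] [HopfAlgebra R B] (f : MonoidAlgebra R M →ₐc[R] B) (hf : Function.Surjective f)
    (hLI : LinearIndependent R (GroupLike.val (R := R) (A := B))) : SGA3b.IsDiag R B := by
  classical
  let g : M →* GroupLike R B :=
    { toFun := fun m => ⟨f (MonoidAlgebra.single m 1),
        (MonoidAlgebra.isGroupLikeElem_single_one m).map f⟩
      map_one' := GroupLike.ext (by
        change f (MonoidAlgebra.single 1 1) = 1
        rw [← MonoidAlgebra.one_def, map_one])
      map_mul' := fun a b => GroupLike.ext (by
        change f (MonoidAlgebra.single (a * b) 1) =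
          f (MonoidAlgebra.single a 1) * f (MonoidAlgebra.single b 1)
        rw [← map_mul, MonoidAlgebra.single_mul_single, _root_.mul_one]) }
  let θ : MonoidAlgebra R g.range →ₐc[R] B :=
    (MonoidAlgebra.liftGroupLikeBialgHom).comp
      (MonoidAlgebra.mapDomainBialgHom R g.range.subtype)
  have hθ : ∀ x, θ x = Finsupp.linearCombination R (fun n : g.range => (n : GroupLike R B).val)
      x.coeff := by
    intro x
    induction x using MonoidAlgebra.induction_linear with
    | zero => simp
    | add p q hp hq => rw [map_add, hp, hq, MonoidAlgebra.coeff_add, map_add]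
    | single n r =>
      rw [MonoidAlgebra.coeff_single, Finsupp.linearCombination_single]
      simp [θ]
  refine ⟨g.range, inferInstance, ⟨(BialgEquiv.ofBijective θ ⟨fun x y h => ?_, fun b => ?_⟩).symm⟩⟩
  · rw [hθ, hθ] at h
    exact MonoidAlgebra.ext (hLI.comp Subtype.val Subtype.coe_injective h)
  · obtain ⟨x, rfl⟩ := hf b
    induction x using MonoidAlgebra.induction_linear with
    | zero => exact ⟨0, by rw [map_zero, map_zero]⟩
    | add p q hp hq =>
      obtain ⟨a, ha⟩ := hp
      obtain ⟨c, hc⟩ := hq
      exact ⟨a + c, by rw [map_add, map_add, ha, hc]⟩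
    | single m r =>
      refine ⟨MonoidAlgebra.single ⟨g m, m, rfl⟩ r, ?_⟩
      rw [hθ, MonoidAlgebra.coeff_single, Finsupp.linearCombination_single]
      change r • f (MonoidAlgebra.single m 1) = _
      rw [← map_smul]
      simp

/-- A closed subgroup of a group of multiplicative type over a field is of multiplicative type. -/
theorem isMultType_quotient_field {k : Type u} [Field k] {A : Type u} [CommRing A] [HopfAlgebra k A]
    (hA : SGA3b.IsMultType k A) (J : Ideal A) [J.IsHopfIdeal k] :
    SGA3b.IsMultType k (A ⧸ J) := by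
  classical
  obtain ⟨ι, _, S, _, _, hff, hd⟩ := exists_split_family hA
  haveI := hff
  obtain ⟨i, hi⟩ : ∃ i, Nontrivial (S i) := by
    by_contra hcon
    simp only [not_exists, not_nontrivial_iff_subsingleton] at hcon
    haveI : Subsingleton (∀ i, S i) := inferInstance
    exact one_ne_zero (α := k)
      (FaithfulSMul.algebraMap_injective k (∀ i, S i) (Subsingleton.elim _ _))
  obtain ⟨M, _, ⟨e⟩⟩ := hd i
  obtain ⟨m, hm⟩ := Ideal.exists_maximal (S i)
  letI := Ideal.Quotient.field m
  let f : MonoidAlgebra (S i ⧸ m) M →ₐc[S i ⧸ m] (S i ⧸ m) ⊗[k] (A ⧸ J) :=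
    (Bialgebra.TensorProduct.map (BialgHom.id (S i ⧸ m) (S i ⧸ m))
      (Bialgebra.Quotient.mkBialgHom (R := k) J)).comp
        (splitEquiv e (S i ⧸ m) : MonoidAlgebra (S i ⧸ m) M →ₐc[S i ⧸ m] (S i ⧸ m) ⊗[k] A)
  have hf : Function.Surjective f := by
    intro z
    induction z using TensorProduct.induction_on with
    | zero => exact ⟨0, map_zero f⟩
    | add p q hp hq =>
      obtain ⟨a, ha⟩ := hp
      obtain ⟨b, hb⟩ := hq
      exact ⟨a + b, by rw [map_add, ha, hb]⟩
    | tmul t b =>
      obtain ⟨a, rfl⟩ := Ideal.Quotient.mk_surjective b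
      refine ⟨(splitEquiv e (S i ⧸ m)).symm (t ⊗ₜ a), ?_⟩
      simp only [f, BialgHom.comp_apply, BialgEquiv.coe_toBialgHom, BialgEquiv.apply_symm_apply]
      rfl
  have hd' := isDiag_of_surjective f hf linearIndep_groupLikeVal
  exact isMultType_of_family (ι := PUnit.{u + 1}) (S := fun _ => S i ⧸ m) inferInstance fun _ => hd'

section Connected

variable {R : Type u} [CommRing R] {B : Type u} [CommRing B] [HopfAlgebra R B]

theorem isGL_one_tmul (T : Type u) [CommRing T] [Algebra R T] {b : B} (hb : IsGroupLikeElem R b) :
    IsGL R B T ((1 : T) ⊗ₜ b) := by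
  refine (isGL_iff R B T _).2 ⟨?_, ?_⟩
  · simp [hb.counit_eq_one]
  · rw [TensorProduct.comul_tmul, hb.comul_eq_tmul_self]
    simp

/-- Over a connected base the characters of a group of multiplicative type are linearly
independent. -/
theorem linearIndep_groupLike_of_connected (hB : SGA3b.IsMultType R B)
    (hconn : ∀ e : R, IsIdempotentElem e → e = 0 ∨ e = 1) :
    LinearIndependent R (GroupLike.val (R := R) (A := B)) := by
  classical
  haveI := flat hB
  obtain ⟨ι, _, S, _, _, hff, hd⟩ := exists_split_family hB
  haveI := hff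
  choose M hM he using hd
  have e : ∀ i, S i ⊗[R] B ≃ₐc[S i] MonoidAlgebra (S i) (M i) := fun i => (he i).some
  let c : ∀ i, GroupLike R B → MonoidAlgebra (S i) (M i) := fun i g => e i ((1 : S i) ⊗ₜ g.val)
  have hc : ∀ i g, IsGroupLikeElem (S i) (c i g) := fun i g =>
    ((isGL_iff R B (S i) _).1 (isGL_one_tmul (S i) g.2)).map (e i)
  let E : ∀ i, GroupLike R B → GroupLike R B → S i := fun i g h =>
    ∑ n ∈ (c i g).coeff.support, (c i g).coeff n * (c i h).coeff n
  have hEmul : ∀ i g h n, E i g h * ((c i g).coeff n * (c i h).coeff n) =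
      (c i g).coeff n * (c i h).coeff n := by
    intro i g h n
    rw [Finset.sum_mul, Finset.sum_eq_single n]
    · rw [mul_mul_mul_comm, (isIdempotentElem_coeff (hc i g) n).eq,
        (isIdempotentElem_coeff (hc i h) n).eq]
    · intro m _ hmn
      rw [mul_mul_mul_comm, coeff_mul_coeff (hc i g), if_neg hmn, zero_mul]
    · intro hn
      rw [Finsupp.notMem_support_iff.1 hn, zero_mul, zero_mul]
  have hEidem : ∀ i g h, IsIdempotentElem (E i g h) := fun i g h =>
    (Finset.mul_sum _ _ _).trans (Finset.sum_congr rfl fun n _ => hEmul i g h n)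
  have hfib : ∀ i g h (w : PrimeSpectrum (S i)),
      mapT R B (IsScalarTower.toAlgHom R (S i) w.asIdeal.ResidueField) ((1 : S i) ⊗ₜ g.val) =
        mapT R B (IsScalarTower.toAlgHom R (S i) w.asIdeal.ResidueField) ((1 : S i) ⊗ₜ h.val) ↔
      E i g h ∉ w.asIdeal := by
    intro i g h w
    let K := w.asIdeal.ResidueField
    have hnat : ∀ g : GroupLike R B,
        mapT R B (IsScalarTower.toAlgHom R (S i) K) ((1 : S i) ⊗ₜ g.val) =
          splitEquiv (e i) K (MonoidAlgebra.mapRingHom (M i) (algebraMap (S i) K) (c i g)) := by
      intro g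
      have h2 := splitEquiv_natural (e i) (T := S i) (T' := K)
        (IsScalarTower.toAlgHom R (S i) K) (fun _ => rfl) (c i g)
      have h3 : ∀ x, splitEquiv (e i) (S i) x = (e i).symm x := by
        intro x
        induction x using MonoidAlgebra.induction_linear with
        | zero => simp
        | add p q hp hq => simp only [map_add, hp, hq]
        | single m r =>
          rw [show MonoidAlgebra.single m r = r • MonoidAlgebra.single m (1 : S i) by simp,
            map_smul, map_smul, splitEquiv_single]
          congr 1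
          rw [splitElem, show IsScalarTower.toAlgHom R (S i) (S i) = AlgHom.id R (S i) from rfl]
          simp [mapT]
      rw [h3, show (e i).symm (c i g) = (1 : S i) ⊗ₜ g.val from (e i).symm_apply_apply _] at h2
      exact h2
    have hK : ∀ r : K, IsIdempotentElem r → r = 0 ∨ r = 1 := fun r hr =>
      IsIdempotentElem.iff_eq_zero_or_one.1 hr
    have hgl : ∀ g, ∃ a, MonoidAlgebra.mapRingHom (M i) (algebraMap (S i) K) (c i g) =
        MonoidAlgebra.single a 1 := fun g => by
      have h1 : IsGL R B K (mapT R B (IsScalarTower.toAlgHom R (S i) K) ((1 : S i) ⊗ₜ g.val)) :=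
        (isGL_one_tmul (S i) g.2).map _
      rw [hnat, isGL_iff] at h1
      have h2 := h1.map (splitEquiv (e i) K).symm
      rw [BialgEquiv.symm_apply_apply] at h2
      exact eq_single hK h2
    obtain ⟨a, ha⟩ := hgl g
    obtain ⟨b, hb⟩ := hgl h
    have hE : algebraMap (S i) K (E i g h) = if a = b then 1 else 0 := by
      rw [map_sum]
      have hcoef : ∀ g n, algebraMap (S i) K ((c i g).coeff n) =
          (MonoidAlgebra.mapRingHom (M i) (algebraMap (S i) K) (c i g)).coeff n := fun g n => by
        simp
      simp only [map_mul, hcoef, ha, hb, MonoidAlgebra.coeff_single, Finsupp.single_apply]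
      by_cases hmem : a ∈ (c i g).coeff.support
      · rw [Finset.sum_eq_single a (fun n _ hn => by rw [if_neg (Ne.symm hn), zero_mul])
          (fun hn => absurd hmem hn), if_pos rfl, one_mul]
        simp only [eq_comm]
      · have h0 := hcoef g a
        rw [Finsupp.notMem_support_iff.1 hmem, map_zero, ha, MonoidAlgebra.coeff_single,
          Finsupp.single_eq_same] at h0
        exact absurd h0 zero_ne_one
    rw [hnat g, hnat h, ha, hb, ← Ideal.algebraMap_residueField_eq_zero, hE]
    constructor
    · intro heq
      have := MonoidAlgebra.single_left_injective (R := K) one_ne_zero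
        ((splitEquiv (e i) K).injective heq)
      simp [this]
    · intro hne
      split_ifs at hne with hab
      · rw [hab]
      · exact absurd rfl hne
  have hdich : ∀ g h : GroupLike R B, g ≠ h → ∀ i, E i g h = 0 := by
    intro g h hgh
    let P := ∀ i, S i
    let U : Set (PrimeSpectrum R) := {p |
      mapT R B (Algebra.ofId R p.asIdeal.ResidueField) ((1 : R) ⊗ₜ g.val) =
        mapT R B (Algebra.ofId R p.asIdeal.ResidueField) ((1 : R) ⊗ₜ h.val)}
    let π := PrimeSpectrum.comap (algebraMap R P)
    have hkey : ∀ i (w : PrimeSpectrum (S i)),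
        PrimeSpectrum.comap (algebraMap R (S i)) w ∈ U ↔ E i g h ∉ w.asIdeal := by
      intro i w
      rw [← hfib i g h w]
      let p := (PrimeSpectrum.comap (algebraMap R (S i)) w).asIdeal
      let ρ : p.ResidueField →ₐ[R] w.asIdeal.ResidueField :=
        { Ideal.ResidueField.map p w.asIdeal (algebraMap R (S i)) rfl with
          commutes' := fun r => by
            change Ideal.ResidueField.map p w.asIdeal (algebraMap R (S i)) rfl
              (algebraMap R p.ResidueField r) = _
            rw [Ideal.ResidueField.map_algebraMap,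
              ← IsScalarTower.algebraMap_apply R (S i) w.asIdeal.ResidueField] }
      have hρ : ∀ x : B, mapT R B ρ (mapT R B (Algebra.ofId R p.ResidueField) ((1 : R) ⊗ₜ x)) =
          mapT R B (IsScalarTower.toAlgHom R (S i) w.asIdeal.ResidueField) ((1 : S i) ⊗ₜ x) := by
        intro x
        simp [mapT]
      refine ⟨fun heq => ?_, fun heq => ?_⟩
      · rw [← hρ, ← hρ]
        exact congrArg _ heq
      · refine mapT_injective (f := ρ) (RingHom.injective _) ?_
        rw [hρ, hρ]
        exact heq
    have hpiece : ∀ w : PrimeSpectrum P, ∃ i, (Pi.single i 1 : P) ∉ w.asIdeal := by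
      intro w
      by_contra hcon
      push Not at hcon
      refine w.isPrime.ne_top (Ideal.eq_top_iff_one _ |>.2 ?_)
      rw [← Finset.univ_sum_single (1 : P)]
      exact sum_mem fun i _ => hcon i
    have hpre : ∀ (w : PrimeSpectrum P) i, (Pi.single i 1 : P) ∉ w.asIdeal →
        (π w ∈ U ↔ (Pi.single i (E i g h) : P) ∉ w.asIdeal) := by
      intro w i hi
      have hker : RingHom.ker (Pi.evalRingHom S i) ≤ w.asIdeal := fun x hx => by
        refine (w.isPrime.mem_or_mem ?_).resolve_left hi
        have : (Pi.single i 1 : P) * x = 0 := by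
          funext j
          rcases eq_or_ne j i with rfl | hj
          · simpa using hx
          · simp [Pi.single_eq_of_ne hj]
        rw [this]
        exact zero_mem _
      obtain ⟨w', hw'⟩ : w ∈ Set.range (PrimeSpectrum.comap (Pi.evalRingHom S i)) := by
        rw [range_comap_of_surjective _ _ (Function.surjective_eval i)]
        exact hker
      rw [← hw']
      refine (hkey i w').trans ?_
      change _ ↔ Pi.evalRingHom S i (Pi.single i (E i g h)) ∉ w'.asIdeal
      rw [Pi.evalRingHom_apply, Pi.single_eq_same]
    have hclopen : IsClopen U := by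
      have hgen : GeneralizingMap π :=
        Algebra.HasGoingDown.iff_generalizingMap_primeSpectrumComap.mp inferInstance
      have hq := PrimeSpectrum.isQuotientMap_of_generalizingMap
        PrimeSpectrum.comap_surjective_of_faithfullyFlat hgen
      have h1 : π ⁻¹' U = ⋃ i, (PrimeSpectrum.basicOpen (Pi.single i (E i g h) : P) :
          Set (PrimeSpectrum P)) := by
        ext w
        simp only [Set.mem_preimage, Set.mem_iUnion, SetLike.mem_coe, PrimeSpectrum.mem_basicOpen]
        refine ⟨fun hw => ?_, fun ⟨i, hi⟩ => ?_⟩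
        · obtain ⟨i, hi⟩ := hpiece w
          exact ⟨i, (hpre w i hi).1 hw⟩
        · refine (hpre w i fun h1 => hi ?_).2 hi
          have := w.asIdeal.mul_mem_left (Pi.single i (E i g h)) h1
          rwa [← Pi.single_mul, _root_.mul_one] at this
      have h2 : (π ⁻¹' U)ᶜ = ⋃ i, (PrimeSpectrum.basicOpen (Pi.single i (1 - E i g h) : P) :
          Set (PrimeSpectrum P)) := by
        ext w
        simp only [Set.mem_compl_iff, Set.mem_preimage, Set.mem_iUnion, SetLike.mem_coe,
          PrimeSpectrum.mem_basicOpen]
        refine ⟨fun hw => ?_, fun ⟨i, hi⟩ hw => ?_⟩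
        · obtain ⟨i, hi⟩ := hpiece w
          have hin : (Pi.single i (E i g h) : P) ∈ w.asIdeal :=
            not_not.1 fun hn => hw ((hpre w i hi).2 hn)
          refine ⟨i, fun hn => hi ?_⟩
          have := add_mem hn hin
          rwa [← Pi.single_add, sub_add_cancel] at this
        · have hi1 : (Pi.single i 1 : P) ∉ w.asIdeal := fun h1 => hi (by
            have := w.asIdeal.mul_mem_left (Pi.single i (1 - E i g h)) h1
            rwa [← Pi.single_mul, _root_.mul_one] at this)
          refine (hpre w i hi1).1 hw ((w.isPrime.mem_or_mem ?_).resolve_left hi)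
          rw [← Pi.single_mul, sub_mul, one_mul, (hEidem i g h).eq, sub_self, Pi.single_zero]
          exact zero_mem _
      refine ⟨?_, ?_⟩
      · rw [← hq.isClosed_preimage, ← isOpen_compl_iff, h2]
        exact isOpen_iUnion fun i => (PrimeSpectrum.basicOpen _).isOpen
      · rw [← hq.isOpen_preimage, h1]
        exact isOpen_iUnion fun i => (PrimeSpectrum.basicOpen _).isOpen
    obtain ⟨r, hr, hUr⟩ := PrimeSpectrum.exists_idempotent_basicOpen_eq_of_isClopen hclopen
    intro i
    rcases hconn r hr with rfl | rfl
    · have hnil : IsNilpotent (E i g h) := mem_nilradical.1 (by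
        rw [nilradical_eq_sInf]
        refine Ideal.mem_sInf.2 fun {w} hw => ?_
        by_contra hn
        have h3 : PrimeSpectrum.comap (algebraMap R (S i)) ⟨w, hw⟩ ∈ U := (hkey i ⟨w, hw⟩).2 hn
        rw [hUr] at h3
        simp at h3)
      obtain ⟨n, hn⟩ := hnil
      rcases n with _ | n
      · rw [pow_zero] at hn
        exact (subsingleton_of_zero_eq_one hn.symm).elim _ _
      · rwa [(hEidem i g h).pow_succ_eq] at hn
    · exfalso
      refine hgh (GroupLike.ext ?_)
      refine Module.FaithfullyFlat.tensorProduct_mk_injective (A := R) (B := P) _ ?_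
      refine pi_ext fun j => ?_
      change mapT R B (Pi.evalAlgHom R S j) ((1 : P) ⊗ₜ g.val) =
        mapT R B (Pi.evalAlgHom R S j) ((1 : P) ⊗ₜ h.val)
      simp only [mapT, Algebra.TensorProduct.map_tmul, map_one, AlgHom.id_apply]
      refine (e j).injective ?_
      change c j g = c j h
      have hu : E j g h = 1 := (IsIdempotentElem.iff_eq_one_of_isUnit (by
        by_contra hnu
        obtain ⟨w, hw, hmem⟩ := exists_max_ideal_of_mem_nonunits hnu
        have h3 : PrimeSpectrum.comap (algebraMap R (S j)) ⟨w, hw.isPrime⟩ ∈ U := by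
          rw [hUr]; simp
        exact (hkey j ⟨w, hw.isPrime⟩).1 h3 hmem)).1 (hEidem j g h)
      refine MonoidAlgebra.ext (Finsupp.ext fun n => ?_)
      have key : ∀ n, (c j g).coeff n * E j g h = (c j g).coeff n * (c j h).coeff n := by
        intro n
        rw [Finset.mul_sum, Finset.sum_eq_single n]
        · rw [← mul_assoc, (isIdempotentElem_coeff (hc j g) n).eq]
        · intro m _ hmn
          rw [← mul_assoc, coeff_mul_coeff (hc j g), if_neg (Ne.symm hmn), zero_mul]
        · intro hn
          simp [Finsupp.notMem_support_iff.1 hn]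
      have key2 : (c j h).coeff n * E j g h = (c j g).coeff n * (c j h).coeff n := by
        rw [Finset.mul_sum, Finset.sum_eq_single n]
        · rw [mul_left_comm, (isIdempotentElem_coeff (hc j h) n).eq]
        · intro m _ hmn
          rw [mul_left_comm, coeff_mul_coeff (hc j h), if_neg (Ne.symm hmn), mul_zero]
        · intro hn
          rw [Finsupp.notMem_support_iff.1 hn, zero_mul, mul_zero]
      have h5 := (key n).trans key2.symm
      rwa [hu, _root_.mul_one, _root_.mul_one] at h5
  rw [linearIndependent_iff]
  intro l hl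
  ext g₀
  haveI := hff
  refine FaithfulSMul.algebraMap_injective R (∀ i, S i) ?_
  rw [Finsupp.coe_zero, Pi.zero_apply, map_zero]
  funext i
  change algebraMap R (S i) (l g₀) = 0
  have hzero : ∀ n, ∑ g ∈ l.support, algebraMap R (S i) (l g) * (c i g).coeff n = 0 := by
    intro n
    have h1 := congrArg (fun b => (e i ((1 : S i) ⊗ₜ b)).coeff n) hl
    simp only [Finsupp.linearCombination_apply, Finsupp.sum, TensorProduct.tmul_sum,
      TensorProduct.tmul_zero, map_zero, map_sum, MonoidAlgebra.coeff_sum,
      Finsupp.finset_sum_apply, MonoidAlgebra.coeff_zero, Finsupp.coe_zero, Pi.zero_apply] at h1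
    rw [← h1]
    refine Finset.sum_congr rfl fun g _ => ?_
    rw [TensorProduct.tmul_smul, ← algebraMap_smul (S i) (l g), map_smul]
    rfl
  by_cases hg : g₀ ∈ l.support
  swap
  · rw [Finsupp.notMem_support_iff.1 hg, map_zero]
  have hterm : ∀ n, algebraMap R (S i) (l g₀) * (c i g₀).coeff n = 0 := by
    intro n
    have h1 := congrArg (fun x => (c i g₀).coeff n * x) (hzero n)
    simp only [mul_zero, Finset.mul_sum] at h1
    rw [Finset.sum_eq_single g₀ (fun g _ hne => by
      have h0 := hEmul i g₀ g n
      rw [hdich g₀ g (Ne.symm hne) i, zero_mul] at h0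
      rw [mul_left_comm, ← h0, mul_zero])  (fun hn => absurd hg hn)] at h1
    rwa [mul_left_comm, (isIdempotentElem_coeff (hc i g₀) n).eq] at h1
  have hsum := sum_coeff (hc i g₀)
  calc algebraMap R (S i) (l g₀)
      = algebraMap R (S i) (l g₀) * (c i g₀).coeff.sum (fun _ r => r) := by
        rw [hsum, _root_.mul_one]
    _ = 0 := by
        rw [Finsupp.sum, Finset.mul_sum]
        exact Finset.sum_eq_zero fun n _ => hterm n

/-- A closed subgroup of multiplicative type of a diagonalisable group over a connected base is
diagonalisable. -/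
theorem isDiag_quotient_of_connected {A : Type u} [CommRing A] [HopfAlgebra R A]
    (hconn : ∀ e : R, IsIdempotentElem e → e = 0 ∨ e = 1) (hG : SGA3b.IsDiag R A) (J : Ideal A)
    [J.IsHopfIdeal R] (hH : SGA3b.IsMultType R (A ⧸ J)) : SGA3b.IsDiag R (A ⧸ J) := by
  obtain ⟨M, _, ⟨e⟩⟩ := hG
  exact isDiag_of_surjective ((Bialgebra.Quotient.mkBialgHom (R := R) J).comp
    (e.symm : MonoidAlgebra R M →ₐc[R] A))
    (fun b => by
      obtain ⟨a, rfl⟩ := Ideal.Quotient.mk_surjective b
      exact ⟨e a, congrArg (Ideal.Quotient.mk J) (e.symm_apply_apply a)⟩)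
    (linearIndep_groupLike_of_connected hH hconn)

end Connected

end Groth.L25.MultType
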