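import Groth.Prelude.Def_SGA3b
import Mathlib.RingTheory.Bialgebra.TensorProduct
import Mathlib.RingTheory.Flat.Localization
import Mathlib.RingTheory.Flat.FaithfullyFlat.Algebra
import Mathlib.RingTheory.Localization.BaseChange

/-!
# Groups of multiplicative type: checking properties after a splitting base change
-/

set_option autoImplicit false

universe u v

open TensorProduct

namespace Groth.L25.MultType

/-- Iterated base change of a bialgebra. -/
noncomputable def cancelBialg (R S T A : Type*) [CommRing R] [CommRing S] [CommRing T] [CommRing A]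
    [Algebra R S] [Algebra R T] [Algebra S T] [IsScalarTower R S T] [Bialgebra R A] :
    T ⊗[S] (S ⊗[R] A) ≃ₐc[T] T ⊗[R] A :=
  BialgEquiv.ofAlgEquiv (Algebra.TensorProduct.cancelBaseChange R S T T A)
    (by
      refine Algebra.TensorProduct.ext_ring (Algebra.TensorProduct.ext_ring ?_)
      ext a
      simp [Algebra.smul_def, IsScalarTower.algebraMap_apply R S T])
    (by
      refine Algebra.TensorProduct.ext_ring (Algebra.TensorProduct.ext_ring ?_)
      ext a
      simp only [AlgHom.coe_comp, AlgHom.coe_restrictScalars', Function.comp_apply,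
        Algebra.TensorProduct.includeRight_apply, Bialgebra.comulAlgHom_apply,
        AlgHom.coe_coe, Algebra.TensorProduct.cancelBaseChange_tmul, one_smul,
        TensorProduct.comul_tmul, CommSemiring.comul_apply]
      let r := Coalgebra.Repr.arbitrary R a
      rw [← r.eq]
      simp [TensorProduct.tmul_sum, map_sum]
      erw [← r.eq]
      simp [TensorProduct.tmul_sum, map_sum])

theorem cancelBialg_tmul (R S T A : Type*) [CommRing R] [CommRing S] [CommRing T] [CommRing A]
    [Algebra R S] [Algebra R T] [Algebra S T] [IsScalarTower R S T] [Bialgebra R A] (t : T)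
    (s : S) (a : A) : cancelBialg R S T A (t ⊗ₜ (s ⊗ₜ a)) = (s • t) ⊗ₜ a :=
  Algebra.TensorProduct.cancelBaseChange_tmul ..

variable {R : Type u} [CommRing R] {A : Type u} [CommRing A] [HopfAlgebra R A]

theorem isDiag_of_bialgEquiv {B : Type u} [CommRing B] [HopfAlgebra R B] (e : A ≃ₐc[R] B)
    (h : SGA3b.IsDiag R A) : SGA3b.IsDiag R B := by
  obtain ⟨M, _, ⟨f⟩⟩ := h
  exact ⟨M, inferInstance, ⟨e.symm.trans f⟩⟩

/-- The splitting algebras over the members of the cover. -/
theorem exists_split (hA : SGA3b.IsMultType R A) :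
    ∃ s : Set R, Ideal.span s = ⊤ ∧ ∀ f ∈ s, ∃ (R' : Type u) (_ : CommRing R')
      (_ : Algebra R R') (_ : Algebra (Localization.Away f) R'),
      IsScalarTower R (Localization.Away f) R' ∧ Module.FaithfullyFlat (Localization.Away f) R' ∧
        SGA3b.IsDiag R' (R' ⊗[R] A) := by
  obtain ⟨s, hs, h⟩ := hA
  refine ⟨s, hs, fun f hf => ?_⟩
  obtain ⟨R', _, _, hff, hd⟩ := h f hf
  letI : Algebra R R' := ((algebraMap (Localization.Away f) R').comp
    (algebraMap R (Localization.Away f))).toAlgebra
  haveI : IsScalarTower R (Localization.Away f) R' := IsScalarTower.of_algebraMap_eq fun _ => rfl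
  exact ⟨R', inferInstance, inferInstance, inferInstance, inferInstance, hff,
    isDiag_of_bialgEquiv (cancelBialg R (Localization.Away f) R' A) hd⟩

/-- An element vanishing in every diagonalising base change vanishes. -/
theorem eq_zero_of_split (hA : SGA3b.IsMultType R A) {N : Type v} [AddCommGroup N] [Module R N]
    (x : N) (h : ∀ (R' : Type u) [CommRing R'] [Algebra R R'], SGA3b.IsDiag R' (R' ⊗[R] A) →
      (1 : R') ⊗ₜ[R] x = 0) : x = 0 := by
  obtain ⟨s, hs, hsplit⟩ := exists_split hA
  let ann : Ideal R := (Submodule.span R {x}).annihilator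
  suffices ann = ⊤ by
    have h1 : (1 : R) ∈ ann := by rw [this]; trivial
    rw [Submodule.mem_annihilator_span_singleton, one_smul] at h1
    exact h1
  rw [← Ideal.radical_eq_top, ← top_le_iff, ← hs, Ideal.span_le]
  intro f hf
  obtain ⟨R', _, _, _, _, hff, hd⟩ := hsplit f hf
  have h0 := h R' hd
  have h1 : (1 : Localization.Away f) ⊗ₜ[R] x = 0 := by
    refine Module.FaithfullyFlat.tensorProduct_mk_injective (A := Localization.Away f) (B := R') _ ?_
    rw [map_zero]
    refine (AlgebraTensorModule.cancelBaseChange R (Localization.Away f) R' R' N).injective ?_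
    rw [map_zero]
    simpa using h0
  have h2 := congrArg (LocalizedModule.equivTensorProduct (Submonoid.powers f) N).symm h1
  rw [LocalizedModule.equivTensorProduct_symm_apply_tmul_one, map_zero,
    ← LocalizedModule.zero_mk (1 : Submonoid.powers f), LocalizedModule.mk_eq] at h2
  obtain ⟨⟨c, n, rfl⟩, hc⟩ := h2
  refine ⟨n, ?_⟩
  rw [Submodule.mem_annihilator_span_singleton]
  simpa [Submonoid.smul_def] using hc

/-- A linear map surjective after every diagonalising base change is surjective. -/
theorem surjective_of_split (hA : SGA3b.IsMultType R A) {N P : Type v} [AddCommGroup N] [Module R N]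
    [AddCommGroup P] [Module R P] (L : N →ₗ[R] P)
    (h : ∀ (R' : Type u) [CommRing R'] [Algebra R R'], SGA3b.IsDiag R' (R' ⊗[R] A) →
      Function.Surjective (L.lTensor R')) : Function.Surjective L := by
  intro p
  have : (LinearMap.range L).mkQ p = 0 := by
    refine eq_zero_of_split hA _ fun R' _ _ hd => ?_
    obtain ⟨z, hz⟩ := h R' hd ((1 : R') ⊗ₜ[R] p)
    have h2 : ((LinearMap.range L).mkQ).lTensor R' (L.lTensor R' z) = 0 := by
      rw [← LinearMap.lTensor_comp_apply, LinearMap.range_mkQ_comp, LinearMap.lTensor_zero,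
        LinearMap.zero_apply]
    rwa [hz, LinearMap.lTensor_tmul] at h2
  exact (Submodule.Quotient.mk_eq_zero _).1 this

/-- A Hopf algebra of multiplicative type is flat. -/
theorem flat (hA : SGA3b.IsMultType R A) : Module.Flat R A := by
  obtain ⟨s, hs, hsplit⟩ := exists_split hA
  refine Module.flat_of_localized_span (S := R) (M := A) s hs fun r => ?_
  obtain ⟨R', _, _, _, _, hff, hd⟩ := hsplit r.1 r.2
  obtain ⟨M, _, ⟨e⟩⟩ := hd
  haveI : Module.Free R' (R' ⊗[R] A) :=
    Module.Free.of_equiv (e.toLinearEquiv.trans (MonoidAlgebra.coeffLinearEquiv R')).symm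
  haveI : Module.Flat R' (R' ⊗[Localization.Away r.1] (Localization.Away r.1 ⊗[R] A)) :=
    Module.Flat.of_linearEquiv
      (AlgebraTensorModule.cancelBaseChange R (Localization.Away r.1) R' R' A)
  haveI : Module.Flat (Localization.Away r.1) (Localization.Away r.1 ⊗[R] A) :=
    Module.Flat.of_flat_tensorProduct (Localization.Away r.1) (Localization.Away r.1 ⊗[R] A) R'
  haveI : Module.Flat R (Localization.Away r.1 ⊗[R] A) :=
    Module.Flat.trans R (Localization.Away r.1) _
  exact Module.Flat.of_linearEquiv
    ((LocalizedModule.equivTensorProduct (Submonoid.powers r.1) A).restrictScalars R)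

end Groth.L25.MultType
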