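import Groth.Agent.L25.MultType.Image
import Groth.Prelude.Def_SGA3b
import Mathlib.RingTheory.Bialgebra.Convolution
import Mathlib.RingTheory.FiniteType
import Mathlib.RingTheory.Finiteness.Descent
import Mathlib.GroupTheory.Torsion
import Mathlib.GroupTheory.FiniteAbelian.Basic

/-!
# Power maps and their kernels for groups of multiplicative type
-/

set_option autoImplicit false

universe u

open TensorProduct WithConv

namespace Groth.L25.MultType

open Groth.L25.Char

section Pow

variable {R : Type u} [CommRing R] {A : Type u} [CommRing A] [HopfAlgebra R A]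

theorem powConv_zero : SGA3b.powConv R A 0 =
    (Algebra.ofId R A).comp (Bialgebra.counitAlgHom R A) := by
  rw [SGA3b.powConv, pow_zero]
  rfl

theorem powConv_succ_apply (n : ℕ) (a : A) : SGA3b.powConv R A (n + 1) a =
    LinearMap.mul' R A (TensorProduct.map (SGA3b.powConv R A n).toLinearMap LinearMap.id
      (Coalgebra.comul (R := R) a)) := by
  rw [SGA3b.powConv, pow_succ]
  rw [show ∀ (f g : WithConv (A →ₐ[R] A)), (f * g).ofConv a = (f * g) a from fun _ _ => rfl,
    AlgHom.convMul_apply]
  induction Coalgebra.comul (R := R) a using TensorProduct.induction_on with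
  | zero => simp
  | tmul p q => simp; rfl
  | add p q hp hq => simp only [map_add, hp, hq]

/-- The power maps act on group-like elements as powers. -/
theorem powConv_groupLike {x : A} (hx : IsGroupLikeElem R x) (n : ℕ) :
    SGA3b.powConv R A n x = x ^ n := by
  induction n with
  | zero =>
    rw [powConv_zero, AlgHom.comp_apply, pow_zero]
    change algebraMap R A (Coalgebra.counit x) = 1
    rw [hx.counit_eq_one, map_one]
  | succ n ih =>
    rw [powConv_succ_apply, hx.comul_eq_tmul_self, TensorProduct.map_tmul, LinearMap.mul'_apply,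
      pow_succ]
    change SGA3b.powConv R A n x * x = _
    rw [ih]

/-- The power maps commute with base change. -/
theorem powConv_baseChange (S : Type u) [CommRing S] [Algebra R S] (n : ℕ) (a : A) :
    SGA3b.powConv S (S ⊗[R] A) n ((1 : S) ⊗ₜ a) = (1 : S) ⊗ₜ SGA3b.powConv R A n a := by
  induction n generalizing a with
  | zero =>
    rw [powConv_zero, powConv_zero, AlgHom.comp_apply, AlgHom.comp_apply]
    change algebraMap S _ (Coalgebra.counit (R := S) ((1 : S) ⊗ₜ[R] a)) =
      (1 : S) ⊗ₜ algebraMap R A (Coalgebra.counit a)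
    rw [TensorProduct.counit_tmul, Algebra.algebraMap_eq_smul_one, Algebra.algebraMap_eq_smul_one,
      TensorProduct.tmul_smul, Algebra.TensorProduct.one_def, CommSemiring.counit_apply,
      smul_assoc, one_smul]
  | succ n ih =>
    rw [powConv_succ_apply, powConv_succ_apply, TensorProduct.comul_tmul,
      CommSemiring.comul_apply]
    induction Coalgebra.comul (R := R) a using TensorProduct.induction_on with
    | zero => simp
    | tmul p q =>
      simp only [AlgebraTensorModule.tensorTensorTensorComm_tmul, TensorProduct.map_tmul,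
        LinearMap.mul'_apply, LinearMap.id_apply, AlgHom.toLinearMap_apply, ih,
        Algebra.TensorProduct.tmul_mul_tmul, _root_.mul_one]
    | add p q hp hq => simp only [TensorProduct.tmul_add, map_add, hp, hq]

theorem torsionIdeal_le_iff {n : ℕ} {J : Ideal A} :
    SGA3b.torsionIdeal R A n ≤ J ↔
      ∀ a, SGA3b.powConv R A n a - algebraMap R A (Coalgebra.counit (R := R) a) ∈ J := by
  rw [SGA3b.torsionIdeal, Ideal.map_le_iff_le_comap]
  refine ⟨fun h a => ?_, fun h a ha => ?_⟩
  · have h1 := h (x := a - algebraMap R A (Coalgebra.counit (R := R) a)) (by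
      rw [RingHom.mem_ker, map_sub, AlgHom.commutes]
      exact sub_eq_zero.2 (Algebra.algebraMap_self_apply _).symm)
    rwa [Ideal.mem_comap, map_sub, AlgHom.commutes] at h1
  · rw [RingHom.mem_ker] at ha
    have h1 := h a
    change SGA3b.powConv R A n a - algebraMap R A (Bialgebra.counitAlgHom R A a) ∈ J at h1
    rwa [ha, map_zero, sub_zero] at h1

theorem torsionIdeal_eq_bot_iff {n : ℕ} : SGA3b.torsionIdeal R A n = ⊥ ↔
    ∀ a, SGA3b.powConv R A n a = algebraMap R A (Coalgebra.counit (R := R) a) := by
  rw [← le_bot_iff, torsionIdeal_le_iff]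
  simp only [Ideal.mem_bot, sub_eq_zero]

/-- Power maps commute with homomorphisms. -/
theorem map_powConv {B : Type u} [CommRing B] [HopfAlgebra R B] (f : A →ₐc[R] B) (n : ℕ) (a : A) :
    f (SGA3b.powConv R A n a) = SGA3b.powConv R B n (f a) := by
  induction n generalizing a with
  | zero =>
    rw [powConv_zero, powConv_zero]
    change f (algebraMap R A (Coalgebra.counit a)) = algebraMap R B (Coalgebra.counit (f a))
    rw [AlgHomClass.commutes, CoalgHomClass.counit_comp_apply]
  | succ n ih =>
    rw [powConv_succ_apply, powConv_succ_apply, ← CoalgHomClass.map_comp_comul_apply f a]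
    induction Coalgebra.comul (R := R) a using TensorProduct.induction_on with
    | zero => simp
    | add p q hp hq => simp only [map_add, hp, hq]
    | tmul p q =>
      simp only [TensorProduct.map_tmul, LinearMap.mul'_apply, LinearMap.id_apply, map_mul]
      change f (SGA3b.powConv R A n p) * f q = SGA3b.powConv R B n (f p) * f q
      rw [ih]

/-- A quotient by a Hopf ideal containing the torsion ideal is killed by `n`. -/
theorem torsionIdeal_quotient {n : ℕ} {J : Ideal A} [J.IsHopfIdeal R]
    (h : SGA3b.torsionIdeal R A n ≤ J) : SGA3b.torsionIdeal R (A ⧸ J) n = ⊥ := by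
  rw [torsionIdeal_eq_bot_iff]
  intro b
  obtain ⟨a, rfl⟩ := Ideal.Quotient.mk_surjective b
  change SGA3b.powConv R (A ⧸ J) n (Bialgebra.Quotient.mkBialgHom (R := R) J a) =
    algebraMap R _ (Coalgebra.counit (Bialgebra.Quotient.mkBialgHom (R := R) J a))
  rw [← map_powConv, CoalgHomClass.counit_comp_apply,
    ← AlgHomClass.commutes (Bialgebra.Quotient.mkBialgHom (R := R) J), ← sub_eq_zero, ← map_sub]
  exact Ideal.Quotient.eq_zero_iff_mem.2 (torsionIdeal_le_iff.1 h a)

end Pow

section MT

variable {R : Type u} [CommRing R] {A : Type u} [CommRing A] [HopfAlgebra R A]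

/-- In a splitting, the power maps are given by powers of characters. -/
theorem powConv_split {S : Type u} [CommRing S] [Algebra R S] {M : Type u} [CommGroup M]
    (e : S ⊗[R] A ≃ₐc[S] MonoidAlgebra S M) (n : ℕ) (m : M) :
    e (SGA3b.powConv S (S ⊗[R] A) n (e.symm (MonoidAlgebra.single m 1))) =
      MonoidAlgebra.single (m ^ n) 1 := by
  rw [powConv_groupLike ((MonoidAlgebra.isGroupLikeElem_single_one m).map e.symm), ← map_pow,
    BialgEquiv.apply_symm_apply, MonoidAlgebra.single_pow, one_pow]

/-- A group of multiplicative type is commutative. -/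
theorem isCocomm (hA : SGA3b.IsMultType R A) : Coalgebra.IsCocomm R A := by
  refine ⟨LinearMap.ext fun a => ?_⟩
  rw [LinearMap.comp_apply, LinearEquiv.coe_coe, ← sub_eq_zero]
  refine eq_zero_of_split hA _ fun S _ _ hd => ?_
  obtain ⟨M, _, ⟨e⟩⟩ := hd
  have hS : ∀ z : S ⊗[R] A, TensorProduct.comm S (S ⊗[R] A) (S ⊗[R] A) (Coalgebra.comul z) =
      Coalgebra.comul z := by
    intro z
    obtain ⟨x, rfl⟩ : ∃ x, e.symm x = z := ⟨e z, e.symm_apply_apply z⟩
    rw [← CoalgHomClass.map_comp_comul_apply e.symm x]
    conv_rhs => rw [← Coalgebra.comm_comul S x]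
    rw [TensorProduct.map_comm]
  have h2 := congrArg (toFlat R A S) (hS ((1 : S) ⊗ₜ a))
  have h3 : ∀ z, toFlat R A S (TensorProduct.comm S (S ⊗[R] A) (S ⊗[R] A) z) =
      (TensorProduct.comm R A A).toLinearMap.lTensor S (toFlat R A S z) := by
    intro z
    induction z using TensorProduct.induction_on with
    | zero => simp
    | add p q hp hq => simp only [map_add, hp, hq]
    | tmul x y =>
      induction x using TensorProduct.induction_on with
      | zero => simp
      | add p q hp hq => simp only [TensorProduct.add_tmul, TensorProduct.tmul_add, map_add, hp, hq]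
      | tmul s p =>
        induction y using TensorProduct.induction_on with
        | zero => simp
        | add p q hp hq =>
          simp only [TensorProduct.add_tmul, TensorProduct.tmul_add, map_add, hp, hq]
        | tmul t q =>
          simp [toFlat_tmul, inl, inr, Algebra.TensorProduct.tmul_mul_tmul, mul_comm]
  rw [h3, toFlat_comul] at h2
  rw [TensorProduct.tmul_sub, sub_eq_zero]
  simpa [comulT] using h2

/-- A group of multiplicative type and of finite type killed by `n > 0` is finite. -/
theorem finite_of_killed (hA : SGA3b.IsMultType R A) [Algebra.FiniteType R A] {n : ℕ} (hn : 0 < n)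
    (hk : SGA3b.torsionIdeal R A n = ⊥) : Module.Finite R A := by
  classical
  obtain ⟨ι, _, S, _, _, hff, hd⟩ := exists_split_family hA
  haveI := hff
  haveI : ∀ i, Module.Finite (S i) (S i ⊗[R] A) := by
    intro i
    obtain ⟨M, _, ⟨e⟩⟩ := hd i
    rcases subsingleton_or_nontrivial (S i) with h | h
    · haveI := Module.subsingleton (S i) (S i ⊗[R] A)
      infer_instance
    haveI : Algebra.FiniteType (S i) (MonoidAlgebra (S i) M) :=
      Algebra.FiniteType.equiv (inferInstance : Algebra.FiniteType (S i) (S i ⊗[R] A))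
        (e : S i ⊗[R] A ≃ₐ[S i] MonoidAlgebra (S i) M)
    haveI : Group.FG M := MonoidAlgebra.finiteType_iff_group_fg.1 this
    have htor : Monoid.IsTorsion M := fun m => isOfFinOrder_iff_pow_eq_one.2 ⟨n, hn, by
      have h1 := powConv_split e n m
      have h2 : ∀ z : S i ⊗[R] A, SGA3b.powConv (S i) (S i ⊗[R] A) n z =
          algebraMap (S i) _ (Coalgebra.counit z) := by
        intro z
        induction z using TensorProduct.induction_on with
        | zero => simp
        | add p q hp hq => simp only [map_add, hp, hq]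
        | tmul s a =>
          rw [show s ⊗ₜ[R] a = s • ((1 : S i) ⊗ₜ[R] a) by
              rw [TensorProduct.smul_tmul', smul_eq_mul, _root_.mul_one],
            map_smul, map_smul, powConv_baseChange, torsionIdeal_eq_bot_iff.1 hk,
            TensorProduct.counit_tmul, CommSemiring.counit_apply, Algebra.algebraMap_eq_smul_one,
            TensorProduct.tmul_smul, Algebra.smul_def, Algebra.smul_def]
          simp [Algebra.smul_def]
      rw [h2, CoalgHomClass.counit_comp_apply, MonoidAlgebra.counit_single,
        CommSemiring.counit_apply, map_one, map_one] at h1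
      exact (MonoidAlgebra.single_left_injective (R := S i) one_ne_zero
        (MonoidAlgebra.one_def.symm.trans h1)).symm⟩
    haveI : Finite M := CommGroup.finite_of_fg_torsion M htor
    haveI : Module.Finite (S i) (MonoidAlgebra (S i) M) :=
      Module.Finite.equiv (MonoidAlgebra.coeffLinearEquiv (S i)).symm
    exact Module.Finite.equiv (e : S i ⊗[R] A ≃ₐ[S i] MonoidAlgebra (S i) M).toLinearEquiv.symm
  suffices Module.Finite (∀ i, S i) ((∀ i, S i) ⊗[R] A) from
    Module.Finite.of_finite_tensorProduct_of_faithfullyFlat (∀ i, S i)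
  choose F hF using fun i => (Module.Finite.fg_top (R := S i) (M := S i ⊗[R] A))
  choose pre hpre using fun (i : ι) (x : S i ⊗[R] A) =>
    LinearMap.rTensor_surjective A (g := (Pi.evalAlgHom R S i).toLinearMap)
      (Function.surjective_eval i) x
  let G : Finset ((∀ i, S i) ⊗[R] A) := Finset.univ.biUnion fun i =>
    (F i).image fun x => (Pi.single i 1 : ∀ i, S i) • pre i x
  refine ⟨⟨G, top_le_iff.1 fun y _ => ?_⟩⟩
  have hy : y = ∑ i, (Pi.single i 1 : ∀ i, S i) • y := by
    have h1 : (∑ i, (Pi.single i 1 : ∀ i, S i)) = 1 := Finset.univ_sum_single (1 : ∀ i, S i)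
    rw [← Finset.sum_smul, h1]
    exact (one_smul _ y).symm
  rw [hy]
  refine sum_mem fun i _ => ?_
  have hmem : mapT R A (Pi.evalAlgHom R S i) y ∈ Submodule.span (S i) (F i : Set (S i ⊗[R] A)) :=
    hF i ▸ Submodule.mem_top
  have key : ∀ z, z ∈ Submodule.span (S i) (F i : Set (S i ⊗[R] A)) → ∀ w,
      mapT R A (Pi.evalAlgHom R S i) w = z →
        (Pi.single i 1 : ∀ i, S i) • w ∈ Submodule.span (∀ i, S i) (G : Set ((∀ i, S i) ⊗[R] A)) := by
    have hdet : ∀ w w', mapT R A (Pi.evalAlgHom R S i) w = mapT R A (Pi.evalAlgHom R S i) w' →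
        (Pi.single i 1 : ∀ i, S i) • w = (Pi.single i 1 : ∀ i, S i) • w' := by
      intro w w' h
      refine pi_ext fun j => ?_
      change mapT R A (Pi.evalAlgHom R S j) _ = mapT R A (Pi.evalAlgHom R S j) _
      rw [mapT_smul, mapT_smul]
      rcases eq_or_ne j i with rfl | hj
      · rw [h]
      · simp [Pi.single_eq_of_ne hj]
    intro z hz
    induction hz using Submodule.span_induction with
    | mem x hx =>
      intro w hw
      rw [hdet w (pre i x) (by rw [hw, ← rTensor_eq_mapT, hpre])]
      exact Submodule.subset_span (Finset.mem_biUnion.2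
        ⟨i, Finset.mem_univ i, Finset.mem_image_of_mem _ hx⟩)
    | zero =>
      intro w hw
      rw [hdet w 0 (by rw [hw, map_zero]), smul_zero]
      exact zero_mem _
    | add a b _ _ ha hb =>
      intro w hw
      rw [hdet w (pre i a + pre i b) (by
        rw [hw, map_add, ← rTensor_eq_mapT, ← rTensor_eq_mapT, hpre, hpre]), smul_add]
      exact add_mem (ha _ (by rw [← rTensor_eq_mapT, hpre])) (hb _ (by rw [← rTensor_eq_mapT, hpre]))
    | smul r x _ hx =>
      intro w hw
      rw [hdet w ((Pi.single i r : ∀ i, S i) • pre i x) (by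
        rw [hw, mapT_smul, ← rTensor_eq_mapT, hpre]; simp), smul_comm]
      exact Submodule.smul_mem _ _ (hx _ (by rw [← rTensor_eq_mapT, hpre]))
  exact key _ hmem y rfl

/-- A finite group of multiplicative type is killed by some `n > 0`. -/
theorem exists_killed_of_finite (hA : SGA3b.IsMultType R A) [Module.Finite R A] :
    ∃ n, 0 < n ∧ SGA3b.torsionIdeal R A n = ⊥ := by
  classical
  obtain ⟨ι, _, S, _, _, hff, hd⟩ := exists_split_family hA
  haveI := hff
  choose M hM he using hd
  refine ⟨∏ i, max 1 (Nat.card (M i)), Finset.prod_pos fun i _ => lt_max_of_lt_left one_pos,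
    torsionIdeal_eq_bot_iff.2 fun a => ?_⟩
  set n := ∏ i, max 1 (Nat.card (M i)) with hn
  refine Module.FaithfullyFlat.tensorProduct_mk_injective (A := R) (B := ∀ i, S i) _ ?_
  refine pi_ext fun i => ?_
  change mapT R A (Pi.evalAlgHom R S i) ((1 : ∀ i, S i) ⊗ₜ _) =
    mapT R A (Pi.evalAlgHom R S i) ((1 : ∀ i, S i) ⊗ₜ _)
  simp only [mapT, Algebra.TensorProduct.map_tmul, map_one, AlgHom.id_apply]
  let e := (he i).some
  rcases subsingleton_or_nontrivial (S i) with h | h
  · exact (Module.subsingleton (S i) (S i ⊗[R] A)).elim _ _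
  haveI : Module.Finite (S i) (MonoidAlgebra (S i) (M i)) :=
    Module.Finite.equiv (e : S i ⊗[R] A ≃ₐ[S i] MonoidAlgebra (S i) (M i)).toLinearEquiv
  haveI : Module.Finite (S i) (M i →₀ S i) :=
    Module.Finite.equiv (MonoidAlgebra.coeffLinearEquiv (S i))
  haveI : Finite (M i) := Module.Finite.finite_basis (Module.Basis.ofRepr
    (LinearEquiv.refl (S i) (M i →₀ S i)))
  have hdvd : Nat.card (M i) ∣ n := by
    have h1 := Finset.dvd_prod_of_mem (fun i => max 1 (Nat.card (M i))) (Finset.mem_univ i)
    rwa [max_eq_right (Nat.one_le_iff_ne_zero.2 Nat.card_pos.ne')] at h1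
  have key : ∀ y : MonoidAlgebra (S i) (M i),
      e (SGA3b.powConv (S i) (S i ⊗[R] A) n (e.symm y)) =
        algebraMap (S i) _ (Coalgebra.counit y) := by
    intro y
    induction y using MonoidAlgebra.induction_linear with
    | zero => simp
    | add p q hp hq => simp only [map_add, hp, hq]
    | single m r =>
      rw [show MonoidAlgebra.single m r = r • MonoidAlgebra.single m (1 : S i) by simp]
      simp only [map_smul]
      rw [powConv_split]
      obtain ⟨k, hk⟩ := hdvd
      rw [hk, pow_mul, pow_card_eq_one', one_pow, MonoidAlgebra.counit_single,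
        CommSemiring.counit_apply, Algebra.algebraMap_eq_smul_one, smul_assoc, one_smul,
        MonoidAlgebra.one_def]
  have h2 := congrArg e.symm (key (e ((1 : S i) ⊗ₜ a)))
  rw [BialgEquiv.symm_apply_apply, BialgEquiv.symm_apply_apply, powConv_baseChange] at h2
  rw [h2, CoalgHomClass.counit_comp_apply, TensorProduct.counit_tmul, CommSemiring.counit_apply,
    AlgHomClass.commutes, Algebra.algebraMap_eq_smul_one, Algebra.algebraMap_eq_smul_one,
    TensorProduct.tmul_smul, smul_assoc, one_smul]
  rfl

/-- The kernels of the power maps of a group of multiplicative type. -/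
theorem isMultType_torsion (hA : SGA3b.IsMultType R A) [Algebra.FiniteType R A] {n : ℕ}
    (hn : 0 < n) (J : Ideal A) [J.IsHopfIdeal R] (hJ : J = SGA3b.torsionIdeal R A n) :
    SGA3b.IsMultType R (A ⧸ J) ∧ Module.Finite R (A ⧸ J) := by
  haveI := isCocomm hA
  let φ : A →ₐc[R] A := (toConv (BialgHom.id R A) ^ n).ofConv
  have hφ : (φ : A →ₐ[R] A) = SGA3b.powConv R A n :=
    congrArg WithConv.ofConv (BialgHom.toAlgHom_convPow (toConv (BialgHom.id R A)) n)
  have hmt := isMultType_kernel hA φ J (by
    rw [hJ, SGA3b.torsionIdeal, ← hφ]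
    rfl)
  haveI : Algebra.FiniteType R (A ⧸ J) :=
    Algebra.FiniteType.of_surjective (Ideal.Quotient.mkₐ R J) Ideal.Quotient.mk_surjective
  exact ⟨hmt, finite_of_killed hmt hn (torsionIdeal_quotient (by rw [hJ]))⟩

end MT

end Groth.L25.MultType
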