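import Groth.Agent.L25.Char.NilLift
import Groth.Agent.L25.MultType.Isotrivial
import Mathlib.RingTheory.Spectrum.Prime.Topology
import Mathlib.RingTheory.Ideal.GoingDown
import Mathlib.RingTheory.LocalRing.ResidueField.Ideal
import Mathlib.LinearAlgebra.FreeModule.Basic

/-!
# Gluing diagonalisable pieces into a group of multiplicative type
-/

set_option autoImplicit false

universe u

open TensorProduct

namespace Groth.L25.MultType

open Groth.L25.Char

/-- The type of a diagonalisable group over a field is well defined. -/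
theorem type_unique {K : Type u} [Field K] {M N : Type u} [CommGroup M] [CommGroup N]
    (e : MonoidAlgebra K M ≃ₐc[K] MonoidAlgebra K N) : Nonempty (M ≃* N) := by
  have key : ∀ {M N : Type u} [CommGroup M] [CommGroup N]
      (e : MonoidAlgebra K M ≃ₐc[K] MonoidAlgebra K N) (m : M),
      ∃ n, e (MonoidAlgebra.single m 1) = MonoidAlgebra.single n 1 := fun {M N} _ _ e m =>
    eq_single (fun r hr => IsIdempotentElem.iff_eq_zero_or_one.1 hr)
      ((MonoidAlgebra.isGroupLikeElem_single_one m).map e)
  choose f hf using key e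
  refine ⟨MulEquiv.ofBijective (MonoidHom.mk' f fun a b => ?_) ⟨fun a b h => ?_, fun n => ?_⟩⟩
  · refine MonoidAlgebra.single_left_injective (R := K) one_ne_zero ?_
    change MonoidAlgebra.single (f (a * b)) (1 : K) = MonoidAlgebra.single (f a * f b) (1 : K)
    rw [← hf, show MonoidAlgebra.single (a * b) (1 : K) =
      MonoidAlgebra.single a 1 * MonoidAlgebra.single b 1 by simp, map_mul, hf, hf]
    simp
  · refine MonoidAlgebra.single_left_injective (R := K) one_ne_zero (e.injective ?_)
    change e (MonoidAlgebra.single a 1) = e (MonoidAlgebra.single b 1)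
    rw [hf, hf]
    exact congrArg (MonoidAlgebra.single · (1 : K)) h
  · obtain ⟨m, hm⟩ := key e.symm n
    refine ⟨m, MonoidAlgebra.single_left_injective (R := K) one_ne_zero ?_⟩
    change MonoidAlgebra.single (f m) (1 : K) = MonoidAlgebra.single n 1
    rw [← hf, ← hm, BialgEquiv.apply_symm_apply]

/-- A diagonalisation may be relabelled by an isomorphism of groups. -/
noncomputable def domBialg (R : Type u) [CommRing R] {M N : Type u} [CommGroup M] [CommGroup N]
    (f : M ≃* N) : MonoidAlgebra R M ≃ₐc[R] MonoidAlgebra R N :=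
  BialgEquiv.ofBijective (MonoidAlgebra.mapDomainBialgHom R f.toMonoidHom)
    (by
      refine Function.bijective_iff_has_inverse.2
        ⟨MonoidAlgebra.mapDomainBialgHom R f.symm.toMonoidHom, fun x => ?_, fun x => ?_⟩ <;>
      · rw [MonoidAlgebra.mapDomainBialgHom_mapDomainBialgHom]
        induction x using MonoidAlgebra.induction_linear with
        | zero => simp
        | add p q hp hq => simp only [map_add, hp, hq]
        | single m r => simp)

variable {R : Type u} [CommRing R] {A : Type u} [CommRing A] [HopfAlgebra R A]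

/-- A finite product of splittings of the same type is a splitting. -/
theorem isDiag_pi {ι : Type u} [Fintype ι] {S : ι → Type u}
    [∀ i, CommRing (S i)] [∀ i, Algebra R (S i)] {M : Type u} [CommGroup M]
    (e : ∀ i, S i ⊗[R] A ≃ₐc[S i] MonoidAlgebra (S i) M) :
    SGA3b.IsDiag (∀ i, S i) ((∀ i, S i) ⊗[R] A) := by
  classical
  choose x hx hxi using fun m : M => exists_pi fun i => isGL_splitElem (e i) m
  let χ : M →* GroupLike (∀ i, S i) ((∀ i, S i) ⊗[R] A) :=
    { toFun := fun m => ⟨x m, (isGL_iff R A _ _).1 (hx m)⟩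
      map_one' := GroupLike.ext (pi_ext fun i => by
        change mapT R A (Pi.evalAlgHom R S i) (x 1) = mapT R A (Pi.evalAlgHom R S i) 1
        rw [map_one, hxi]
        exact (splitChar (e i)).map_one)
      map_mul' := fun a b => GroupLike.ext (pi_ext fun i => by
        change mapT R A (Pi.evalAlgHom R S i) (x (a * b)) =
          mapT R A (Pi.evalAlgHom R S i) (x a * x b)
        rw [map_mul, hxi, hxi, hxi]
        exact (splitChar (e i)).map_mul a b) }
  have hcomm : ∀ i z, mapT R A (Pi.evalAlgHom R S i) (charMap χ z) =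
      (e i).symm (MonoidAlgebra.mapRingHom M (Pi.evalRingHom S i) z) := by
    intro i z
    induction z using MonoidAlgebra.induction_linear with
    | zero => simp
    | add p q hp hq => simp only [map_add, hp, hq]
    | single m b =>
      rw [charMap_single, mapT_smul]
      change (b i) • mapT R A (Pi.evalAlgHom R S i) (x m) = _
      rw [hxi, splitElem, ← map_smul]
      simp [MonoidAlgebra.smul_single']
  suffices hbij : Function.Bijective (charMap χ) from
    ⟨M, inferInstance, ⟨(BialgEquiv.ofBijective (charMap χ) hbij).symm⟩⟩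
  refine ⟨fun z z' h => ?_, fun y => ?_⟩
  · refine MonoidAlgebra.ext (Finsupp.ext fun m => funext fun i => ?_)
    have h1 := congrArg (mapT R A (Pi.evalAlgHom R S i)) h
    rw [hcomm, hcomm] at h1
    have h2 := congrArg (fun w => MonoidAlgebra.coeff w m) ((e i).symm.injective h1)
    simpa using h2
  · let u : ∀ i, MonoidAlgebra (S i) M := fun i => e i (mapT R A (Pi.evalAlgHom R S i) y)
    let F : Finset M := Finset.univ.biUnion fun i => (u i).coeff.support
    let z : MonoidAlgebra (∀ i, S i) M := ∑ m ∈ F, MonoidAlgebra.single m (fun i => (u i).coeff m)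
    refine ⟨z, pi_ext fun i => ?_⟩
    change mapT R A (Pi.evalAlgHom R S i) (charMap χ z) = mapT R A (Pi.evalAlgHom R S i) y
    rw [hcomm]
    refine (e i).injective ?_
    refine ((e i).apply_symm_apply _).trans ?_
    refine MonoidAlgebra.ext (Finsupp.ext fun m => ?_)
    simp only [z, map_sum, MonoidAlgebra.mapRingHom_single, MonoidAlgebra.coeff_sum,
      Finsupp.finset_sum_apply, MonoidAlgebra.coeff_single, Finsupp.single_apply,
      Finset.sum_ite_eq', Pi.evalRingHom_apply]
    split_ifs with h
    · rfl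
    · by_contra hne
      exact h (Finset.mem_biUnion.2 ⟨i, Finset.mem_univ i, Finsupp.mem_support_iff.2 (Ne.symm hne)⟩)

/-- Two splittings lying over the same prime have the same type. -/
theorem type_unique_of_comap_eq {S T : Type u} [CommRing S] [CommRing T] [Algebra R S]
    [Algebra R T] {M N : Type u} [CommGroup M] [CommGroup N]
    (e : S ⊗[R] A ≃ₐc[S] MonoidAlgebra S M) (e' : T ⊗[R] A ≃ₐc[T] MonoidAlgebra T N)
    (w : PrimeSpectrum S) (w' : PrimeSpectrum T)
    (h : PrimeSpectrum.comap (algebraMap R S) w = PrimeSpectrum.comap (algebraMap R T) w') :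
    Nonempty (M ≃* N) := by
  let p := (PrimeSpectrum.comap (algebraMap R S) w).asIdeal
  have hp' : p = w'.asIdeal.comap (algebraMap R T) := congrArg PrimeSpectrum.asIdeal h
  haveI : w.asIdeal.LiesOver p := ⟨rfl⟩
  haveI : w'.asIdeal.LiesOver p := ⟨hp'⟩
  let k := p.ResidueField
  let K₁ := w.asIdeal.ResidueField
  let K₂ := w'.asIdeal.ResidueField
  letI a₁ : Algebra k K₁ := (Ideal.ResidueField.map p w.asIdeal (algebraMap R S) rfl).toAlgebra
  letI a₂ : Algebra k K₂ := (Ideal.ResidueField.map p w'.asIdeal (algebraMap R T) hp').toAlgebra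
  haveI : IsScalarTower R k K₁ := IsScalarTower.of_algebraMap_eq fun r => by
    rw [RingHom.algebraMap_toAlgebra, Ideal.ResidueField.map_algebraMap,
      ← IsScalarTower.algebraMap_apply R S K₁]
  haveI : IsScalarTower R k K₂ := IsScalarTower.of_algebraMap_eq fun r => by
    rw [RingHom.algebraMap_toAlgebra, Ideal.ResidueField.map_algebraMap,
      ← IsScalarTower.algebraMap_apply R T K₂]
  haveI : Nontrivial (K₁ ⊗[k] K₂) :=
    (Algebra.TensorProduct.includeLeft_injective (S := k)
      (A := K₁) (B := K₂) (FaithfulSMul.algebraMap_injective k K₂)).nontrivial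
  obtain ⟨m, hm⟩ := Ideal.exists_maximal (K₁ ⊗[k] K₂)
  letI := Ideal.Quotient.field m
  let f₁ : S →ₐ[R] (K₁ ⊗[k] K₂) ⧸ m := ((Ideal.Quotient.mkₐ R m).comp
    ((Algebra.TensorProduct.includeLeft : K₁ →ₐ[k] K₁ ⊗[k] K₂).restrictScalars R)).comp
      (IsScalarTower.toAlgHom R S K₁)
  let f₂ : T →ₐ[R] (K₁ ⊗[k] K₂) ⧸ m := ((Ideal.Quotient.mkₐ R m).comp
    ((Algebra.TensorProduct.includeRight : K₂ →ₐ[k] K₁ ⊗[k] K₂).restrictScalars R)).comp
      (IsScalarTower.toAlgHom R T K₂)
  letI : Algebra T ((K₁ ⊗[k] K₂) ⧸ m) := f₂.toRingHom.toAlgebra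
  haveI : IsScalarTower R S ((K₁ ⊗[k] K₂) ⧸ m) :=
    IsScalarTower.of_algebraMap_eq fun r => (f₁.commutes r).symm
  haveI : IsScalarTower R T ((K₁ ⊗[k] K₂) ⧸ m) :=
    IsScalarTower.of_algebraMap_eq fun r => (f₂.commutes r).symm
  exact type_unique ((splitEquiv e ((K₁ ⊗[k] K₂) ⧸ m)).trans
    (splitEquiv e' ((K₁ ⊗[k] K₂) ⧸ m)).symm)

/-- A finite faithfully flat family of diagonalisations gives multiplicative type. -/
theorem isMultType_of_family {ι : Type u} [Fintype ι] {S : ι → Type u} [∀ i, CommRing (S i)]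
    [∀ i, Algebra R (S i)] (hff : Module.FaithfullyFlat R (∀ i, S i))
    (hd : ∀ i, SGA3b.IsDiag (S i) (S i ⊗[R] A)) : SGA3b.IsMultType R A := by
  classical
  haveI := hff
  choose M hM he using hd
  let rel : ι → ι → Prop := fun i j => Nonempty (M i ≃* M j)
  let U : ι → Set (PrimeSpectrum R) := fun c =>
    {p | ∃ i, rel i c ∧ ∃ w : PrimeSpectrum (S i), PrimeSpectrum.comap (algebraMap R (S i)) w = p}
  let π := PrimeSpectrum.comap (algebraMap R (∀ i, S i))
  have hpiece : ∀ w : PrimeSpectrum (∀ i, S i), ∃ i, (Pi.single i 1 : ∀ i, S i) ∉ w.asIdeal := by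
    intro w
    by_contra hcon
    push Not at hcon
    refine w.isPrime.ne_top (Ideal.eq_top_iff_one _ |>.2 ?_)
    rw [← Finset.univ_sum_single (1 : ∀ i, S i)]
    exact sum_mem fun i _ => hcon i
  have hlift : ∀ (w : PrimeSpectrum (∀ i, S i)) (i : ι), (Pi.single i 1 : ∀ i, S i) ∉ w.asIdeal →
      ∃ w' : PrimeSpectrum (S i), PrimeSpectrum.comap (algebraMap R (S i)) w' = π w := by
    intro w i hi
    have hker : RingHom.ker (Pi.evalRingHom S i) ≤ w.asIdeal := fun x hx => by
      refine (w.isPrime.mem_or_mem ?_).resolve_left hi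
      have : (Pi.single i 1 : ∀ i, S i) * x = 0 := by
        funext j
        rcases eq_or_ne j i with rfl | hj
        · simpa using hx
        · simp [Pi.single_eq_of_ne hj]
      rw [this]
      exact zero_mem _
    obtain ⟨w', hw'⟩ : w ∈ Set.range (PrimeSpectrum.comap (Pi.evalRingHom S i)) := by
      rw [range_comap_of_surjective _ _ (Function.surjective_eval i)]
      exact hker
    refine ⟨w', ?_⟩
    rw [← hw']
    rfl
  have hclopen : ∀ c, IsClopen (U c) := by
    intro c
    have hgen : GeneralizingMap π := Algebra.HasGoingDown.iff_generalizingMap_primeSpectrumComap.mp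
      inferInstance
    have hq := PrimeSpectrum.isQuotientMap_of_generalizingMap
      PrimeSpectrum.comap_surjective_of_faithfullyFlat hgen
    have hpre : π ⁻¹' U c = ⋃ i ∈ {i | rel i c},
          (PrimeSpectrum.basicOpen (Pi.single i 1 : ∀ i, S i) : Set (PrimeSpectrum (∀ i, S i))) ∧
        (π ⁻¹' U c)ᶜ = ⋃ i ∈ {i | ¬ rel i c},
          (PrimeSpectrum.basicOpen (Pi.single i 1 : ∀ i, S i) : Set (PrimeSpectrum (∀ i, S i))) := by
      have key : ∀ w, ∀ i, (Pi.single i 1 : ∀ i, S i) ∉ w.asIdeal → (π w ∈ U c ↔ rel i c) := by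
        intro w i hi
        obtain ⟨w', hw'⟩ := hlift w i hi
        refine ⟨?_, fun h => ⟨i, h, w', hw'⟩⟩
        rintro ⟨j, ⟨hj⟩, v, hv⟩
        obtain ⟨f⟩ := type_unique_of_comap_eq (he i).some (he j).some w' v (hw'.trans hv.symm)
        exact ⟨f.trans hj⟩
      constructor <;> ext w <;>
        simp only [Set.mem_preimage, Set.mem_compl_iff, Set.mem_iUnion, Set.mem_setOf_eq,
          SetLike.mem_coe, PrimeSpectrum.mem_basicOpen, exists_prop] <;>
        refine ⟨fun h => ?_, fun ⟨i, hi, hiw⟩ => by rw [key w i hiw]; exact hi⟩ <;>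
        obtain ⟨i, hi⟩ := hpiece w <;> exact ⟨i, by rwa [key w i hi] at h, hi⟩
    refine ⟨?_, ?_⟩
    · rw [← hq.isClosed_preimage, ← isOpen_compl_iff, hpre.2]
      exact isOpen_biUnion fun i _ => (PrimeSpectrum.basicOpen _).isOpen
    · rw [← hq.isOpen_preimage, hpre.1]
      exact isOpen_biUnion fun i _ => (PrimeSpectrum.basicOpen _).isOpen
  choose e _ heq using fun c => PrimeSpectrum.exists_idempotent_basicOpen_eq_of_isClopen (hclopen c)
  refine ⟨Set.range e, ?_, ?_⟩
  · by_contra hcon
    obtain ⟨p, hp, hle⟩ := Ideal.exists_le_maximal _ hcon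
    obtain ⟨w, hw⟩ := PrimeSpectrum.comap_surjective_of_faithfullyFlat (A := R) (B := ∀ i, S i)
      ⟨p, hp.isPrime⟩
    obtain ⟨i, hi⟩ := hpiece w
    obtain ⟨w', hw'⟩ := hlift w i hi
    have h1 : (⟨p, hp.isPrime⟩ : PrimeSpectrum R) ∈ U i :=
      ⟨i, ⟨MulEquiv.refl _⟩, w', hw'.trans hw⟩
    rw [heq] at h1
    exact h1 (hle (Ideal.subset_span (Set.mem_range_self i)))
  · rintro _ ⟨c, rfl⟩
    let Re := Localization.Away (e c)
    let T : {i // rel i c} → Type u := fun i => Re ⊗[R] S i.1
    haveI : ∀ i, Module.Flat R (S i) := fun i => Module.Flat.of_retract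
      (LinearMap.single R S i) (LinearMap.proj i) (LinearMap.ext fun x => Pi.single_eq_same i x)
    haveI : ∀ i : {i // rel i c}, Module.Flat Re (T i) := fun i => inferInstance
    haveI : Module.Flat Re (∀ i, T i) :=
      Module.Flat.of_linearEquiv (DFinsupp.linearEquivFunOnFintype (R := Re) (M := T)).symm
    haveI : Module.FaithfullyFlat Re (∀ i, T i) := by
      refine Module.FaithfullyFlat.of_comap_surjective fun q => ?_
      have hq : PrimeSpectrum.comap (algebraMap R Re) q ∈ U c := by
        rw [heq]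
        have := Set.mem_range_self (f := PrimeSpectrum.comap (algebraMap R Re)) q
        rwa [PrimeSpectrum.localization_away_comap_range Re (e c)] at this
      obtain ⟨i, hi, w, hw⟩ := hq
      let K := w.asIdeal.ResidueField
      have hunit : IsUnit (algebraMap R K (e c)) := by
        refine isUnit_iff_ne_zero.2 fun h0 => ?_
        rw [IsScalarTower.algebraMap_apply R (S i) K,
          Ideal.algebraMap_residueField_eq_zero] at h0
        exact q.isPrime.ne_top (Ideal.eq_top_of_isUnit_mem _ (show algebraMap R Re (e c) ∈ q.asIdeal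
          from (congrArg (fun v : PrimeSpectrum R => e c ∈ v.asIdeal) hw) ▸ h0)
          (IsLocalization.Away.algebraMap_isUnit (e c)))
      let g : Re →ₐ[R] K := IsLocalization.liftAlgHom (M := Submonoid.powers (e c))
        (f := Algebra.ofId R K) (by rintro ⟨y, n, rfl⟩; rw [map_pow]; exact hunit.pow n)
      let Φ : T ⟨i, hi⟩ →ₐ[R] K :=
        Algebra.TensorProduct.lift g (IsScalarTower.toAlgHom R (S i) K) fun _ _ => Commute.all _ _
      refine ⟨PrimeSpectrum.comap ((Φ : T ⟨i, hi⟩ →+* K).comp (Pi.evalRingHom T ⟨i, hi⟩)) ⊥, ?_⟩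
      rw [← PrimeSpectrum.comap_comp_apply]
      apply PrimeSpectrum.localization_comap_injective Re (Submonoid.powers (e c))
      rw [← PrimeSpectrum.comap_comp_apply, ← hw]
      ext r
      simp only [PrimeSpectrum.comap_asIdeal, Ideal.mem_comap, RingHom.comp_apply]
      change Φ (algebraMap R Re r ⊗ₜ (1 : S i)) ∈ (⊥ : Ideal K) ↔ _
      rw [Algebra.TensorProduct.lift_tmul, map_one, _root_.mul_one, Ideal.mem_bot, AlgHom.commutes,
        IsScalarTower.algebraMap_apply R (S i) K, Ideal.algebraMap_residueField_eq_zero]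
    refine ⟨∀ i, T i, inferInstance, inferInstance, inferInstance, ?_⟩
    letI : ∀ i : {i // rel i c}, Algebra (S i.1) (T i) := fun i =>
      Algebra.TensorProduct.rightAlgebra
    haveI : ∀ i : {i // rel i c}, IsScalarTower R (S i.1) (T i) := fun i =>
      IsScalarTower.of_algebraMap_eq fun r => by
        change algebraMap R Re r ⊗ₜ[R] (1 : S i.1) = (1 : Re) ⊗ₜ algebraMap R (S i.1) r
        exact Algebra.TensorProduct.tmul_one_eq_one_tmul r
    have hd' := isDiag_pi (R := R) (A := A) (S := T) (M := M c) fun i =>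
      (splitEquiv (he i.1).some (T i)).symm.trans (domBialg (T i) i.2.some)
    exact isDiag_of_bialgEquiv (cancelBialg R Re (∀ i, T i) A).symm hd'

end Groth.L25.MultType
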