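import Groth.Agent.L25.Char.CompletionHom
import Mathlib.FieldTheory.IsAlgClosed.AlgebraicClosure
import Mathlib.RingTheory.RootsOfUnity.AlgebraicallyClosed
import Mathlib.Algebra.MonoidAlgebra.NoZeroDivisors
import Mathlib.RingTheory.IntegralClosure.IsIntegralClosure.Basic
import Mathlib.RingTheory.RootsOfUnity.PrimitiveRoots
import Mathlib.RingTheory.LocalRing.ResidueField.Ideal
import Mathlib.RingTheory.LocalRing.ResidueField.Basic

/-!
# Torsion is schematically dense in diagonalisable groups
-/

set_option autoImplicit false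

universe u

open TensorProduct

namespace Groth.L25.MultType.Dense

/-- A linear form separating finitely many points of a lattice. -/
theorem exists_weight {r : ℕ} (s : Finset (Fin r →₀ ℤ)) :
    ∃ w : (Fin r →₀ ℤ) →+ ℤ, Set.InjOn w ↑s := by
  classical
  let toPoly : (Fin r →₀ ℤ) →+ Polynomial ℤ :=
    Finsupp.liftAddHom fun i => (Polynomial.monomial (i : ℕ)).toAddMonoidHom
  have hinj : ∀ v, toPoly v = 0 → v = 0 := fun v hv => Finsupp.ext fun i => by
    have h1 := congrArg (fun p => Polynomial.coeff p (i : ℕ)) hv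
    simp only [toPoly, Finsupp.liftAddHom_apply, LinearMap.toAddMonoidHom_coe, Finsupp.sum,
      Polynomial.finsetSum_coeff, Polynomial.coeff_monomial, Polynomial.coeff_zero] at h1
    rw [Finset.sum_eq_single i (fun j _ hj => if_neg (fun h => hj (Fin.ext h)))
      (fun hi => by simp [Finsupp.notMem_support_iff.1 hi])] at h1
    simpa using h1
  let P : Polynomial ℤ := ∏ p ∈ (s ×ˢ s).filter (fun p => p.1 ≠ p.2), toPoly (p.1 - p.2)
  have hP : P ≠ 0 := Finset.prod_ne_zero_iff.2 fun p hp h =>
    (Finset.mem_filter.1 hp).2 (sub_eq_zero.1 (hinj _ h))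
  obtain ⟨t, ht⟩ : ∃ t : ℤ, P.eval t ≠ 0 := by
    by_contra hcon
    exact hP (Polynomial.funext fun t => by
      rw [Polynomial.eval_zero]
      exact not_not.1 fun h => hcon ⟨t, h⟩)
  refine ⟨(Polynomial.leval t).toAddMonoidHom.comp toPoly, fun a ha b hb hab => ?_⟩
  by_contra hne
  refine ht ?_
  rw [Polynomial.eval_prod]
  refine Finset.prod_eq_zero (i := (a, b)) (Finset.mem_filter.2 ⟨Finset.mem_product.2 ⟨ha, hb⟩, hne⟩) ?_
  rw [map_sub, Polynomial.eval_sub, sub_eq_zero]
  exact hab

/-- A nonzero element of a torus ring is nonzero at some torsion point. -/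
theorem exists_torsion_eval {K : Type u} [Field K] {F : Type u} [CommGroup F] {r : ℕ}
    (f : Additive F ≃+ (Fin r →₀ ℤ)) {d : MonoidAlgebra K F} (hd : d ≠ 0) :
    ∃ (q : ℕ) (η : F →* AlgebraicClosure K), 0 < q ∧ (∀ v, η v ^ q = 1) ∧
      MonoidAlgebra.lift K (AlgebraicClosure K) F η d ≠ 0 := by
  classical
  let Kb := AlgebraicClosure K
  obtain ⟨w, hw⟩ := exists_weight (d.coeff.support.image fun v => f (Additive.ofMul v))
  let wt : F → ℤ := fun v => w (f (Additive.ofMul v))
  have hwt : Set.InjOn wt ↑d.coeff.support := fun a ha b hb h =>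
    Additive.ofMul.injective (f.injective (hw (Finset.mem_image_of_mem _ ha)
      (Finset.mem_image_of_mem _ hb) h))
  let bound := ∑ v ∈ d.coeff.support, (wt v).natAbs
  obtain ⟨q, hq, hqp⟩ := Nat.exists_infinite_primes (2 * bound + ringChar K + 1)
  haveI : Fact q.Prime := ⟨hqp⟩
  haveI : NeZero (q : Kb) := ⟨fun h => by
    have h1 : (q : K) = 0 := by
      apply (algebraMap K Kb).injective
      rw [map_natCast, map_zero]
      exact h
    have h2 := (ringChar.spec K q).1 h1
    rcases hqp.eq_one_or_self_of_dvd _ h2 with h3 | h3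
    · exact CharP.ringChar_ne_one h3
    · omega⟩
  obtain ⟨ζ, hζ⟩ := HasEnoughRootsOfUnity.exists_primitiveRoot Kb q
  let res : F → ℕ := fun v => ((wt v) % (q : ℤ)).toNat
  have hres : ∀ v, res v < q := fun v => by
    have h1 := Int.emod_lt_of_pos (wt v) (by exact_mod_cast hqp.pos : (0 : ℤ) < q)
    have h2 := Int.emod_nonneg (wt v) (by exact_mod_cast hqp.ne_zero : (q : ℤ) ≠ 0)
    simp only [res]
    omega
  have hresinj : Set.InjOn res ↑d.coeff.support := by
    intro a ha b hb h
    refine hwt ha hb ?_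
    have h1 : (wt a) % (q : ℤ) = (wt b) % (q : ℤ) := by
      have h2 := Int.emod_nonneg (wt a) (by exact_mod_cast hqp.ne_zero : (q : ℤ) ≠ 0)
      have h3 := Int.emod_nonneg (wt b) (by exact_mod_cast hqp.ne_zero : (q : ℤ) ≠ 0)
      simp only [res] at h
      omega
    obtain ⟨c, hc⟩ := Int.ModEq.dvd h1
    have ha' : (wt a).natAbs ≤ bound :=
      Finset.single_le_sum (f := fun v => (wt v).natAbs) (by simp) ha
    have hb' : (wt b).natAbs ≤ bound :=
      Finset.single_le_sum (f := fun v => (wt v).natAbs) (by simp) hb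
    have hc0 : c = 0 := by
      by_contra hc0
      have h4 : (wt b - wt a).natAbs = q * c.natAbs := by rw [hc, Int.natAbs_mul, Int.natAbs_natCast]
      have h5 : q ≤ q * c.natAbs := Nat.le_mul_of_pos_right _ (Int.natAbs_pos.2 hc0)
      omega
    rw [hc0, mul_zero] at hc
    omega
  let P : Polynomial Kb :=
    ∑ v ∈ d.coeff.support, Polynomial.monomial (res v) (algebraMap K Kb (d.coeff v))
  have hP : P ≠ 0 := by
    obtain ⟨v, hv⟩ : d.coeff.support.Nonempty := Finsupp.support_nonempty_iff.2 fun h => hd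
      (MonoidAlgebra.ext h)
    intro h0
    have h1 := congrArg (fun p => Polynomial.coeff p (res v)) h0
    simp only [P, Polynomial.finsetSum_coeff, Polynomial.coeff_monomial, Polynomial.coeff_zero] at h1
    rw [Finset.sum_eq_single v (fun j hj hne => if_neg (fun h => hne (hresinj hj hv h)))
      (fun h => absurd hv h), if_pos rfl, map_eq_zero] at h1
    exact (Finsupp.mem_support_iff.1 hv) h1
  obtain ⟨i, hi, hne⟩ : ∃ i < q, P.eval (ζ ^ i) ≠ 0 := by
    by_contra hcon
    refine hP (Polynomial.eq_zero_of_natDegree_lt_card_of_eval_eq_zero P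
      (f := fun i : Fin q => ζ ^ (i : ℕ)) (fun a b h => Fin.ext (hζ.pow_inj a.2 b.2 h))
      (fun i => not_not.1 fun h => hcon ⟨i, i.2, h⟩) ?_)
    rw [Fintype.card_fin]
    refine lt_of_le_of_lt (Polynomial.natDegree_sum_le_of_forall_le _ _ (n := q - 1) fun v _ => ?_) ?_
    · exact (Polynomial.natDegree_monomial_le _).trans (by have := hres v; omega)
    · have := hqp.pos
      omega
  have hζ0 : ζ ≠ 0 := hζ.ne_zero hqp.ne_zero
  let η : F →* Kb :=
    { toFun := fun v => ((Units.mk0 ζ hζ0 ^ i) ^ wt v : Kbˣ).1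
      map_one' := by simp [wt]
      map_mul' := fun a b => by
        simp only [wt, ofMul_mul, map_add, zpow_add, Units.val_mul] }
  have hpow : ∀ v, η v = (ζ ^ i) ^ res v := by
    intro v
    have hu : (Units.mk0 ζ hζ0 ^ i) ^ (q : ℤ) = 1 := by
      refine Units.ext ?_
      rw [zpow_natCast, Units.val_pow_eq_pow_val, Units.val_pow_eq_pow_val, Units.val_mk0,
        Units.val_one, ← pow_mul, mul_comm, pow_mul, hζ.pow_eq_one, one_pow]
    have h1 : wt v = (q : ℤ) * (wt v / q) + (res v : ℤ) := by
      have h2 := Int.emod_nonneg (wt v) (by exact_mod_cast hqp.ne_zero : (q : ℤ) ≠ 0)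
      simp only [res, Int.toNat_of_nonneg h2]
      exact (Int.mul_ediv_add_emod (wt v) q).symm
    change ((Units.mk0 ζ hζ0 ^ i) ^ wt v : Kbˣ).1 = _
    rw [h1, zpow_add, zpow_mul, hu, one_zpow, one_mul, zpow_natCast]
    simp
  refine ⟨q, η, hqp.pos, fun v => ?_, ?_⟩
  · rw [hpow, ← pow_mul, ← pow_mul, show i * (res v * q) = q * (i * res v) by ring, pow_mul,
      hζ.pow_eq_one, one_pow]
  · have h1 : MonoidAlgebra.lift K Kb F η d = P.eval (ζ ^ i) := by
      rw [MonoidAlgebra.lift_apply, Finsupp.sum, Polynomial.eval_finsetSum]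
      refine Finset.sum_congr rfl fun v _ => ?_
      rw [Polynomial.eval_monomial, hpow, Algebra.smul_def]
    rwa [h1]

theorem mdr_single {T : Type u} [CommRing T] {M P : Type u} [CommGroup M] [CommGroup P] (g : M →* P)
    (m : M) (c : T) : MonoidAlgebra.mapDomainRingHom T g (MonoidAlgebra.single m c) =
      MonoidAlgebra.single (g m) c :=
  MonoidAlgebra.mapDomain_single

/-- The vanishing hypothesis: on every quotient killed by `n`, up to a power of `a`. -/
def Vanishes {T : Type u} [CommRing T] {M : Type u} [CommGroup M] (a x : MonoidAlgebra T M) : Prop :=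
  ∀ n : ℕ, 0 < n → ∃ k : ℕ, ∀ (P : Type u) [CommGroup P] (g : M →* P), (∀ m, g (m ^ n) = 1) →
    MonoidAlgebra.mapDomainRingHom T g (a ^ k * x) = 0

/-- Density over a field, for a product of a lattice and a finite group. -/
theorem dense_field_prod {K : Type u} [Field K] {F E : Type u} [CommGroup F] [CommGroup E] [Finite E]
    {r : ℕ} (f : Additive F ≃+ (Fin r →₀ ℤ)) (a x : MonoidAlgebra K (F × E))
    (h : Vanishes a x) : ∃ N, a ^ N * x = 0 := by
  classical
  let D := MonoidAlgebra K F
  let S := MonoidAlgebra K (F × E)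
  let inl : D →+* S := MonoidAlgebra.mapDomainRingHom K (MonoidHom.inl F E)
  letI : Algebra D S := inl.toAlgebra
  haveI : IsDomain D := by
    haveI : IsAddTorsionFree (Additive F) := f.injective.isAddTorsionFree f.toAddMonoidHom
    haveI : UniqueProds F := UniqueProds.of_injective_mulHom
      ({ toFun := fun v => Multiplicative.ofAdd (f (Additive.ofMul v))
         map_mul' := fun v w => by simp [ofMul_mul] } : F →ₙ* Multiplicative (Fin r →₀ ℤ))
      (fun v w h => Additive.ofMul.injective (f.injective (Multiplicative.ofAdd.injective h)))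
      inferInstance
    exact NoZeroDivisors.to_isDomain _
  have hall : ∀ a : S, IsIntegral D a := by
    intro a
    induction a using MonoidAlgebra.induction_linear with
    | zero => exact isIntegral_zero
    | add p q hp hq => exact hp.add hq
    | single m c =>
      have h1 : MonoidAlgebra.single m c = algebraMap D S (MonoidAlgebra.single m.1 c) *
          MonoidAlgebra.single ((1 : F), m.2) 1 := by
        change _ = inl (MonoidAlgebra.single m.1 c) * _
        rw [show inl (MonoidAlgebra.single m.1 c) = MonoidAlgebra.single (m.1, (1 : E)) c by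
          exact mdr_single _ _ _, MonoidAlgebra.single_mul_single, Prod.mk_mul_mk, mul_one, one_mul, mul_one]
      rw [h1]
      refine isIntegral_algebraMap.mul (IsIntegral.of_pow (n := Nat.card E) Nat.card_pos ?_)
      rw [MonoidAlgebra.single_pow, one_pow,
        show ((1 : F), m.2) ^ Nat.card E = 1 from Prod.ext (one_pow _) pow_card_eq_one']
      exact isIntegral_one
  obtain ⟨g, hg, hga⟩ := hall a
  obtain ⟨y, δ, N, hδ, hy⟩ : ∃ (y : S) (δ : D) (N : ℕ), δ ≠ 0 ∧
      algebraMap D S δ * a ^ N = a ^ (N + 1) * y := by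
    let N := g.natTrailingDegree
    obtain ⟨g₁, hg₁⟩ : Polynomial.X ^ N ∣ g :=
      Polynomial.X_pow_dvd_iff.2 fun d hd => Polynomial.coeff_eq_zero_of_lt_natTrailingDegree hd
    have hc : g₁.coeff 0 = g.trailingCoeff := by
      have h1 := congrArg (fun p => Polynomial.coeff p (0 + N)) hg₁
      simp only [Polynomial.coeff_X_pow_mul] at h1
      rw [zero_add] at h1
      exact h1.symm
    refine ⟨-(Polynomial.aeval a g₁.divX), g₁.coeff 0, N, hc ▸ mt Polynomial.trailingCoeff_eq_zero.1
      hg.ne_zero, ?_⟩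
    have h0 : Polynomial.aeval a g = 0 := hga
    rw [hg₁, map_mul, map_pow, Polynomial.aeval_X] at h0
    conv_lhs at h0 => rw [← Polynomial.X_mul_divX_add g₁]
    rw [map_add, map_mul, Polynomial.aeval_X, Polynomial.aeval_C] at h0
    linear_combination h0
  have hiter : ∀ k : ℕ, algebraMap D S δ ^ k * a ^ N = a ^ (N + k) * y ^ k := by
    intro k
    induction k with
    | zero => simp
    | succ k ih =>
      calc algebraMap D S δ ^ (k + 1) * a ^ N = algebraMap D S δ * (a ^ (N + k) * y ^ k) := by
            rw [← ih]; ring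
        _ = (algebraMap D S δ * a ^ N) * (a ^ k * y ^ k) := by ring
        _ = a ^ (N + (k + 1)) * y ^ (k + 1) := by rw [hy]; ring
  refine ⟨N, ?_⟩
  by_contra hne
  set z := a ^ N * x with hz
  obtain ⟨m₀, hm₀⟩ : z.coeff.support.Nonempty := Finsupp.support_nonempty_iff.2 fun h => hne
    (MonoidAlgebra.ext h)
  let ze : D := ∑ m ∈ z.coeff.support,
    if m.2 = m₀.2 then MonoidAlgebra.single m.1 (z.coeff m) else 0
  have hze : ze ≠ 0 := by
    intro h0
    have h1 : ∑ m ∈ z.coeff.support,
        (if m.2 = m₀.2 then MonoidAlgebra.single m.1 (z.coeff m) else (0 : D)).coeff m₀.1 = 0 := by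
      rw [← Finsupp.finsetSum_apply, ← MonoidAlgebra.coeff_sum]
      exact (congrArg (fun p : D => p.coeff m₀.1) h0).trans rfl
    rw [Finset.sum_eq_single m₀ (fun m _ hm => ?_) (fun h => absurd hm₀ h), if_pos rfl,
      MonoidAlgebra.coeff_single, Finsupp.single_eq_same] at h1
    · exact Finsupp.mem_support_iff.1 hm₀ h1
    · split_ifs with h2
      · rw [MonoidAlgebra.coeff_single]
        exact Finsupp.single_eq_of_ne fun h => hm (Prod.ext h.symm h2)
      · simp
  obtain ⟨q, η, hq, hη, hne'⟩ := exists_torsion_eval f (mul_ne_zero hδ hze)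
  let Kb := AlgebraicClosure K
  obtain ⟨k, hk⟩ := h (q * Nat.card E) (Nat.mul_pos hq Nat.card_pos)
  let g' : F × E →* Kbˣ × E := MonoidHom.prodMap η.toHomUnits (MonoidHom.id E)
  have hg' : ∀ m : F × E, g' (m ^ (q * Nat.card E)) = 1 := fun m => by
    refine Prod.ext (Units.ext ?_) ?_
    · change (η (m ^ (q * Nat.card E)).1) = 1
      rw [Prod.pow_fst, map_pow, pow_mul, hη, one_pow]
    · change (m ^ (q * Nat.card E)).2 = 1
      rw [Prod.pow_snd, mul_comm, pow_mul, pow_card_eq_one', one_pow]
  let ev : MonoidAlgebra K (Kbˣ × E) →ₐ[K] MonoidAlgebra Kb E :=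
    MonoidAlgebra.lift K (MonoidAlgebra Kb E) (Kbˣ × E)
      { toFun := fun p => MonoidAlgebra.single p.2 (p.1 : Kb)
        map_one' := by simp [MonoidAlgebra.one_def]
        map_mul' := fun p p' => by simp [MonoidAlgebra.single_mul_single] }
  let Φ : S →+* MonoidAlgebra Kb E :=
    (ev : MonoidAlgebra K (Kbˣ × E) →+* MonoidAlgebra Kb E).comp
      (MonoidAlgebra.mapDomainRingHom K g')
  have hΦ : ∀ (m : F × E) (c : K), Φ (MonoidAlgebra.single m c) =
      MonoidAlgebra.single m.2 (c • η m.1) := fun m c => by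
    change ev (MonoidAlgebra.mapDomainRingHom K g' (MonoidAlgebra.single m c)) = _
    refine (congrArg ev (mdr_single g' m c)).trans ((MonoidAlgebra.lift_single _ _ _).trans ?_)
    exact MonoidAlgebra.smul_single c m.2 _
  have hΦd : ∀ d : D, Φ (algebraMap D S d) =
      MonoidAlgebra.single (1 : E) (MonoidAlgebra.lift K Kb F η d) := fun d => by
    change Φ (inl d) = _
    induction d using MonoidAlgebra.induction_linear with
    | zero => simp
    | add p q hp hq => simp only [map_add, MonoidAlgebra.single_add, hp, hq]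
    | single v c =>
      rw [show inl (MonoidAlgebra.single v c) = MonoidAlgebra.single (v, (1 : E)) c from mdr_single _ _ _,
        hΦ, MonoidAlgebra.lift_single]
  have h2 : Φ (algebraMap D S δ) ^ k * Φ z = 0 := by
    have h3 : Φ (a ^ k * x) = 0 := by
      change ev (MonoidAlgebra.mapDomainRingHom K g' (a ^ k * x)) = 0
      rw [hk _ g' hg', map_zero]
    calc Φ (algebraMap D S δ) ^ k * Φ z = Φ (algebraMap D S δ ^ k * a ^ N * x) := by
          rw [hz, map_mul, map_mul, map_mul, map_pow, map_pow]; ring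
      _ = Φ (a ^ N * y ^ k) * Φ (a ^ k * x) := by
          rw [hiter, ← map_mul]
          exact congrArg Φ (by ring)
      _ = 0 := by rw [h3, mul_zero]
  rw [hΦd, MonoidAlgebra.single_pow, one_pow] at h2
  have h4 := congrArg (fun p : MonoidAlgebra Kb E => p.coeff m₀.2) h2
  rw [map_mul] at hne'
  have h5 : (Φ z).coeff m₀.2 = MonoidAlgebra.lift K Kb F η ze := by
    conv_lhs => rw [← MonoidAlgebra.sum_coeff_single z, Finsupp.sum, map_sum]
    rw [MonoidAlgebra.coeff_sum, Finsupp.finsetSum_apply, map_sum]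
    refine Finset.sum_congr rfl fun m _ => ?_
    rw [hΦ]
    split_ifs with h6
    · rw [MonoidAlgebra.lift_single, h6, MonoidAlgebra.coeff_single, Finsupp.single_eq_same]
    · rw [map_zero, MonoidAlgebra.coeff_single, Finsupp.single_eq_of_ne (Ne.symm h6)]
  simp only [MonoidAlgebra.coeff_single_one_mul, h5, MonoidAlgebra.coeff_zero, Finsupp.coe_zero,
    Pi.zero_apply] at h4
  rcases mul_eq_zero.1 h4 with h6 | h6
  · exact hne' (mul_eq_zero_of_left (eq_zero_of_pow_eq_zero h6) _)
  · exact hne' (mul_eq_zero_of_right _ h6)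

/-- Vanishing is invariant under homomorphisms of the group. -/
theorem Vanishes.mapDomain {T : Type u} [CommRing T] {M M' : Type u} [CommGroup M] [CommGroup M']
    (φ : M →* M') {a x : MonoidAlgebra T M} (h : Vanishes a x) :
    Vanishes (MonoidAlgebra.mapDomainRingHom T φ a) (MonoidAlgebra.mapDomainRingHom T φ x) := by
  intro n hn
  obtain ⟨k, hk⟩ := h n hn
  refine ⟨k, fun P _ g hg => ?_⟩
  rw [← map_pow, ← map_mul, ← RingHom.comp_apply, ← MonoidAlgebra.mapDomainRingHom_comp]
  exact hk P (g.comp φ) fun m => by rw [MonoidHom.comp_apply, map_pow]; exact hg _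

/-- Density over a field. -/
theorem dense_field {K : Type u} [Field K] {M : Type u} [CommGroup M] [Group.FG M]
    (a x : MonoidAlgebra K M) (h : Vanishes a x) : ∃ N, a ^ N * x = 0 := by
  classical
  obtain ⟨r, ι, _, p, hp, e, ⟨f⟩⟩ := AddCommGroup.equiv_free_prod_directSum_zmod (Additive M)
  let F := ULift.{u} (Multiplicative (Fin r →₀ ℤ))
  let Q := DirectSum ι fun i => ZMod (p i ^ e i)
  let E := ULift.{u} (Multiplicative Q)
  haveI : Finite Q := by
    haveI : ∀ i, NeZero (p i ^ e i) := fun i => ⟨pow_ne_zero _ (hp i).ne_zero⟩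
    exact Finite.of_equiv _ DFinsupp.equivFunOnFintype.symm
  haveI : Finite E := inferInstance
  let φ : M ≃* F × E :=
    { toFun := fun m => (⟨Multiplicative.ofAdd (f (Additive.ofMul m)).1⟩,
        ⟨Multiplicative.ofAdd (f (Additive.ofMul m)).2⟩)
      invFun := fun z => Additive.toMul (f.symm
        (Multiplicative.toAdd z.1.down, Multiplicative.toAdd z.2.down))
      left_inv := fun m => by simp
      right_inv := fun z => by simp; rfl
      map_mul' := fun m m' => by
        refine Prod.ext (ULift.ext _ _ ?_) (ULift.ext _ _ ?_) <;> simp [ofMul_mul] <;> rfl }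
  let fF : Additive F ≃+ (Fin r →₀ ℤ) :=
    { toFun := fun v => Multiplicative.toAdd (Additive.toMul v).down
      invFun := fun v => Additive.ofMul ⟨Multiplicative.ofAdd v⟩
      left_inv := fun v => rfl
      right_inv := fun v => rfl
      map_add' := fun v w => rfl }
  obtain ⟨N, hN⟩ := dense_field_prod fF _ _ (h.mapDomain φ.toMonoidHom)
  refine ⟨N, MonoidAlgebra.mapDomain_injective φ.injective ?_⟩
  rw [← map_pow, ← map_mul] at hN
  exact hN.trans (map_zero (MonoidAlgebra.mapDomainRingHom K φ.toMonoidHom)).symm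

/-- Vanishing is invariant under change of coefficients. -/
theorem Vanishes.mapRing {T T' : Type u} [CommRing T] [CommRing T'] {M : Type u} [CommGroup M]
    (φ : T →+* T') {a x : MonoidAlgebra T M} (h : Vanishes a x) :
    Vanishes (MonoidAlgebra.mapRingHom M φ a) (MonoidAlgebra.mapRingHom M φ x) := by
  intro n hn
  obtain ⟨k, hk⟩ := h n hn
  refine ⟨k, fun P _ g hg => ?_⟩
  rw [← map_pow, ← map_mul, ← RingHom.comp_apply, ← MonoidAlgebra.mapRingHom_comp_mapDomainRingHom,
    RingHom.comp_apply, hk P g hg, map_zero]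

/-- Vanishing passes to multiples. -/
theorem Vanishes.mul {T : Type u} [CommRing T] {M : Type u} [CommGroup M] {a x : MonoidAlgebra T M}
    (h : Vanishes a x) (d : MonoidAlgebra T M) : Vanishes a (d * x) := by
  intro n hn
  obtain ⟨k, hk⟩ := h n hn
  refine ⟨k, fun P _ g hg => ?_⟩
  rw [mul_left_comm, map_mul, hk P g hg, mul_zero]

/-- Density over a Noetherian ring. -/
theorem dense_noetherian {T : Type u} [CommRing T] [IsNoetherianRing T] {M : Type u} [CommGroup M]
    [Group.FG M] (a x : MonoidAlgebra T M) (h : Vanishes a x) : ∃ N, a ^ N * x = 0 := by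
  classical
  let S := MonoidAlgebra T M
  haveI : Monoid.FG M := Group.fg_iff_monoid_fg.1 inferInstance
  haveI : Algebra.FiniteType T S := MonoidAlgebra.finiteType_of_fg
  haveI : IsNoetherianRing S := Algebra.FiniteType.isNoetherianRing T S
  let Ann : ℕ → Ideal S := fun j => (Submodule.span S {a ^ j * x}).annihilator
  have hAnn : ∀ j d, d ∈ Ann j ↔ d * (a ^ j * x) = 0 := fun j d =>
    Submodule.mem_annihilator_span_singleton _ _
  obtain ⟨N, hN⟩ := monotone_stabilizes_iff_noetherian.2 (inferInstance : IsNoetherian S S)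
    ⟨Ann, monotone_nat_of_le_succ fun j d hd => by
      rw [hAnn] at hd ⊢
      rw [pow_succ, mul_right_comm, ← mul_assoc, hd, zero_mul]⟩
  refine ⟨N, ?_⟩
  by_contra hne
  let c := a ^ N * x
  have hsat : ∀ (d : S) (j : ℕ), a ^ j * (d * c) = 0 → d * c = 0 := fun d j hd => by
    have h1 : d ∈ Ann (N + j) := (hAnn _ _).2 (by rw [pow_add]; linear_combination hd)
    rw [show Ann (N + j) = Ann N from (hN (N + j) (N.le_add_right j)).symm] at h1
    exact (hAnn _ _).1 h1
  -- an associated prime
  let AnnT : S → Ideal T := fun w => (Submodule.span T {w}).annihilator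
  have hAnnT : ∀ w t, t ∈ AnnT w ↔ t • w = 0 := fun w t =>
    Submodule.mem_annihilator_span_singleton _ _
  obtain ⟨p, ⟨d, hd0, hp⟩, hmax⟩ : ∃ p : Ideal T, (∃ d : S, d * c ≠ 0 ∧ p = AnnT (d * c)) ∧
      ∀ I ∈ {I : Ideal T | ∃ d : S, d * c ≠ 0 ∧ I = AnnT (d * c)}, ¬p < I :=
    set_has_maximal_iff_noetherian.2 (inferInstance : IsNoetherian T T)
      {I : Ideal T | ∃ d : S, d * c ≠ 0 ∧ I = AnnT (d * c)}
      ⟨AnnT (1 * c), 1, by simpa using hne, rfl⟩
  let w := d * c
  haveI hpp : p.IsPrime := by
    refine ⟨fun htop => hd0 ?_, fun {s t} hst => or_iff_not_imp_right.2 fun ht => ?_⟩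
    · have h1 : (1 : T) ∈ AnnT w := by rw [← hp, htop]; trivial
      rw [hAnnT, one_smul] at h1
      exact h1
    · have ht' : t • w ≠ 0 := fun h1 => ht (by rw [hp]; exact (hAnnT _ _).2 h1)
      have hle : p ≤ AnnT ((t • d) * c) := fun v hv => by
        rw [hp, hAnnT] at hv
        rw [hAnnT, smul_mul_assoc, smul_comm, hv, smul_zero]
      have heq : p = AnnT ((t • d) * c) := hle.eq_of_not_lt
        (hmax _ ⟨t • d, by rwa [smul_mul_assoc], rfl⟩)
      rw [hp, hAnnT, mul_smul] at hst
      rw [heq, hAnnT, smul_mul_assoc]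
      exact hst
  -- localise
  let L := Localization.AtPrime p
  let κ := IsLocalRing.ResidueField L
  let loc : S →+* MonoidAlgebra L M := MonoidAlgebra.mapRingHom M (algebraMap T L)
  let red : MonoidAlgebra L M →+* MonoidAlgebra κ M :=
    MonoidAlgebra.mapRingHom M (IsLocalRing.residue L)
  haveI : IsNoetherianRing L := IsLocalization.isNoetherianRing p.primeCompl L inferInstance
  let soc : Submodule L L := (IsLocalRing.maximalIdeal L : Ideal L).annihilator
  letI : Module κ soc := Module.IsTorsionBySet.module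
    (I := IsLocalRing.maximalIdeal L) (fun v r => Subtype.ext (by
      have h1 := Submodule.mem_annihilator.1 v.2 r.1 r.2
      rw [smul_eq_mul] at h1
      change (r : L) * (v : L) = 0
      rw [mul_comm]; exact h1))
  haveI : IsScalarTower L κ soc := Module.IsTorsionBySet.isScalarTower _
  haveI : Module.Finite L soc := Module.Finite.iff_fg.2 (IsNoetherian.noetherian _)
  haveI : Module.Finite κ soc := Module.Finite.of_restrictScalars_finite L κ soc
  let b := Module.finBasis κ soc
  have hwsoc : ∀ m, (loc w).coeff m ∈ soc := fun m => by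
    rw [Submodule.mem_annihilator]
    intro r hr
    rw [← Localization.AtPrime.map_eq_maximalIdeal] at hr
    refine Submodule.span_induction (fun v hv => ?_) (smul_zero _)
      (fun v v' _ _ hv hv' => by rw [smul_add, hv, hv', add_zero])
      (fun e v _ hv => by rw [smul_comm, hv, smul_zero]) hr
    obtain ⟨t, ht, rfl⟩ := hv
    have h1 : t • w = 0 := (hAnnT _ _).1 (hp ▸ ht)
    have h2 : t * w.coeff m = 0 := by
      rw [Algebra.smul_def, MonoidAlgebra.coe_algebraMap] at h1
      have h3 := congrArg (fun z : S => z.coeff m) h1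
      exact (MonoidAlgebra.coeff_single_one_mul w t m).symm.trans h3
    change (MonoidAlgebra.mapRingHom M (algebraMap T L) w).coeff m * algebraMap T L t = 0
    rw [MonoidAlgebra.coeff_mapRingHom, ← map_mul, mul_comm, h2, map_zero]
  choose lift hlift using IsLocalRing.residue_surjective (R := L)
  let u : Fin (Module.finrank κ soc) → MonoidAlgebra L M := fun i =>
    ∑ m ∈ (loc w).coeff.support,
      MonoidAlgebra.single m (lift (b.repr ⟨_, hwsoc m⟩ i))
  -- pairing with the basis
  let comb : (Fin (Module.finrank κ soc) → MonoidAlgebra L M) → MonoidAlgebra L M := fun z =>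
    ∑ i, ((b i : soc) : L) • z i
  have hcomb : ∀ z, comb z = 0 → ∀ i, red (z i) = 0 := by
    intro z hz i
    refine MonoidAlgebra.ext (Finsupp.ext fun m => ?_)
    have h1 := congrArg (fun v : MonoidAlgebra L M => v.coeff m) hz
    simp only [comb, MonoidAlgebra.coeff_sum, Finsupp.finsetSum_apply, MonoidAlgebra.coeff_smul,
      Finsupp.smul_apply, MonoidAlgebra.coeff_zero, Finsupp.coe_zero, Pi.zero_apply] at h1
    have h2 : ∑ i, IsLocalRing.residue L ((z i).coeff m) • b i = 0 := by
      refine Subtype.ext ?_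
      rw [Submodule.coe_sum, Submodule.coe_zero, ← h1]
      refine Finset.sum_congr rfl fun j _ => ?_
      rw [show IsLocalRing.residue L ((z j).coeff m) • b j = (z j).coeff m • b j from
        algebraMap_smul κ ((z j).coeff m) (b j), Submodule.coe_smul, smul_eq_mul, smul_eq_mul,
        mul_comm]
    simp only [red, MonoidAlgebra.coeff_mapRingHom,
      MonoidAlgebra.coeff_zero, Finsupp.coe_zero, Pi.zero_apply]
    exact Fintype.linearIndependent_iff.1 b.linearIndependent _ h2 i
  have hu : comb u = loc w := by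
    conv_rhs => rw [← MonoidAlgebra.sum_coeff_single (loc w), Finsupp.sum]
    simp only [comb, u, Finset.smul_sum, MonoidAlgebra.smul_single']
    rw [Finset.sum_comm]
    refine Finset.sum_congr rfl fun m _ => ?_
    refine Eq.trans (map_sum (MonoidAlgebra.singleAddHom m) _ _).symm ?_
    change MonoidAlgebra.single m _ = MonoidAlgebra.single m _
    congr 1
    have h1 := congrArg (Subtype.val) (b.sum_repr ⟨_, hwsoc m⟩)
    rw [Submodule.coe_sum] at h1
    refine Eq.trans (Finset.sum_congr rfl fun j _ => ?_) h1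
    rw [← hlift (b.repr ⟨_, hwsoc m⟩ j),
      show IsLocalRing.residue L (lift (b.repr ⟨_, hwsoc m⟩ j)) • b j =
        lift (b.repr ⟨_, hwsoc m⟩ j) • b j from algebraMap_smul κ _ (b j),
      Submodule.coe_smul, smul_eq_mul, mul_comm, hlift]
  have hvan : ∀ i, Vanishes (red (loc a)) (red (u i)) := by
    intro i n hn
    obtain ⟨k, hk⟩ := (h.mul (d * a ^ N)).mapRing (algebraMap T L) n hn
    refine ⟨k, fun P _ g hg => ?_⟩
    have h1 := hk P g hg
    rw [show MonoidAlgebra.mapRingHom M (algebraMap T L) (d * a ^ N * x) = loc w by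
      simp only [w, c, loc, mul_assoc]] at h1
    let u' : Fin (Module.finrank κ soc) → MonoidAlgebra L P := fun j =>
      MonoidAlgebra.mapDomainRingHom L g (loc a ^ k * u j)
    have h2 : ∑ j, ((b j : soc) : L) • u' j = 0 := by
      rw [← h1, ← hu, Finset.mul_sum, map_sum]
      refine Finset.sum_congr rfl fun j _ => ?_
      rw [mul_smul_comm, Algebra.smul_def, Algebra.smul_def, map_mul]
      congr 1
      simp
    refine MonoidAlgebra.ext (Finsupp.ext fun m => ?_)
    have h3 := congrArg (fun v : MonoidAlgebra L P => v.coeff m) h2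
    simp only [MonoidAlgebra.coeff_sum, Finsupp.finsetSum_apply, MonoidAlgebra.coeff_smul,
      Finsupp.smul_apply, MonoidAlgebra.coeff_zero, Finsupp.coe_zero, Pi.zero_apply] at h3
    have h4 : ∑ j, IsLocalRing.residue L ((u' j).coeff m) • b j = 0 := by
      refine Subtype.ext ?_
      rw [Submodule.coe_sum, Submodule.coe_zero, ← h3]
      refine Finset.sum_congr rfl fun j _ => ?_
      rw [show IsLocalRing.residue L ((u' j).coeff m) • b j = (u' j).coeff m • b j from
        algebraMap_smul κ ((u' j).coeff m) (b j), Submodule.coe_smul, smul_eq_mul, smul_eq_mul,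
        mul_comm]
    have h5 := Fintype.linearIndependent_iff.1 b.linearIndependent _ h4 i
    rw [← map_pow, ← map_mul]
    simp only [red, MonoidAlgebra.coeff_zero, Finsupp.coe_zero, Pi.zero_apply]
    rw [← RingHom.comp_apply, ← MonoidAlgebra.mapRingHom_comp_mapDomainRingHom, RingHom.comp_apply,
      MonoidAlgebra.coeff_mapRingHom]
    exact h5
  choose Ni hNi using fun i => dense_field _ _ (hvan i)
  let J := ∑ i, Ni i
  have hzero : loc a ^ J * loc w = 0 := by
    rw [← hu, Finset.mul_sum]
    refine Finset.sum_eq_zero fun i _ => ?_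
    rw [mul_smul_comm]
    refine MonoidAlgebra.ext (Finsupp.ext fun m => ?_)
    have h1 : red (loc a ^ J * u i) = 0 := by
      rw [show J = Ni i + (J - Ni i) from (Nat.add_sub_cancel'
        (Finset.single_le_sum (f := Ni) (by simp) (Finset.mem_univ i))).symm, map_mul, map_pow,
        pow_add, mul_right_comm, hNi, zero_mul]
    have h2 := congrArg (fun v : MonoidAlgebra κ M => v.coeff m) h1
    simp only [red, MonoidAlgebra.coeff_mapRingHom,
      MonoidAlgebra.coeff_zero, Finsupp.coe_zero, Pi.zero_apply] at h2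
    simp only [MonoidAlgebra.coeff_smul, Finsupp.smul_apply, MonoidAlgebra.coeff_zero,
      Finsupp.coe_zero, Pi.zero_apply, smul_eq_mul]
    have h3 := Submodule.mem_annihilator.1 (b i).2 _ ((IsLocalRing.residue_eq_zero_iff _).1 h2)
    rwa [smul_eq_mul] at h3
  rw [← map_pow, ← map_mul] at hzero
  have hcoef : ∀ m, ∃ s : p.primeCompl, (s : T) * (a ^ J * w).coeff m = 0 := fun m => by
    have h1 := congrArg (fun v : MonoidAlgebra L M => v.coeff m) hzero
    simp only [loc, MonoidAlgebra.coeff_mapRingHom,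
      MonoidAlgebra.coeff_zero, Finsupp.coe_zero, Pi.zero_apply] at h1
    exact (IsLocalization.map_eq_zero_iff p.primeCompl L _).1 h1
  choose s hs using hcoef
  let t : T := ∏ m ∈ (a ^ J * w).coeff.support, (s m : T)
  have ht : t ∉ p := fun h1 => by
    obtain ⟨m, _, hm⟩ := hpp.prod_mem_iff.1 h1
    exact (s m).2 hm
  have h6 : a ^ J * (t • w) = 0 := by
    rw [mul_smul_comm]
    refine MonoidAlgebra.ext (Finsupp.ext fun m => ?_)
    simp only [MonoidAlgebra.coeff_smul, Finsupp.smul_apply, smul_eq_mul, MonoidAlgebra.coeff_zero,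
      Finsupp.coe_zero, Pi.zero_apply]
    by_cases hm : m ∈ (a ^ J * w).coeff.support
    · obtain ⟨v, hv⟩ := Finset.dvd_prod_of_mem (fun m => (s m : T)) hm
      rw [show t = _ from hv, mul_right_comm, hs, zero_mul]
    · rw [Finsupp.notMem_support_iff.1 hm, mul_zero]
  refine ht ?_
  rw [hp, hAnnT]
  change t • (d * c) = 0
  rw [← smul_mul_assoc] at h6 ⊢
  exact hsat _ _ h6

/-- Torsion is schematically dense in diagonalisable groups over any ring. -/
theorem dense {T : Type u} [CommRing T] {M : Type u} [CommGroup M] [Group.FG M]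
    (a x : MonoidAlgebra T M) (h : Vanishes a x) : ∃ N, a ^ N * x = 0 := by
  classical
  let T₀ : Subalgebra ℤ T :=
    Algebra.adjoin ℤ ((a.coeff.support.image a.coeff ∪ x.coeff.support.image x.coeff : Finset T) : Set T)
  haveI : Algebra.FiniteType ℤ T₀ := (Subalgebra.fg_iff_finiteType T₀).1 ⟨_, rfl⟩
  haveI : IsNoetherianRing T₀ := Algebra.FiniteType.isNoetherianRing ℤ T₀
  let φ : T₀ →+* T := T₀.val.toRingHom
  have hinj : Function.Injective (MonoidAlgebra.mapRingHom M φ) := fun p q hpq => by
    refine MonoidAlgebra.ext (Finsupp.ext fun m => Subtype.ext ?_)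
    have := congrArg (fun v : MonoidAlgebra T M => v.coeff m) hpq
    simpa [φ] using this
  have hlift : ∀ z : MonoidAlgebra T M, (∀ m, z.coeff m ∈ T₀) →
      ∃ z₀, MonoidAlgebra.mapRingHom M φ z₀ = z := fun z hz => by
    refine ⟨∑ m ∈ z.coeff.support, MonoidAlgebra.single m ⟨_, hz m⟩, ?_⟩
    rw [map_sum]
    simp only [MonoidAlgebra.mapRingHom_single]
    exact MonoidAlgebra.sum_coeff_single z
  obtain ⟨a₀, ha⟩ := hlift a fun m => by
    by_cases hm : m ∈ a.coeff.support
    · exact Algebra.subset_adjoin (Finset.mem_union_left _ (Finset.mem_image_of_mem _ hm))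
    · rw [Finsupp.notMem_support_iff.1 hm]; exact zero_mem _
  obtain ⟨x₀, hx⟩ := hlift x fun m => by
    by_cases hm : m ∈ x.coeff.support
    · exact Algebra.subset_adjoin (Finset.mem_union_right _ (Finset.mem_image_of_mem _ hm))
    · rw [Finsupp.notMem_support_iff.1 hm]; exact zero_mem _
  obtain ⟨N, hN⟩ := dense_noetherian a₀ x₀ fun n hn => by
    obtain ⟨k, hk⟩ := h n hn
    refine ⟨k, fun P _ g hg => ?_⟩
    have h1 := hk P g hg
    rw [← ha, ← hx, ← map_pow, ← map_mul, ← RingHom.comp_apply,
      ← MonoidAlgebra.mapRingHom_comp_mapDomainRingHom, RingHom.comp_apply] at h1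
    refine MonoidAlgebra.ext (Finsupp.ext fun m => Subtype.ext ?_)
    have := congrArg (fun v : MonoidAlgebra T P => v.coeff m) h1
    simpa [φ] using this
  exact ⟨N, by rw [← ha, ← hx, ← map_pow, ← map_mul, hN, map_zero]⟩

/-- **Torsion is schematically dense in groups of multiplicative type.** -/
theorem iInf_torsionIdeal_map {R A : Type u} [CommRing R] [CommRing A] [HopfAlgebra R A]
    [Algebra.FiniteType R A] (hA : SGA3b.IsMultType R A) (a : A) :
    ⨅ n : {n : ℕ // 0 < n},
      Ideal.map (algebraMap A (Localization.Away a)) (SGA3b.torsionIdeal R A n.1) = ⊥ := by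
  classical
  rw [eq_bot_iff]
  intro z hz
  rw [Submodule.mem_iInf] at hz
  obtain ⟨c, ⟨_, j, rfl⟩, rfl⟩ := IsLocalization.exists_mk'_eq (Submonoid.powers a) z
  rw [Ideal.mem_bot, IsLocalization.mk'_eq_zero_iff]
  have hc : ∀ n, 0 < n → ∃ k, a ^ k * c ∈ SGA3b.torsionIdeal R A n := fun n hn => by
    obtain ⟨_, ⟨k, rfl⟩, hk⟩ := (IsLocalization.mk'_mem_map_algebraMap_iff (Submonoid.powers a)
      (Localization.Away a) _ _ _).1 (hz ⟨n, hn⟩)
    exact ⟨k, hk⟩
  obtain ⟨ι, _, S, _, _, hff, hd⟩ := Groth.L25.Char.exists_split_family hA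
  choose M hM he using hd
  have hloc : ∀ i, ∃ N, (1 : S i) ⊗ₜ[R] (a ^ N * c) = 0 := by
    intro i
    obtain ⟨e⟩ := he i
    letI := hM i
    rcases subsingleton_or_nontrivial (S i) with hsub | hnt
    · haveI : Subsingleton (S i ⊗[R] A) := subsingleton_of_zero_eq_one (by
        rw [Algebra.TensorProduct.one_def, Subsingleton.elim (1 : S i) 0, TensorProduct.zero_tmul])
      exact ⟨0, Subsingleton.elim _ _⟩
    haveI : Algebra.FiniteType (S i) (MonoidAlgebra (S i) (M i)) :=
      Algebra.FiniteType.equiv (A := S i ⊗[R] A) inferInstance e.toAlgEquiv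
    haveI : Group.FG (M i) :=
      MonoidAlgebra.finiteType_iff_group_fg.1 (inferInstance : Algebra.FiniteType (S i) _)
    obtain ⟨N, hN⟩ := dense (e ((1 : S i) ⊗ₜ a)) (e ((1 : S i) ⊗ₜ c)) fun n hn => by
      obtain ⟨k, hk⟩ := hc n hn
      refine ⟨k, fun P _ g hg => ?_⟩
      rw [← map_pow, ← map_mul, Algebra.TensorProduct.tmul_pow, one_pow,
        Algebra.TensorProduct.tmul_mul_tmul, one_mul]
      exact Groth.L25.Char.CompletionHom.mapDomain_torsion e g hg hk
    refine ⟨N, e.injective ?_⟩
    rw [map_zero, ← hN, ← map_pow, ← map_mul, Algebra.TensorProduct.tmul_pow, one_pow,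
      Algebra.TensorProduct.tmul_mul_tmul, one_mul]
    rfl
  choose N hN using hloc
  haveI := hff
  haveI := Fintype.ofFinite ι
  refine ⟨⟨a ^ ∑ i, N i, _, rfl⟩, ?_⟩
  refine Module.FaithfullyFlat.tensorProduct_mk_injective (A := R) (B := ∀ i, S i) A
    (Groth.L25.Char.pi_ext fun i => ?_)
  have h1 : (1 : S i) ⊗ₜ[R] (a ^ (∑ i, N i) * c) = 0 := by
    rw [show (∑ i, N i) = (∑ i, N i) - N i + N i from (Nat.sub_add_cancel
      (Finset.single_le_sum (f := N) (by simp) (Finset.mem_univ i))).symm, pow_add, mul_assoc,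
      ← mul_one (1 : S i), ← Algebra.TensorProduct.tmul_mul_tmul, hN, mul_zero]
  simpa [Groth.L25.Char.mapT] using h1

end Groth.L25.MultType.Dense
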