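import Groth.Agent.L25.MultType.Dense
import Groth.Agent.L25.Char.TorsionPoints
import Mathlib.RingTheory.Jacobson.Ring
import Mathlib.FieldTheory.IsAlgClosed.Basic
import Mathlib.RingTheory.Nullstellensatz

/-!
# Torsion is schematically dense in groups with an open subgroup of multiplicative type
-/

set_option autoImplicit false

universe u

open TensorProduct WithConv

namespace Groth.L25.MultType.DenseOpen

open Groth.L25.Char

variable {R : Type u} [CommRing R] {C : Type u} [CommRing C] [HopfAlgebra R C]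
  [Coalgebra.IsCocomm R C] {A : Type u} [CommRing A] [HopfAlgebra R A]
  {k : Type u} [Field k] [IsAlgClosed k] [Algebra R k]

/-- Modulo the open subgroup every point is a torsion point. -/
theorem exists_torsion_mul [Algebra.FiniteType R C] (φ : C →ₐc[R] A)
    (hφ : Function.Surjective φ) (e : C) (he : IsIdempotentElem e)
    (hker : RingHom.ker (φ : C →ₐ[R] A) = Ideal.span {e})
    {T : Type u} [CommRing T] [Algebra R T] [Algebra T k] [IsScalarTower R T k]
    {M : Type u} [CommGroup M] [Group.FG M]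
    (d : T ⊗[R] A ≃ₐc[T] MonoidAlgebra T M)
    (x : WithConv (C →ₐ[R] k)) :
    ∃ (z : WithConv (C →ₐ[R] k)) (n : ℕ), 0 < n ∧ z ^ n = 1 ∧ (z⁻¹ * x).ofConv e = 0 := by
  classical
  haveI : Coalgebra.IsCocomm R A := by
    refine ⟨LinearMap.ext fun a => ?_⟩
    obtain ⟨c, rfl⟩ := hφ a
    rw [LinearMap.comp_apply, ← CoalgHomClass.map_comp_comul_apply φ c]
    conv_rhs => rw [← LinearMap.congr_fun (Coalgebra.IsCocomm.comm_comp_comul (R := R) (A := C)) c]
    change _ = TensorProduct.map _ _ (TensorProduct.comm R C C (Coalgebra.comul (R := R) c))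
    exact (TensorProduct.map_comm _ _ _).symm
  let G : Subgroup (WithConv (C →ₐ[R] k)) :=
    MonoidHom.range (G := WithConv (A →ₐ[R] k)) (N := WithConv (C →ₐ[R] k)) (ptsMap (k := k) φ)
  have hmem : ∀ z : WithConv (C →ₐ[R] k), z ∈ G ↔ z.ofConv e = 0 := by
    intro z
    refine ⟨?_, fun hz => ?_⟩
    · rintro ⟨g, rfl⟩
      have he0 : e ∈ RingHom.ker (φ : C →ₐ[R] A) := by rw [hker]; exact Ideal.subset_span rfl
      change g.ofConv (φ e) = 0
      rw [show φ e = 0 from he0, map_zero]
    · let q := Ideal.quotientKerAlgEquivOfSurjective (f := (φ : C →ₐ[R] A)) hφ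
      let zb : (C ⧸ RingHom.ker (φ : C →ₐ[R] A)) →ₐ[R] k :=
        Ideal.Quotient.liftₐ _ z.ofConv fun c hc => by
          rw [hker] at hc
          obtain ⟨b, rfl⟩ := Ideal.mem_span_singleton'.1 hc
          rw [map_mul, hz, mul_zero]
      refine ⟨toConv (zb.comp q.symm.toAlgHom), WithConv.ofConv_injective (AlgHom.ext fun c => ?_)⟩
      change zb (q.symm (φ c)) = z.ofConv c
      rw [show q.symm (φ c) = Ideal.Quotient.mk _ c from (AlgEquiv.symm_apply_eq q).2 rfl]
      rfl
  -- finitely many cosets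
  haveI : IsNoetherianRing (k ⊗[R] C) := Algebra.FiniteType.isNoetherianRing k (k ⊗[R] C)
  haveI := finite_idempotents (k ⊗[R] C)
  let tr : WithConv (C →ₐ[R] k) → (C →ₐ[R] k ⊗[R] C) := fun z =>
    (Algebra.TensorProduct.map (z⁻¹).ofConv (AlgHom.id R C)).comp (Bialgebra.comulAlgHom R C)
  have htr : ∀ z w : WithConv (C →ₐ[R] k), ∀ c,
      Algebra.TensorProduct.lift (AlgHom.id R k) w.ofConv (fun _ _ => Commute.all _ _) (tr z c) =
        (z⁻¹ * w).ofConv c := by
    intro z w c
    rw [show (z⁻¹ * w).ofConv c = (z⁻¹ * w) c from rfl, AlgHom.convMul_apply]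
    change Algebra.TensorProduct.lift (AlgHom.id R k) w.ofConv (fun _ _ => Commute.all _ _)
      (Algebra.TensorProduct.map (z⁻¹).ofConv (AlgHom.id R C) (Coalgebra.comul (R := R) c)) = _
    induction Coalgebra.comul (R := R) c using TensorProduct.induction_on with
    | zero => simp
    | add a b ha hb => simp only [map_add, ha, hb]
    | tmul a b => simp
  haveI : Finite (WithConv (C →ₐ[R] k) ⧸ G) := by
    refine Finite.of_injective (fun c : WithConv (C →ₐ[R] k) ⧸ G =>
      (⟨tr c.out (1 - e), he.one_sub.map (tr c.out)⟩ :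
        {z : k ⊗[R] C // IsIdempotentElem z})) fun c c' h => ?_
    have h1 := congrArg (Algebra.TensorProduct.lift (AlgHom.id R k) c'.out.ofConv
      (fun _ _ => Commute.all _ _)) (Subtype.ext_iff.1 h)
    rw [htr, htr, inv_mul_cancel, map_sub, map_one, map_sub, map_one] at h1
    have he1 : (1 : WithConv (C →ₐ[R] k)).ofConv e = 0 := (hmem 1).1 (one_mem G)
    rw [he1, sub_zero, sub_eq_self] at h1
    rw [← c.out_eq', ← c'.out_eq']
    exact QuotientGroup.eq.2 ((hmem _).2 h1)
  let N := Nat.card (WithConv (C →ₐ[R] k) ⧸ G)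
  have hN : 0 < N := Nat.card_pos
  have hxN : x ^ N ∈ G := by
    rw [← QuotientGroup.eq_one_iff, QuotientGroup.mk_pow]
    exact pow_card_eq_one'
  obtain ⟨g, hg⟩ := hxN
  -- points of `A` are characters
  let pt : (M →* kˣ) → WithConv (A →ₐ[R] k) := fun ψ =>
    toConv (((MonoidAlgebra.lift T k M ((Units.coeHom k).comp ψ)).restrictScalars R).comp
      (((d : T ⊗[R] A →ₐ[T] MonoidAlgebra T M).restrictScalars R).comp
        Algebra.TensorProduct.includeRight))
  have hpt : ∀ ψ ψ', pt (ψ * ψ') = pt ψ * pt ψ' := by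
    intro ψ ψ'
    refine WithConv.ofConv_injective (AlgHom.ext fun a => ?_)
    let F := MonoidAlgebra.lift T k M ((Units.coeHom k).comp ψ)
    let F' := MonoidAlgebra.lift T k M ((Units.coeHom k).comp ψ')
    have hmul : ∀ z, Algebra.TensorProduct.lift F F' (fun _ _ => Commute.all _ _)
        (Coalgebra.comul (R := T) z) =
        MonoidAlgebra.lift T k M ((Units.coeHom k).comp (ψ * ψ')) z := by
      intro z
      induction z using MonoidAlgebra.induction_linear with
      | zero => simp
      | add p q hp hq => simp only [map_add, hp, hq]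
      | single m r =>
        rw [show MonoidAlgebra.single m r = r • MonoidAlgebra.single m (1 : T) by simp, map_smul,
          map_smul, map_smul, (MonoidAlgebra.isGroupLikeElem_single_one m).comul_eq_tmul_self]
        simp [F, F']
    change MonoidAlgebra.lift T k M ((Units.coeHom k).comp (ψ * ψ')) (d ((1 : T) ⊗ₜ a)) =
      (pt ψ * pt ψ') a
    rw [← hmul, AlgHom.convMul_apply, ← CoalgHomClass.map_comp_comul_apply d ((1 : T) ⊗ₜ[R] a),
      TensorProduct.comul_tmul, CommSemiring.comul_apply]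
    induction Coalgebra.comul (R := R) a using TensorProduct.induction_on with
    | zero => simp
    | add p q hp hq => simp only [TensorProduct.tmul_add, map_add, hp, hq]
    | tmul p q =>
      rw [AlgebraTensorModule.tensorTensorTensorComm_tmul]
      simp only [Algebra.TensorProduct.lift_tmul]
      rfl
  let Pt : (M →* kˣ) →* WithConv (A →ₐ[R] k) := MonoidHom.mk' pt hpt
  have hsurj : ∀ g : WithConv (A →ₐ[R] k), ∃ ψ, Pt ψ = g := by
    intro g
    let L : T ⊗[R] A →ₐ[T] k :=
      Algebra.TensorProduct.lift (Algebra.ofId T k) g.ofConv fun _ _ => Commute.all _ _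
    let L' : MonoidAlgebra T M →ₐ[T] k :=
      L.comp ((d.symm : MonoidAlgebra T M →ₐ[T] T ⊗[R] A))
    let ψ : M →* kˣ := ((L' : MonoidAlgebra T M →* k).comp (MonoidAlgebra.of T M)).toHomUnits
    refine ⟨ψ, WithConv.ofConv_injective (AlgHom.ext fun a => ?_)⟩
    have hψ : MonoidAlgebra.lift T k M ((Units.coeHom k).comp ψ) = L' := by
      ext m
      simp [ψ]
    change MonoidAlgebra.lift T k M ((Units.coeHom k).comp ψ) (d ((1 : T) ⊗ₜ a)) = g.ofConv a
    rw [hψ]
    change L (d.symm (d ((1 : T) ⊗ₜ a))) = _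
    rw [BialgEquiv.symm_apply_apply]
    simp [L]
  obtain ⟨ψ, rfl⟩ := hsurj g
  obtain ⟨m, hm, hmtors⟩ := exists_torsion_exponent M
  have hn : 0 < N * m := Nat.mul_pos hN hm
  obtain ⟨y, hy⟩ := exists_pow_eq (ψ ^ m) hn fun a ha => by
    rw [MonoidHom.pow_apply, ← map_pow, hmtors a _ hn ha, map_one]
  have hy' : y ^ (N * m) = ψ ^ m := MonoidHom.ext fun a => hy a
  let t : WithConv (C →ₐ[R] k) := ptsMap φ (Pt y)
  have hpow : t ^ (N * m) = x ^ (N * m) := by
    change ptsMap φ (Pt y) ^ (N * m) = _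
    refine ((map_pow (ptsMap φ) (Pt y) (N * m)).symm.trans
      (congrArg (ptsMap φ) ((map_pow Pt y (N * m)).symm.trans (congrArg Pt hy')))).trans ?_
    refine ((congrArg (ptsMap φ) (map_pow Pt ψ m)).trans (map_pow (ptsMap φ) (Pt ψ) m)).trans ?_
    rw [hg]
    exact (pow_mul x N m).symm
  refine ⟨x * t⁻¹, N * m, hn, by rw [mul_pow, inv_pow, hpow, mul_inv_cancel], ?_⟩
  rw [show (x * t⁻¹)⁻¹ * x = t by rw [mul_inv_rev, inv_inv, mul_assoc, inv_mul_cancel, mul_one]]
  exact (hmem t).1 ⟨_, rfl⟩

/-- Over an algebraically closed field a group of multiplicative type is diagonalisable. -/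
theorem exists_split_algClosed {k : Type u} [Field k] {A : Type u} [CommRing A] [HopfAlgebra k A]
    [Algebra.FiniteType k A] (hA : SGA3b.IsMultType k A) (K : Type u) [Field K] [IsAlgClosed K]
    [Algebra k K] :
    ∃ (M : Type u) (_ : CommGroup M), Group.FG M ∧
      Nonempty (K ⊗[k] A ≃ₐc[K] MonoidAlgebra K M) := by
  obtain ⟨T, _, _, _, hfin, hff, M, _, ⟨e⟩⟩ := isIsotrivial_of_field hA
  haveI := hff
  haveI := hfin
  haveI : Nontrivial T := (FaithfulSMul.algebraMap_injective k T).nontrivial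
  obtain ⟨Q, hQ⟩ := Ideal.exists_maximal T
  letI : Field (T ⧸ Q) := Ideal.Quotient.field Q
  let g : T →ₐ[k] K := (IsAlgClosed.lift : (T ⧸ Q) →ₐ[k] K).comp (Ideal.Quotient.mkₐ k Q)
  letI : Algebra T K := g.toRingHom.toAlgebra
  haveI : IsScalarTower k T K := IsScalarTower.of_algebraMap_eq fun r => (g.commutes r).symm
  let eK := (splitEquiv e K).symm
  haveI : Algebra.FiniteType K (MonoidAlgebra K M) :=
    Algebra.FiniteType.equiv (A := K ⊗[k] A) inferInstance eK.toAlgEquiv
  exact ⟨M, inferInstance,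
    MonoidAlgebra.finiteType_iff_group_fg.1 (inferInstance : Algebra.FiniteType K _), ⟨eK⟩⟩

section field

variable {F : Type u} [Field F] {C : Type u} [CommRing C] [HopfAlgebra F C]
  {K : Type u} [CommRing K] [Algebra F K]

variable (K) in
/-- Scalars with values in a point. -/
noncomputable def cst (z : WithConv (C →ₐ[F] K)) : WithConv (C →ₐ[F] K ⊗[F] C) :=
  toConv ((Algebra.TensorProduct.includeLeft : K →ₐ[F] K ⊗[F] C).comp z.ofConv)

variable (K) in
/-- Translation by a point. -/
noncomputable def tra (z : WithConv (C →ₐ[F] K)) : WithConv (C →ₐ[F] K ⊗[F] C) :=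
  cst K z * toConv (Algebra.TensorProduct.includeRight : C →ₐ[F] K ⊗[F] C)

/-- Translation, extended to scalars. -/
noncomputable def traK (z : WithConv (C →ₐ[F] K)) : K ⊗[F] C →ₐ[K] K ⊗[F] C :=
  Algebra.TensorProduct.lift (Algebra.ofId K _) (tra K z).ofConv fun _ _ => Commute.all _ _

theorem comp_mul {X Y : Type u} [CommRing X] [Algebra F X] [CommRing Y] [Algebra F Y]
    (h : X →ₐ[F] Y) (f g : WithConv (C →ₐ[F] X)) :
    toConv (h.comp (f * g).ofConv) = toConv (h.comp f.ofConv) * toConv (h.comp g.ofConv) :=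
  congrArg toConv (AlgHom.comp_convMul_distrib h f g)

theorem cst_mul (z z' : WithConv (C →ₐ[F] K)) : cst K (z * z') = cst K z * cst K z' :=
  comp_mul _ z z'

theorem cst_one : cst K (1 : WithConv (C →ₐ[F] K)) = 1 :=
  WithConv.ofConv_injective (AlgHom.ext fun c => by simp [cst, AlgHom.convOne_apply])

theorem tra_one : tra K (1 : WithConv (C →ₐ[F] K)) = toConv Algebra.TensorProduct.includeRight := by
  rw [tra, cst_one, one_mul]

theorem traK_comp (z z' : WithConv (C →ₐ[F] K)) :
    toConv (((traK z').restrictScalars F).comp (tra K z).ofConv) = tra K (z * z') := by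
  rw [tra, comp_mul]
  have h1 : toConv (((traK z').restrictScalars F).comp (cst K z).ofConv) = cst K z :=
    WithConv.ofConv_injective (AlgHom.ext fun c => by simp [traK, cst])
  have h2 : toConv (((traK z').restrictScalars F).comp
      (toConv (Algebra.TensorProduct.includeRight : C →ₐ[F] K ⊗[F] C)).ofConv) = tra K z' :=
    WithConv.ofConv_injective (AlgHom.ext fun c => by simp [traK])
  rw [h1, h2, tra, tra, cst_mul, mul_assoc]

theorem traK_traK (z z' : WithConv (C →ₐ[F] K)) (h : z * z' = 1) (w : K ⊗[F] C) :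
    traK z' (traK z w) = w := by
  have h1 : (traK z').comp (traK z) = AlgHom.id K (K ⊗[F] C) :=
    Algebra.TensorProduct.ext (Subsingleton.elim _ _) (AlgHom.ext fun c => by
      have h2 := congrArg (fun f : WithConv (C →ₐ[F] K ⊗[F] C) => f.ofConv c)
        ((traK_comp z z').trans (by rw [h, tra_one]))
      simpa [traK, ← Algebra.TensorProduct.one_def] using h2)
  exact DFunLike.congr_fun h1 w

theorem eval_tra (z y : WithConv (C →ₐ[F] K)) :
    toConv (((Algebra.TensorProduct.lift (Algebra.ofId K K) y.ofConv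
      (fun _ _ => Commute.all _ _)).restrictScalars F).comp (tra K z).ofConv) = z * y := by
  rw [tra, comp_mul]
  congr 1 <;> exact WithConv.ofConv_injective (AlgHom.ext fun c => by simp [cst])

end field

/-- **Torsion is schematically dense** in a commutative group over a field with an open subgroup of
multiplicative type. -/
theorem iInf_torsionIdeal_map {k : Type u} [Field k] {C : Type u} [CommRing C] [HopfAlgebra k C]
    [Coalgebra.IsCocomm k C] [Algebra.FiniteType k C] (e : C) (he : IsIdempotentElem e)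
    [(Ideal.span {e}).IsHopfIdeal k] (hG : SGA3b.IsMultType k (C ⧸ Ideal.span {e})) (a : C) :
    ⨅ n : {n : ℕ // 0 < n},
      Ideal.map (algebraMap C (Localization.Away a)) (SGA3b.torsionIdeal k C n.1) = ⊥ := by
  classical
  rw [eq_bot_iff]
  intro x hx
  rw [Submodule.mem_iInf] at hx
  obtain ⟨c, ⟨_, j, rfl⟩, rfl⟩ := IsLocalization.exists_mk'_eq (Submonoid.powers a) x
  rw [Ideal.mem_bot, IsLocalization.mk'_eq_zero_iff]
  have hc : ∀ n, 0 < n → ∃ i, a ^ i * c ∈ SGA3b.torsionIdeal k C n := fun n hn => by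
    obtain ⟨_, ⟨i, rfl⟩, hi⟩ := (IsLocalization.mk'_mem_map_algebraMap_iff (Submonoid.powers a)
      (Localization.Away a) _ _ _).1 (hx ⟨n, hn⟩)
    exact ⟨i, hi⟩
  let G := C ⧸ Ideal.span ({e} : Set C)
  let K := AlgebraicClosure k
  let φ : C →ₐc[k] G := Bialgebra.Quotient.mkBialgHom (R := k) (Ideal.span {e})
  have hφ : Function.Surjective φ := Ideal.Quotient.mk_surjective
  have hker : RingHom.ker (φ : C →ₐ[k] G) = Ideal.span {e} := Ideal.Quotient.mkₐ_ker k _
  obtain ⟨M, _, _, ⟨d⟩⟩ := exists_split_algClosed hG K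
  let Θ : K ⊗[k] C →ₐ[K] MonoidAlgebra K M := (d : K ⊗[k] G →ₐ[K] MonoidAlgebra K M).comp
    (Algebra.TensorProduct.map (AlgHom.id K K) (φ : C →ₐ[k] G))
  have hΘ : ∀ v, Θ v = 0 → v * (1 - (1 : K) ⊗ₜ e) = 0 := fun v hv => by
    have h1 : Algebra.TensorProduct.map (AlgHom.id K K) (φ : C →ₐ[k] G) v = 0 :=
      d.injective (hv.trans (map_zero d).symm)
    have h2 : v ∈ (RingHom.ker (φ : C →ₐ[k] G)).map
        (Algebra.TensorProduct.includeRight : C →ₐ[k] K ⊗[k] C) := by
      rw [← Algebra.TensorProduct.lTensor_ker (A := K) (φ : C →ₐ[k] G) hφ]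
      exact h1
    rw [hker, Ideal.map_span, Set.image_singleton] at h2
    obtain ⟨b, rfl⟩ := Ideal.mem_span_singleton'.1 h2
    rw [mul_assoc, mul_sub, mul_one, Algebra.TensorProduct.includeRight_apply,
      Algebra.TensorProduct.tmul_mul_tmul, one_mul, he.eq, sub_self, mul_zero]
  -- charts at torsion points
  let Tors := {z : WithConv (C →ₐ[k] K) // ∃ n : ℕ, 0 < n ∧ z ^ n = 1}
  have hchart : ∀ z : Tors, ∃ N, Θ (traK z.1 ((1 : K) ⊗ₜ (a ^ N * c))) = 0 := by
    rintro ⟨z, n₀, hn₀, hz⟩
    let ξ : C →ₐ[k] MonoidAlgebra K M := (Θ.restrictScalars k).comp (tra K z).ofConv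
    have hξ : ∀ b, Θ (traK z ((1 : K) ⊗ₜ b)) = ξ b := fun b => by simp [ξ, traK, ← Algebra.TensorProduct.one_def]
    obtain ⟨N, hN⟩ := Dense.dense (ξ a) (ξ c) fun n hn => by
      obtain ⟨i, hi⟩ := hc (n₀ * n) (Nat.mul_pos hn₀ hn)
      refine ⟨i, fun P _ g hg => ?_⟩
      rw [← map_pow, ← map_mul]
      let h : K ⊗[k] C →ₐ[k] MonoidAlgebra K P :=
        ((MonoidAlgebra.mapDomainAlgHom K K g).comp Θ).restrictScalars k
      let W : WithConv (C →ₐ[k] MonoidAlgebra K P) :=
        toConv (h.comp (Algebra.TensorProduct.includeRight : C →ₐ[k] K ⊗[k] C))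
      let Z : WithConv (C →ₐ[k] MonoidAlgebra K P) :=
        toConv ((Algebra.ofId K (MonoidAlgebra K P) |>.restrictScalars k).comp z.ofConv)
      have hX : toConv (h.comp (tra K z).ofConv) = Z * W := by
        rw [tra, comp_mul]
        refine congrArg (· * W) (WithConv.ofConv_injective (AlgHom.ext fun b => ?_))
        change h ((Algebra.TensorProduct.includeLeft : K →ₐ[k] K ⊗[k] C) (z.ofConv b)) =
          algebraMap K (MonoidAlgebra K P) (z.ofConv b)
        exact ((MonoidAlgebra.mapDomainAlgHom K K g).comp Θ).commutes _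
      have hZ : Z ^ (n₀ * n) = 1 := by
        let f : WithConv (C →ₐ[k] K) →* WithConv (C →ₐ[k] MonoidAlgebra K P) :=
          { toFun := fun y => toConv
              ((Algebra.ofId K (MonoidAlgebra K P) |>.restrictScalars k).comp y.ofConv)
            map_one' := WithConv.ofConv_injective (AlgHom.ext fun b => by
              simp [AlgHom.convOne_apply])
            map_mul' := fun y y' => comp_mul _ y y' }
        change f z ^ (n₀ * n) = 1
        rw [← map_pow, pow_mul, hz, one_pow, map_one]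
      have hW : W ^ (n₀ * n) = 1 := by
        refine WithConv.ofConv_injective (AlgHom.ext fun b => ?_)
        rw [← Groth.L25.Char.comp_powConv, AlgHom.convOne_apply]
        have h1 := Groth.L25.MultType.torsionIdeal_le_iff.1
          (le_refl (SGA3b.torsionIdeal k C (n₀ * n))) b
        have h2 : φ (SGA3b.powConv k C (n₀ * n) b - algebraMap k C (Coalgebra.counit b)) ∈
            SGA3b.torsionIdeal k G (n₀ * n) := by
          rw [map_sub, Groth.L25.MultType.map_powConv, AlgHomClass.commutes,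
            ← CoalgHomClass.counit_comp_apply φ b]
          exact Groth.L25.MultType.torsionIdeal_le_iff.1 le_rfl _
        have h3 := CompletionHom.mapDomain_torsion d g
          (n := n₀ * n) (fun m => by rw [pow_mul]; exact hg _) h2
        have h4 : W.ofConv (SGA3b.powConv k C (n₀ * n) b -
            algebraMap k C (Coalgebra.counit b)) = 0 := h3
        rw [map_sub, AlgHom.commutes, sub_eq_zero] at h4
        exact h4
      have hXn : toConv (h.comp (tra K z).ofConv) ^ (n₀ * n) = 1 := by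
        rw [hX, mul_pow, hZ, hW, one_mul]
      have hle : SGA3b.torsionIdeal k C (n₀ * n) ≤
          RingHom.ker (toConv (h.comp (tra K z).ofConv)).ofConv :=
        Groth.L25.MultType.torsionIdeal_le_iff.2 fun b => by
          rw [RingHom.mem_ker, map_sub, AlgHom.commutes, Groth.L25.Char.comp_powConv, hXn,
            AlgHom.convOne_apply, sub_self]
      exact hle hi
    refine ⟨N, ?_⟩
    rw [hξ, map_mul, map_pow]
    exact hN
  choose N hN using hchart
  let f : Tors → K ⊗[k] C := fun z => traK (z.1)⁻¹ ((1 : K) ⊗ₜ e)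
  have hfw : ∀ (z : Tors) (w : K ⊗[k] C), Θ (traK z.1 w) = 0 → w * (1 - f z) = 0 := fun z w hw => by
    have h1 := congrArg (traK (z.1)⁻¹) (hΘ _ hw)
    rwa [map_zero, map_mul, map_sub, map_one, traK_traK _ _ (mul_inv_cancel _)] at h1
  have htop : Ideal.span (Set.range fun z : Tors => 1 - f z) = ⊤ := by
    by_contra hne
    obtain ⟨Q, hQ, hle⟩ := Ideal.exists_le_maximal _ hne
    letI : Field ((K ⊗[k] C) ⧸ Q) := Ideal.Quotient.field Q
    haveI : Module.Finite K ((K ⊗[k] C) ⧸ Q) := finite_of_finite_type_of_isJacobsonRing K _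
    let ψ : (K ⊗[k] C) →ₐ[K] K :=
      (IsAlgClosed.lift : ((K ⊗[k] C) ⧸ Q) →ₐ[K] K).comp (Ideal.Quotient.mkₐ K Q)
    let y : WithConv (C →ₐ[k] K) :=
      toConv ((ψ.restrictScalars k).comp Algebra.TensorProduct.includeRight)
    obtain ⟨z, n, hn, hzn, hze⟩ := exists_torsion_mul φ hφ e he hker (T := K) d y
    let z' : Tors := ⟨z, n, hn, hzn⟩
    have h1 : ψ (1 - f z') = 0 := by
      change IsAlgClosed.lift (Ideal.Quotient.mk Q (1 - f z')) = _
      rw [Ideal.Quotient.eq_zero_iff_mem.2 (hle (Ideal.subset_span ⟨z', rfl⟩)), map_zero]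
    have h2 : ψ (f z') = (z⁻¹ * y).ofConv e := by
      have h3 : Algebra.TensorProduct.lift (Algebra.ofId K K) y.ofConv
          (fun _ _ => Commute.all _ _) = ψ := Algebra.TensorProduct.ext
        (Subsingleton.elim _ _)
        (AlgHom.ext fun b => by simp [y])
      have h4 := congrArg (fun g : WithConv (C →ₐ[k] K) => g.ofConv e) (eval_tra z⁻¹ y)
      rw [h3] at h4
      refine Eq.trans ?_ h4
      simp [f, z', traK, ← Algebra.TensorProduct.one_def]
    rw [map_sub, map_one, h2, hze, sub_zero] at h1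
    exact one_ne_zero h1
  obtain ⟨s, hs, h1⟩ := Submodule.mem_span_finite_of_mem_span
    (show (1 : K ⊗[k] C) ∈ Submodule.span _ (Set.range fun z : Tors => 1 - f z) by
      rw [← Ideal.span, htop]; trivial)
  choose g hg using fun v (hv : v ∈ s) => hs hv
  let S : Finset Tors := s.attach.image fun v => g v.1 v.2
  refine ⟨⟨a ^ (∑ z ∈ S, N z), _, rfl⟩, ?_⟩
  refine Module.FaithfullyFlat.tensorProduct_mk_injective (A := k) (B := K) C ?_
  change (1 : K) ⊗ₜ[k] (a ^ (∑ z ∈ S, N z) * c) = (1 : K) ⊗ₜ[k] (0 : C)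
  rw [TensorProduct.tmul_zero, ← mul_one ((1 : K) ⊗ₜ[k] (a ^ (∑ z ∈ S, N z) * c))]
  refine Submodule.span_induction (p := fun v _ => ((1 : K) ⊗ₜ[k] _) * v = 0) (fun v hv => ?_)
    (mul_zero _) (fun _ _ _ _ h h' => by rw [mul_add, h, h', add_zero])
    (fun r _ _ h => by rw [smul_eq_mul, mul_left_comm, h, mul_zero]) h1
  rw [← hg v hv]
  refine hfw _ _ ?_
  have hz : g v hv ∈ S := Finset.mem_image_of_mem (fun v => g v.1 v.2) (Finset.mem_attach s ⟨v, hv⟩)
  rw [show (∑ z ∈ S, N z) = (∑ z ∈ S, N z) - N (g v hv) + N (g v hv) from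
    (Nat.sub_add_cancel (Finset.single_le_sum (f := N) (by simp) hz)).symm, pow_add, mul_assoc,
    ← mul_one (1 : K), ← Algebra.TensorProduct.tmul_mul_tmul, map_mul, map_mul, hN, mul_zero]

end Groth.L25.MultType.DenseOpen
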