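import Groth.Agent.L25.MultType.Idem
import Groth.Agent.L25.MultType.Cover
import Mathlib.LinearAlgebra.TensorProduct.Quotient

/-!
# Rigidity of homomorphisms from groups of multiplicative type
-/

set_option autoImplicit false

universe u

open TensorProduct WithConv

namespace Groth.L25.MultType

variable {R : Type u} [CommRing R] {A : Type u} [CommRing A] [HopfAlgebra R A]
  {C : Type u} [CommRing C] [HopfAlgebra R C]

theorem mem_smul_top_of_one_tmul_eq_zero {I : Ideal R} {x : A}
    (h : (1 : R ⧸ I) ⊗ₜ[R] x = 0) : x ∈ I • (⊤ : Submodule R A) := by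
  have := congrArg (TensorProduct.quotTensorEquivQuotSMul A I) h
  rwa [map_zero, TensorProduct.quotTensorEquivQuotSMul_mk_one_tmul,
    Submodule.Quotient.mk_eq_zero] at this

/-- The base change of a homomorphism, in the coordinates of a splitting. -/
noncomputable def splitHom {R' : Type u} [CommRing R'] [Algebra R R'] {M : Type u} [CommGroup M]
    (e : R' ⊗[R] A ≃ₐc[R'] MonoidAlgebra R' M) (φ : C →ₐc[R] A) :
    R' ⊗[R] C →ₐc[R'] MonoidAlgebra R' M :=
  (e : R' ⊗[R] A →ₐc[R'] MonoidAlgebra R' M).comp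
    (Bialgebra.TensorProduct.map (BialgHom.id R' R') φ)

theorem splitHom_tmul {R' : Type u} [CommRing R'] [Algebra R R'] {M : Type u} [CommGroup M]
    (e : R' ⊗[R] A ≃ₐc[R'] MonoidAlgebra R' M) (φ : C →ₐc[R] A) (r : R') (c : C) :
    splitHom e φ (r ⊗ₜ c) = r • e ((1 : R') ⊗ₜ φ c) := by
  change e (r ⊗ₜ φ c) = _
  rw [← map_smul, TensorProduct.smul_tmul', smul_eq_mul, mul_one]

theorem coeff_mem_map {R' : Type u} [CommRing R'] [Algebra R R'] {M : Type u} [CommGroup M]
    (e : R' ⊗[R] A ≃ₐc[R'] MonoidAlgebra R' M) {I : Ideal R} {x : A}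
    (hx : x ∈ I • (⊤ : Submodule R A)) (m : M) :
    (e ((1 : R') ⊗ₜ x)).coeff m ∈ I.map (algebraMap R R') := by
  refine Submodule.smul_induction_on hx (fun i hi a _ => ?_) (fun a b ha hb => ?_)
  · rw [TensorProduct.tmul_smul, ← algebraMap_smul R', map_smul, MonoidAlgebra.coeff_smul,
      Finsupp.smul_apply, smul_eq_mul]
    exact Ideal.mul_mem_right _ _ (Ideal.mem_map_of_mem _ hi)
  · rw [TensorProduct.tmul_add, map_add, MonoidAlgebra.coeff_add, Finsupp.add_apply]
    exact add_mem ha hb

/-- Two homomorphisms to a commutative group which agree modulo a nilpotent ideal are equal. -/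
theorem eq_of_congr [Coalgebra.IsCocomm R C] (hA : SGA3b.IsMultType R A) {I : Ideal R}
    (hI : IsNilpotent I) (φ ψ : C →ₐc[R] A)
    (h : ∀ c, φ c - ψ c ∈ I • (⊤ : Submodule R A)) : φ = ψ := by
  refine BialgHom.ext fun c => sub_eq_zero.1 (eq_zero_of_split hA _ fun R' _ _ hd => ?_)
  obtain ⟨M, _, ⟨e⟩⟩ := hd
  have hI' : IsNilpotent (I.map (algebraMap R R')) := by
    obtain ⟨n, hn⟩ := hI
    exact ⟨n, by rw [← Ideal.map_pow, hn, Ideal.zero_eq_bot, Ideal.map_bot]; rfl⟩
  have key : ((splitHom e φ : R' ⊗[R] C →ₐc[R'] MonoidAlgebra R' M) :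
      R' ⊗[R] C →ₗc[R'] MonoidAlgebra R' M) = (splitHom e ψ : _ →ₗc[R'] _) := by
    refine eq_of_congr_nilpotent _ _ hI' fun z m => ?_
    change (splitHom e φ z).coeff m - (splitHom e ψ z).coeff m ∈ _
    induction z using TensorProduct.induction_on with
    | zero => simp
    | tmul r c =>
      rw [splitHom_tmul, splitHom_tmul, MonoidAlgebra.coeff_smul, MonoidAlgebra.coeff_smul,
        Finsupp.smul_apply, Finsupp.smul_apply, ← smul_sub, ← Finsupp.sub_apply,
        ← MonoidAlgebra.coeff_sub, ← map_sub, ← TensorProduct.tmul_sub]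
      exact Ideal.mul_mem_left _ _ (coeff_mem_map e (h c) m)
    | add x y hx hy =>
      simp only [map_add, MonoidAlgebra.coeff_add, Finsupp.add_apply]
      rw [add_sub_add_comm]
      exact add_mem hx hy
  have h2 := DFunLike.congr_fun key ((1 : R') ⊗ₜ[R] c)
  change splitHom e φ _ = splitHom e ψ _ at h2
  rw [splitHom_tmul, splitHom_tmul, one_smul, one_smul] at h2
  rw [TensorProduct.tmul_sub, e.injective h2, sub_self]

/-- A homomorphism trivial modulo a nilpotent ideal is trivial. -/
theorem eq_trivial_of_congr (hA : SGA3b.IsMultType R A) {I : Ideal R} (hI : IsNilpotent I)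
    (φ : C →ₐc[R] A)
    (h : ∀ c, φ c - algebraMap R A (Coalgebra.counit c) ∈ I • (⊤ : Submodule R A)) (c : C) :
    φ c = algebraMap R A (Coalgebra.counit c) := by
  classical
  refine sub_eq_zero.1 (eq_zero_of_split hA _ fun R' _ _ hd => ?_)
  obtain ⟨M, _, ⟨e⟩⟩ := hd
  have hI' : IsNilpotent (I.map (algebraMap R R')) := by
    obtain ⟨n, hn⟩ := hI
    exact ⟨n, by rw [← Ideal.map_pow, hn, Ideal.zero_eq_bot, Ideal.map_bot]; rfl⟩
  have hsingle : ∀ d : C, MonoidAlgebra.single (1 : M)
      (Coalgebra.counit (R := R') ((1 : R') ⊗ₜ[R] d)) =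
        e ((1 : R') ⊗ₜ algebraMap R A (Coalgebra.counit d)) := by
    intro d
    rw [Algebra.algebraMap_eq_smul_one, TensorProduct.tmul_smul, ← algebraMap_smul R', map_smul,
      ← Algebra.TensorProduct.one_def, map_one, MonoidAlgebra.one_def, MonoidAlgebra.smul_single]
    simp [Algebra.smul_def]
  have key := eq_trivial_of_congr_nilpotent (M := M)
    ((splitHom e φ : R' ⊗[R] C →ₐc[R'] MonoidAlgebra R' M) :
      R' ⊗[R] C →ₗc[R'] MonoidAlgebra R' M) hI' (fun z m => by
    change (splitHom e φ z).coeff m - _ ∈ _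
    induction z using TensorProduct.induction_on with
    | zero => simp
    | tmul r d =>
      have hr : (r ⊗ₜ[R] d : R' ⊗[R] C) = r • ((1 : R') ⊗ₜ[R] d) := by
        rw [TensorProduct.smul_tmul', smul_eq_mul, mul_one]
      rw [hr, map_smul (Coalgebra.counit (R := R') (A := R' ⊗[R] C)), map_smul (splitHom e φ),
        splitHom_tmul, one_smul, ← MonoidAlgebra.smul_single, hsingle, MonoidAlgebra.coeff_smul,
        MonoidAlgebra.coeff_smul, Finsupp.smul_apply, Finsupp.smul_apply, ← smul_sub,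
        ← Finsupp.sub_apply, ← MonoidAlgebra.coeff_sub, ← map_sub, ← TensorProduct.tmul_sub]
      exact Ideal.mul_mem_left _ _ (coeff_mem_map e (h d) m)
    | add x y hx hy =>
      simp only [map_add, MonoidAlgebra.single_add, MonoidAlgebra.coeff_add, Finsupp.add_apply]
      rw [add_sub_add_comm]
      exact add_mem hx hy) ((1 : R') ⊗ₜ[R] c)
  change splitHom e φ _ = _ at key
  rw [splitHom_tmul, one_smul, hsingle] at key
  rw [TensorProduct.tmul_sub, e.injective key, sub_self]

end Groth.L25.MultType
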