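import Groth.Agent.L25.MultType.Deform
import Groth.Agent.L23.EtaleLift
import Mathlib.RingTheory.Spectrum.Prime.RingHom
import Mathlib.RingTheory.Spectrum.Prime.Topology
import Mathlib.RingTheory.IntegralClosure.IsIntegralClosure.Basic
import Mathlib.RingTheory.Flat.FaithfullyFlat.Algebra
import Mathlib.RingTheory.Smooth.Flat

/-!
# Etale splittings lift along nil thickenings of the base
-/

set_option autoImplicit false

universe u

open TensorProduct

namespace Groth.L25.MultType

/-- An etale faithfully flat splitting over a nil quotient lifts: there is an etale faithfully flat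
algebra, finite if the given one is, over a nil quotient of which the group is diagonalisable. -/
theorem exists_etale_lift_split {P B : Type u} [CommRing P] [CommRing B] [Algebra P B]
    (hπ : Function.Surjective (algebraMap P B))
    (hnil : ∀ x ∈ RingHom.ker (algebraMap P B), IsNilpotent x)
    {R₀ : Type u} [CommRing R₀] [Algebra B R₀] [Algebra.Etale B R₀] [Module.FaithfullyFlat B R₀]
    {A : Type u} [CommRing A] [HopfAlgebra P A]
    (hd : SGA3b.IsDiag R₀ (R₀ ⊗[B] (B ⊗[P] A))) :
    ∃ (T : Type u) (_ : CommRing T) (_ : Algebra P T),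
      Algebra.Etale P T ∧ Module.FaithfullyFlat P T ∧ (Module.Finite B R₀ → Module.Finite P T) ∧
      SGA3b.IsDiag (T ⧸ (RingHom.ker (algebraMap P B)).map (algebraMap P T))
        ((T ⧸ (RingHom.ker (algebraMap P B)).map (algebraMap P T)) ⊗[T] (T ⊗[P] A)) := by
  letI : Algebra P R₀ := ((algebraMap B R₀).comp (algebraMap P B)).toAlgebra
  haveI : IsScalarTower P B R₀ := IsScalarTower.of_algebraMap_eq fun _ => rfl
  obtain ⟨T, _, _, ψ, het, hψ, hker⟩ := Groth.L23.exists_etale_lift (C := R₀) hπ
  set K := RingHom.ker (algebraMap P B)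
  set J := K.map (algebraMap P T)
  have hJnil : J ≤ nilradical T := Ideal.map_le_iff_le_comap.2 fun x hx => (hnil x hx).map _
  have hflat : Module.Flat P T := inferInstance
  refine ⟨T, inferInstance, inferInstance, het, ?_, fun hfin => ?_, ?_⟩
  · refine Module.FaithfullyFlat.of_comap_surjective fun p => ?_
    have hKp : K ≤ p.asIdeal := fun x hx => by
      obtain ⟨n, hn⟩ := hnil x hx
      exact p.isPrime.mem_of_pow_mem n (hn ▸ p.asIdeal.zero_mem)
    obtain ⟨pB, hpB⟩ : ∃ pB : PrimeSpectrum B, PrimeSpectrum.comap (algebraMap P B) pB = p := by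
      have : p ∈ Set.range (PrimeSpectrum.comap (algebraMap P B)) := by
        rw [range_comap_of_surjective _ _ hπ]
        exact hKp
      exact this
    obtain ⟨w, hw⟩ := PrimeSpectrum.comap_surjective_of_faithfullyFlat (A := B) (B := R₀) pB
    refine ⟨PrimeSpectrum.comap ψ.toRingHom w, ?_⟩
    rw [← hpB, ← hw, ← PrimeSpectrum.comap_comp_apply, ← PrimeSpectrum.comap_comp_apply]
    have e1 : ψ.toRingHom.comp (algebraMap P T) = (algebraMap B R₀).comp (algebraMap P B) :=
      ψ.comp_algebraMap
    rw [e1]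
  · haveI : Module.Finite P R₀ := by
      haveI : Module.Finite P B := Module.Finite.of_surjective (Algebra.linearMap P B) hπ
      exact Module.Finite.trans B R₀
    haveI : Algebra.IsIntegral P T := ⟨fun x => by
      obtain ⟨g, hg, hgx⟩ := Algebra.IsIntegral.isIntegral (R := P) (ψ x)
      have h1 : Polynomial.aeval x g ∈ J := by
        rw [← hker, RingHom.mem_ker, ← Polynomial.aeval_algHom_apply]
        exact hgx
      obtain ⟨n, hn⟩ := mem_nilradical.1 (hJnil h1)
      exact ⟨g ^ n, hg.pow n, by rw [← Polynomial.aeval_def, map_pow, hn]⟩⟩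
    exact Algebra.IsIntegral.finite
  · let eT : (T ⧸ J) ≃ₐ[P] R₀ :=
      (Ideal.quotientEquivAlgOfEq P hker.symm).trans (Ideal.quotientKerAlgEquivOfSurjective hψ)
    letI : Algebra R₀ (T ⧸ J) := eT.symm.toAlgHom.toRingHom.toAlgebra
    haveI : IsScalarTower P R₀ (T ⧸ J) :=
      IsScalarTower.of_algebraMap_eq fun r => (eT.symm.commutes r).symm
    have h1 : SGA3b.IsDiag R₀ (R₀ ⊗[P] A) := isDiag_of_bialgEquiv (cancelBialg P B R₀ A) hd
    exact isDiag_of_bialgEquiv (cancelBialg P T (T ⧸ J) A).symm (isDiag_of_tower (T := T ⧸ J) h1)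

/-- Quasi-isotriviality of a flat group lifts along a nilpotent thickening. -/
theorem isQuasiIsotrivialConst_of_nilpotent {P B : Type u} [CommRing P] [CommRing B] [Algebra P B]
    (hπ : Function.Surjective (algebraMap P B)) (hker : IsNilpotent (RingHom.ker (algebraMap P B)))
    {A : Type u} [CommRing A] [HopfAlgebra P A] [Module.Flat P A]
    (h : SGA3b.IsQuasiIsotrivialConst B (B ⊗[P] A)) : SGA3b.IsQuasiIsotrivialConst P A := by
  obtain ⟨R₀, _, _, _, _, hd⟩ := h
  have hnil : ∀ x ∈ RingHom.ker (algebraMap P B), IsNilpotent x := by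
    obtain ⟨n, hn⟩ := hker
    intro x hx
    exact ⟨n, by simpa [hn] using Ideal.pow_mem_pow hx n⟩
  obtain ⟨T, _, _, het, hff, -, hd'⟩ := exists_etale_lift_split hπ hnil hd
  refine ⟨T, inferInstance, inferInstance, het, hff, isDiag_of_nilpotent ?_ hd'⟩
  obtain ⟨n, hn⟩ := hker
  exact ⟨n, by rw [← Ideal.map_pow, hn, Ideal.zero_eq_bot, Ideal.map_bot]; rfl⟩

/-- Same, for the isotrivial notion. -/
theorem isIsotrivial_of_nilpotent {P B : Type u} [CommRing P] [CommRing B] [Algebra P B]
    (hπ : Function.Surjective (algebraMap P B)) (hker : IsNilpotent (RingHom.ker (algebraMap P B)))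
    {A : Type u} [CommRing A] [HopfAlgebra P A] [Module.Flat P A]
    (h : SGA3b.IsIsotrivial B (B ⊗[P] A)) : SGA3b.IsIsotrivial P A := by
  obtain ⟨R₀, _, _, _, hfin, _, hd⟩ := h
  have hnil : ∀ x ∈ RingHom.ker (algebraMap P B), IsNilpotent x := by
    obtain ⟨n, hn⟩ := hker
    intro x hx
    exact ⟨n, by simpa [hn] using Ideal.pow_mem_pow hx n⟩
  obtain ⟨T, _, _, het, hff, hf, hd'⟩ := exists_etale_lift_split hπ hnil hd
  refine ⟨T, inferInstance, inferInstance, het, hf hfin, hff, isDiag_of_nilpotent ?_ hd'⟩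
  obtain ⟨n, hn⟩ := hker
  exact ⟨n, by rw [← Ideal.map_pow, hn, Ideal.zero_eq_bot, Ideal.map_bot]; rfl⟩

end Groth.L25.MultType
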