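import Groth.Prelude.Def_SGA3b
import Mathlib.RingTheory.Coalgebra.Convolution
import Mathlib.RingTheory.Coalgebra.MonoidAlgebra
import Mathlib.RingTheory.Idempotents
import Mathlib.RingTheory.Nilpotent.Basic

/-!
# Coalgebra maps into a group algebra are families of orthogonal idempotents

The coefficients of a coalgebra map `C → R[M]` are idempotents of the convolution algebra
`Hom_R(C, R)`; congruent idempotents are equal.
-/

set_option autoImplicit false

universe u v

open TensorProduct WithConv

namespace Groth.L25.MultType

variable {R : Type u} [CommRing R] {M : Type v}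

/-- The coefficient at `m`, as a linear map. -/
noncomputable def coefL (m : M) : MonoidAlgebra R M →ₗ[R] R :=
  Finsupp.lapply m ∘ₗ (MonoidAlgebra.coeffLinearEquiv R).toLinearMap

theorem coefL_apply (m : M) (x : MonoidAlgebra R M) : coefL m x = x.coeff m := rfl

theorem ext_coefL {x y : MonoidAlgebra R M} (h : ∀ m, coefL m x = coefL m y) : x = y :=
  MonoidAlgebra.ext (Finsupp.ext h)

theorem coefL_single [DecidableEq M] (m a : M) (r : R) :
    coefL m (MonoidAlgebra.single a r) = if a = m then r else 0 := by
  rw [coefL_apply, MonoidAlgebra.coeff_single, Finsupp.single_apply]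

/-- The coefficient functionals form orthogonal idempotents. -/
theorem coefL_mul [DecidableEq M] (a b : M) :
    toConv (coefL (R := R) a) * toConv (coefL b) = if a = b then toConv (coefL a) else 0 := by
  refine WithConv.ext (LinearMap.ext fun x => ?_)
  induction x using MonoidAlgebra.induction_linear with
  | zero => simp
  | add x y hx hy => simp only [map_add, hx, hy]
  | single m r =>
    simp only [LinearMap.convMul_def, LinearMap.comp_apply, WithConv.ofConv_toConv,
      MonoidAlgebra.comul_single, CommSemiring.comul_apply, TensorProduct.map_tmul,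
      MonoidAlgebra.lsingle_apply, LinearMap.mul'_apply, coefL_single]
    split_ifs with h1 h2 h3 h4 h5 <;> simp_all [coefL_single]

variable {C : Type*} [AddCommGroup C] [Module R C] [Coalgebra R C]

/-- The coefficient of a linear map into a group algebra, in the convolution algebra. -/
noncomputable def cf (m : M) (f : C →ₗ[R] MonoidAlgebra R M) : WithConv (C →ₗ[R] R) :=
  toConv (coefL m ∘ₗ f)

theorem cf_apply (m : M) (f : C →ₗ[R] MonoidAlgebra R M) (c : C) :
    (cf m f).ofConv c = (f c).coeff m := rfl

theorem isIdempotentElem_cf (f : C →ₗc[R] MonoidAlgebra R M) (m : M) :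
    IsIdempotentElem (cf m f.toLinearMap) := by
  classical
  refine WithConv.ext (LinearMap.ext fun c => ?_)
  have h := LinearMap.congr_fun (congrArg WithConv.ofConv (coefL_mul (R := R) m m)) (f c)
  rw [if_pos rfl] at h
  refine Eq.trans ?_ h
  simp only [cf, LinearMap.convMul_def, LinearMap.comp_apply, WithConv.ofConv_toConv]
  rw [← CoalgHomClass.map_comp_comul_apply f c, TensorProduct.map_map]
  rfl

theorem cf_mem_pow {I : Ideal R} {a b : ℕ} {x y : WithConv (C →ₗ[R] R)}
    (hx : ∀ c, x.ofConv c ∈ I ^ a) (hy : ∀ c, y.ofConv c ∈ I ^ b) (c : C) :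
    (x * y).ofConv c ∈ I ^ (a + b) := by
  simp only [LinearMap.convMul_def, LinearMap.comp_apply, WithConv.ofConv_toConv]
  generalize Coalgebra.comul (R := R) c = z
  induction z using TensorProduct.induction_on with
  | zero => simp
  | tmul p q =>
    rw [TensorProduct.map_tmul, LinearMap.mul'_apply, pow_add]
    exact Ideal.mul_mem_mul (hx p) (hy q)
  | add p q hp hq => rw [map_add, map_add]; exact add_mem hp hq

theorem isNilpotent_of_mem {I : Ideal R} (hI : IsNilpotent I) {x : WithConv (C →ₗ[R] R)}
    (hx : ∀ c, x.ofConv c ∈ I) : IsNilpotent x := by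
  obtain ⟨n, hn⟩ := hI
  have h : ∀ j c, (x ^ (j + 1)).ofConv c ∈ I ^ (j + 1) := by
    intro j
    induction j with
    | zero => simpa using hx
    | succ j ih =>
      intro c
      rw [pow_succ x (j + 1)]
      exact cf_mem_pow ih (fun c => by simpa using hx c) c
  refine ⟨n + 1, WithConv.ext (LinearMap.ext fun c => ?_)⟩
  have := h n c
  rw [pow_succ I n, hn, zero_mul, Ideal.zero_eq_bot, Ideal.mem_bot] at this
  simpa using this

/-- Congruent coalgebra maps from a cocommutative coalgebra into a group algebra are equal. -/
theorem eq_of_congr_nilpotent [Coalgebra.IsCocomm R C] (f g : C →ₗc[R] MonoidAlgebra R M)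
    {I : Ideal R} (hI : IsNilpotent I) (h : ∀ c m, (f c).coeff m - (g c).coeff m ∈ I) : f = g := by
  refine CoalgHom.ext fun c => ext_coefL fun m => ?_
  have := eq_of_isNilpotent_sub_of_isIdempotentElem (isIdempotentElem_cf f m)
    (isIdempotentElem_cf g m) (isNilpotent_of_mem hI fun c => by
      simpa [cf_apply] using h c m)
  exact LinearMap.congr_fun (congrArg WithConv.ofConv this) c

variable [DecidableEq M] [One M]

theorem one_eq_cf_trivial (f : C →ₗ[R] MonoidAlgebra R M)
    (hf : ∀ c, f c = MonoidAlgebra.single 1 (Coalgebra.counit (R := R) c)) (m : M) :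
    cf m f = if m = 1 then 1 else 0 := by
  refine WithConv.ext (LinearMap.ext fun c => ?_)
  rw [cf_apply, hf, MonoidAlgebra.coeff_single, Finsupp.single_apply]
  by_cases h : m = 1
  · subst h
    rw [if_pos rfl, if_pos rfl]
    exact (Algebra.algebraMap_self_apply _).symm
  · rw [if_neg (Ne.symm h), if_neg h]
    rfl

/-- A coalgebra map into a group algebra congruent to the trivial one is trivial. -/
theorem eq_trivial_of_congr_nilpotent (f : C →ₗc[R] MonoidAlgebra R M) {I : Ideal R}
    (hI : IsNilpotent I)
    (h : ∀ c m, (f c).coeff m -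
      (MonoidAlgebra.single (1 : M) (Coalgebra.counit (R := R) c)).coeff m ∈ I) (c : C) :
    f c = MonoidAlgebra.single 1 (Coalgebra.counit (R := R) c) := by
  let t : C →ₗ[R] MonoidAlgebra R M := MonoidAlgebra.lsingle 1 ∘ₗ Coalgebra.counit
  refine ext_coefL fun m => ?_
  have hidem : IsIdempotentElem (cf m t) := by
    rw [one_eq_cf_trivial t (fun c => rfl) m]
    split_ifs
    exacts [IsIdempotentElem.one, IsIdempotentElem.zero]
  have hcomm : Commute (cf m f.toLinearMap) (cf m t) := by
    rw [one_eq_cf_trivial t (fun c => rfl) m]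
    split_ifs
    exacts [Commute.one_right _, Commute.zero_right _]
  have := eq_of_isNilpotent_sub_of_isIdempotentElem_of_commute (isIdempotentElem_cf f m) hidem
    (isNilpotent_of_mem hI fun c => by simpa [cf_apply, t] using h c m) hcomm
  exact LinearMap.congr_fun (congrArg WithConv.ofConv this) c

end Groth.L25.MultType
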