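import Groth.Agent.L25.MultType.Rigid
import Groth.Agent.L25.MultType.Diag
import Groth.Agent.L01.ProjDescent
import Mathlib.RingTheory.Nakayama
import Mathlib.RingTheory.Filtration
import Mathlib.RingTheory.FiniteType

/-!
# Rigidity over a local base
-/

set_option autoImplicit false

universe u v

open TensorProduct WithConv

namespace Groth.L25.MultType

section coeff

variable {R : Type u} [CommRing R] [IsLocalRing R] {M : Type v} [CommGroup M] {C : Type u}
  [CommRing C] [Bialgebra R C] [Algebra.FiniteType R C]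

/-- Coefficientwise congruent idempotent families agree when finitely generated. -/
theorem eq_of_congr_local_aux (f g : C →ₐ[R] MonoidAlgebra R M)
    (lf lg : C →ₗ[R] MonoidAlgebra R M) (hlf : ∀ c, lf c = f c) (hlg : ∀ c, lg c = g c)
    (δ3 : ∀ m, (cf m lf - cf m lg) ^ 3 = cf m lf - cf m lg)
    (h : ∀ c m, (f c).coeff m - (g c).coeff m ∈ IsLocalRing.maximalIdeal R) : f = g := by
  classical
  obtain ⟨t, ht⟩ := ‹Algebra.FiniteType R C›.out
  let J : Ideal R := Ideal.span
    ↑(t.biUnion fun x => (f x - g x).coeff.support.image fun m => (f x - g x).coeff m)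
  have hJgen : ∀ x ∈ t, ∀ m, (f x - g x).coeff m ∈ J := by
    intro x hx m
    by_cases hm : (f x - g x).coeff m = 0
    · rw [hm]; exact zero_mem _
    · exact Ideal.subset_span (Finset.mem_biUnion.2
        ⟨x, hx, Finset.mem_image_of_mem _ (Finsupp.mem_support_iff.2 hm)⟩)
  have hJ : ∀ c m, (f c).coeff m - (g c).coeff m ∈ J := by
    let q : MonoidAlgebra R M →ₐ[R] MonoidAlgebra (R ⧸ J) M :=
      MonoidAlgebra.mapAlgHom M (Ideal.Quotient.mkₐ R J)
    have hq : q.comp f = q.comp g := by
      refine AlgHom.ext_of_adjoin_eq_top ht fun x hx => ?_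
      refine sub_eq_zero.1 ?_
      rw [AlgHom.comp_apply, AlgHom.comp_apply, ← map_sub]
      refine MonoidAlgebra.ext (Finsupp.ext fun m => ?_)
      simpa [q, sub_eq_zero, Ideal.Quotient.eq] using hJgen x hx m
    intro c m
    have := congrArg (fun z : MonoidAlgebra (R ⧸ J) M => z.coeff m) (AlgHom.congr_fun hq c)
    simpa [q, Ideal.Quotient.eq] using this
  have hJbot : J = ⊥ := by
    refine Submodule.eq_bot_of_le_smul_of_le_jacobson_bot (IsLocalRing.maximalIdeal R) J
      ⟨_, rfl⟩ ?_ (IsLocalRing.maximalIdeal_le_jacobson _)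
    refine Ideal.span_le.2 fun r hr => ?_
    simp only [Finset.coe_biUnion, Set.mem_iUnion, Finset.coe_image, Set.mem_image] at hr
    obtain ⟨x, -, m, -, rfl⟩ := hr
    rw [MonoidAlgebra.coeff_sub, Finsupp.sub_apply]
    have key : (cf m lf - cf m lg).ofConv x ∈
        (IsLocalRing.maximalIdeal R * J) := by
      set δ := cf m lf - cf m lg with hδ
      have hval : ∀ c, δ.ofConv c = (f c).coeff m - (g c).coeff m := fun c => by
        rw [← hlf, ← hlg]
        rfl
      have hm : ∀ c, δ.ofConv c ∈ IsLocalRing.maximalIdeal R := fun c => hval c ▸ h c m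
      have hj : ∀ c, δ.ofConv c ∈ J := fun c => hval c ▸ hJ c m
      have h3 : δ ^ 3 = δ := δ3 m
      rw [← h3, pow_succ, pow_two]
      simp only [LinearMap.convMul_def, LinearMap.comp_apply, WithConv.ofConv_toConv]
      generalize Coalgebra.comul (R := R) x = z
      induction z using TensorProduct.induction_on with
      | zero => simp
      | tmul p q =>
        rw [TensorProduct.map_tmul, LinearMap.mul'_apply]
        refine Ideal.mul_mem_mul ?_ (hj q)
        simp only [LinearMap.comp_apply]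
        generalize Coalgebra.comul (R := R) p = w
        induction w using TensorProduct.induction_on with
        | zero => simp
        | tmul a b =>
          rw [TensorProduct.map_tmul, LinearMap.mul'_apply]
          exact Ideal.mul_mem_right _ _ (hm a)
        | add a b ha hb => rw [map_add, map_add]; exact add_mem ha hb
      | add a b ha hb => rw [map_add, map_add]; exact add_mem ha hb
    rw [← hlf, ← hlg]
    exact key
  refine AlgHom.ext fun c => ext_coefL fun m => ?_
  have := hJ c m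
  rw [hJbot, Ideal.mem_bot, sub_eq_zero] at this
  exact this

end coeff

theorem cube_eq {E : Type*} [Ring E] {e₁ e₂ : E} (he₁ : IsIdempotentElem e₁)
    (he₂ : IsIdempotentElem e₂) (H' : Commute e₁ e₂) : (e₁ - e₂) ^ 3 = e₁ - e₂ := by
  simp only [pow_succ, pow_zero, mul_sub, one_mul, sub_mul, he₁.eq, he₂.eq, H'.eq, mul_assoc]
  simp only [← mul_assoc, he₂.eq]
  abel

variable {R : Type u} [CommRing R] [IsLocalRing R] {A : Type u} [CommRing A] [HopfAlgebra R A]
  {C : Type u} [CommRing C] [HopfAlgebra R C]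

theorem coeff_splitHom_congr {R' : Type u} [CommRing R'] [Algebra R R'] [IsLocalRing R']
    [IsLocalHom (algebraMap R R')] {M : Type u} [CommGroup M]
    (e : R' ⊗[R] A ≃ₐc[R'] MonoidAlgebra R' M) {x : A}
    (hx : x ∈ Ideal.map (algebraMap R A) (IsLocalRing.maximalIdeal R)) (m : M) :
    (e ((1 : R') ⊗ₜ x)).coeff m ∈ IsLocalRing.maximalIdeal R' := by
  have hx' : x ∈ IsLocalRing.maximalIdeal R • (⊤ : Submodule R A) := by
    rw [Ideal.smul_top_eq_map]; exact hx
  refine (Ideal.map_le_iff_le_comap.2 fun r hr => ?_) (coeff_mem_map e hx' m)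
  exact map_nonunit (algebraMap R R') r hr

theorem eq_of_congr_local [Coalgebra.IsCocomm R C] [Algebra.FiniteType R C]
    (hA : SGA3b.IsMultType R A) (φ ψ : C →ₐc[R] A)
    (h : ∀ c, φ c - ψ c ∈ Ideal.map (algebraMap R A) (IsLocalRing.maximalIdeal R)) : φ = ψ := by
  obtain ⟨R', _, _, _, _, hff, hd⟩ := exists_local_split hA
  obtain ⟨M, _, ⟨e⟩⟩ := hd
  have key : (splitHom e φ : R' ⊗[R] C →ₐ[R'] MonoidAlgebra R' M) = (splitHom e ψ : _ →ₐ[R'] _) := by
    let lf : R' ⊗[R] C →ₗc[R'] MonoidAlgebra R' M := splitHom e φ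
    let lg : R' ⊗[R] C →ₗc[R'] MonoidAlgebra R' M := splitHom e ψ
    refine eq_of_congr_local_aux _ _ lf.toLinearMap lg.toLinearMap (fun _ => rfl) (fun _ => rfl)
      (fun m => ?_) fun z m => ?_
    · exact cube_eq (isIdempotentElem_cf lf m) (isIdempotentElem_cf lg m) (Commute.all _ _)
    change (splitHom e φ z).coeff m - (splitHom e ψ z).coeff m ∈ _
    induction z using TensorProduct.induction_on with
    | zero => simp
    | tmul r c =>
      rw [splitHom_tmul, splitHom_tmul, MonoidAlgebra.coeff_smul, MonoidAlgebra.coeff_smul,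
        Finsupp.smul_apply, Finsupp.smul_apply, ← smul_sub, ← Finsupp.sub_apply,
        ← MonoidAlgebra.coeff_sub, ← map_sub, ← TensorProduct.tmul_sub]
      exact Ideal.mul_mem_left _ _ (coeff_splitHom_congr e (h c) m)
    | add x y hx hy =>
      simp only [map_add, MonoidAlgebra.coeff_add, Finsupp.add_apply]
      rw [add_sub_add_comm]
      exact add_mem hx hy
  refine BialgHom.ext fun c => ?_
  have h2 := AlgHom.congr_fun key ((1 : R') ⊗ₜ[R] c)
  change splitHom e φ _ = splitHom e ψ _ at h2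
  rw [splitHom_tmul, splitHom_tmul, one_smul, one_smul] at h2
  exact Module.FaithfullyFlat.tensorProduct_mk_injective A (e.injective h2)

theorem eq_trivial_of_congr_local [Algebra.FiniteType R C]
    (hA : SGA3b.IsMultType R A) (φ : C →ₐc[R] A)
    (h : ∀ c, φ c - algebraMap R A (Coalgebra.counit c) ∈
      Ideal.map (algebraMap R A) (IsLocalRing.maximalIdeal R)) (c : C) :
    φ c = algebraMap R A (Coalgebra.counit c) := by
  classical
  obtain ⟨R', _, _, _, _, hff, hd⟩ := exists_local_split hA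
  obtain ⟨M, _, ⟨e⟩⟩ := hd
  let t : R' ⊗[R] C →ₐ[R'] MonoidAlgebra R' M :=
    (Algebra.ofId R' (MonoidAlgebra R' M)).comp (Bialgebra.counitAlgHom R' (R' ⊗[R] C))
  have ht : ∀ z, t z = MonoidAlgebra.single 1 (Coalgebra.counit (R := R') z) := by
    intro z
    change algebraMap R' (MonoidAlgebra R' M) _ = _
    rw [MonoidAlgebra.coe_algebraMap]
    rfl
  have ht1 : ∀ d : C, t ((1 : R') ⊗ₜ d) = e ((1 : R') ⊗ₜ algebraMap R A (Coalgebra.counit d)) := by
    intro d
    rw [Algebra.algebraMap_eq_smul_one, TensorProduct.tmul_smul, ← algebraMap_smul R', map_smul,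
      ← Algebra.TensorProduct.one_def, map_one, ← Algebra.algebraMap_eq_smul_one]
    change algebraMap R' (MonoidAlgebra R' M) (Coalgebra.counit (R := R') ((1 : R') ⊗ₜ[R] d)) = _
    congr 1
    simp [Algebra.smul_def]
  have key : (splitHom e φ : R' ⊗[R] C →ₐ[R'] MonoidAlgebra R' M) = t := by
    let lf : R' ⊗[R] C →ₗc[R'] MonoidAlgebra R' M := splitHom e φ
    refine eq_of_congr_local_aux _ _ lf.toLinearMap t.toLinearMap (fun _ => rfl) (fun _ => rfl)
      (fun m => ?_) fun z m => ?_
    · refine cube_eq (isIdempotentElem_cf lf m) ?_ ?_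
      · rw [one_eq_cf_trivial t.toLinearMap ht m]
        split_ifs
        exacts [IsIdempotentElem.one, IsIdempotentElem.zero]
      · rw [one_eq_cf_trivial t.toLinearMap ht m]
        split_ifs
        exacts [Commute.one_right _, Commute.zero_right _]
    change (splitHom e φ z).coeff m - (t z).coeff m ∈ _
    induction z using TensorProduct.induction_on with
    | zero => simp
    | tmul r d =>
      have hr : (r ⊗ₜ[R] d : R' ⊗[R] C) = r • ((1 : R') ⊗ₜ[R] d) := by
        rw [TensorProduct.smul_tmul', smul_eq_mul, mul_one]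
      rw [hr, map_smul t, map_smul (splitHom e φ), splitHom_tmul, one_smul, ht1,
        MonoidAlgebra.coeff_smul, MonoidAlgebra.coeff_smul, Finsupp.smul_apply, Finsupp.smul_apply,
        ← smul_sub, ← Finsupp.sub_apply, ← MonoidAlgebra.coeff_sub, ← map_sub,
        ← TensorProduct.tmul_sub]
      exact Ideal.mul_mem_left _ _ (coeff_splitHom_congr e (h d) m)
    | add x y hx hy =>
      simp only [map_add, MonoidAlgebra.coeff_add, Finsupp.add_apply]
      rw [add_sub_add_comm]
      exact add_mem hx hy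
  have h2 := AlgHom.congr_fun key ((1 : R') ⊗ₜ[R] c)
  change splitHom e φ _ = t _ at h2
  rw [splitHom_tmul, one_smul, ht1] at h2
  exact Module.FaithfullyFlat.tensorProduct_mk_injective A (e.injective h2)

omit [IsLocalRing R] in
theorem trivial_tmul (T : Type u) [CommRing T] [Algebra R T] (d : C) :
    algebraMap T (T ⊗[R] A) (Coalgebra.counit (R := T) ((1 : T) ⊗ₜ[R] d)) =
      (1 : T) ⊗ₜ[R] algebraMap R A (Coalgebra.counit d) := by
  rw [Algebra.TensorProduct.algebraMap_apply, Algebra.algebraMap_eq_smul_one (A := A),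
    TensorProduct.tmul_smul, TensorProduct.smul_tmul']
  simp [Algebra.smul_def]

/-- Over a Noetherian local ring, any target. -/
theorem eq_trivial_of_congr_noetherian [IsNoetherianRing R] (hA : SGA3b.IsMultType R A)
    (φ : C →ₐc[R] A)
    (h : ∀ c, φ c - algebraMap R A (Coalgebra.counit c) ∈
      Ideal.map (algebraMap R A) (IsLocalRing.maximalIdeal R)) (c : C) :
    φ c = algebraMap R A (Coalgebra.counit c) := by
  classical
  obtain ⟨R', _, _, _, _, hff, hd⟩ := exists_local_split hA
  obtain ⟨M, _, ⟨e⟩⟩ := hd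
  haveI : Module.Free R' (R' ⊗[R] A) :=
    Module.Free.of_equiv (e.toLinearEquiv.trans (MonoidAlgebra.coeffLinearEquiv R')).symm
  haveI : Module.Projective R A := Groth.L01.ProjDescent.projective (S := R') (M := A)
  have hdiff : ∀ n, φ c - algebraMap R A (Coalgebra.counit c) ∈
      IsLocalRing.maximalIdeal R ^ n • (⊤ : Submodule R A) := by
    intro n
    rcases n with _ | n
    · rw [pow_zero, Ideal.one_eq_top, Submodule.top_smul]; trivial
    let 𝔪 := IsLocalRing.maximalIdeal R ^ (n + 1)
    let φn : (R ⧸ 𝔪) ⊗[R] C →ₐc[R ⧸ 𝔪] (R ⧸ 𝔪) ⊗[R] A :=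
      Bialgebra.TensorProduct.map (BialgHom.id _ _) φ
    have hnil : IsNilpotent ((IsLocalRing.maximalIdeal R).map (Ideal.Quotient.mk 𝔪)) :=
      ⟨n + 1, by rw [← Ideal.map_pow, Ideal.map_quotient_self, Ideal.zero_eq_bot]⟩
    have hAn : SGA3b.IsMultType (R ⧸ 𝔪) ((R ⧸ 𝔪) ⊗[R] A) :=
      isMultType_baseChange hA
    have h1 := eq_trivial_of_congr hAn hnil φn (fun z => ?_) ((1 : R ⧸ 𝔪) ⊗ₜ[R] c)
    · refine mem_smul_top_of_one_tmul_eq_zero ?_
      rw [TensorProduct.tmul_sub, sub_eq_zero]
      exact (show φn ((1 : R ⧸ 𝔪) ⊗ₜ[R] c) = _ from h1).trans (trivial_tmul _ c)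
    induction z using TensorProduct.induction_on with
    | zero => simp
    | tmul r d =>
      have hr : (r ⊗ₜ[R] d : (R ⧸ 𝔪) ⊗[R] C) = r • ((1 : R ⧸ 𝔪) ⊗ₜ[R] d) := by
        rw [TensorProduct.smul_tmul', smul_eq_mul, mul_one]
      have h2 : φn ((1 : R ⧸ 𝔪) ⊗ₜ[R] d) - algebraMap (R ⧸ 𝔪) _
          (Coalgebra.counit ((1 : R ⧸ 𝔪) ⊗ₜ[R] d)) =
          (1 : R ⧸ 𝔪) ⊗ₜ[R] (φ d - algebraMap R A (Coalgebra.counit d)) := by
        rw [TensorProduct.tmul_sub, trivial_tmul]
        rfl
      rw [hr, map_smul φn, map_smul (Coalgebra.counit (R := R ⧸ 𝔪) (A := (R ⧸ 𝔪) ⊗[R] C)),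
        smul_eq_mul, map_mul, ← Algebra.smul_def r (algebraMap (R ⧸ 𝔪) ((R ⧸ 𝔪) ⊗[R] A) _), ← smul_sub, h2]
      refine Submodule.smul_mem _ r ?_
      have h3 : φ d - algebraMap R A (Coalgebra.counit d) ∈
          IsLocalRing.maximalIdeal R • (⊤ : Submodule R A) := by
        rw [Ideal.smul_top_eq_map]; exact h d
      refine Submodule.smul_induction_on h3 (fun i hi a _ => ?_) (fun a b ha hb => ?_)
      · rw [TensorProduct.tmul_smul, ← algebraMap_smul (R ⧸ 𝔪) i]
        exact Submodule.smul_mem_smul (Ideal.mem_map_of_mem _ hi) trivial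
      · rw [TensorProduct.tmul_add]; exact add_mem ha hb
    | add x y hx hy =>
      simp only [map_add]
      rw [add_sub_add_comm]
      exact add_mem hx hy
  obtain ⟨ι, hι⟩ := Module.projective_def.1 ‹Module.Projective R A›
  refine sub_eq_zero.1 (hι.injective (Finsupp.ext fun a => ?_))
  rw [map_zero, Finsupp.zero_apply, ← Ideal.mem_bot,
    ← Ideal.iInf_pow_eq_bot_of_isLocalRing (IsLocalRing.maximalIdeal R)
      (IsLocalRing.maximalIdeal.isMaximal R).ne_top, Submodule.mem_iInf]
  intro n
  refine Submodule.smul_induction_on (hdiff n) (fun i hi b _ => ?_) (fun x y hx hy => ?_)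
  · rw [map_smul, Finsupp.smul_apply, smul_eq_mul]
    exact Ideal.mul_mem_right _ _ hi
  · rw [map_add, Finsupp.add_apply]; exact add_mem hx hy

end Groth.L25.MultType
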